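import Groth.Agent.HypX.IdealTwist
import Groth.Agent.S4466
import Groth.Agent.S2926
import Groth.Agent.S0844
import Groth.Agent.S0843
import Groth.Agent.CurveCohLib.Nonspecial
import Groth.Agent.PnCoh.Finite.HHLin
import Groth.Agent.QCoh.PushLin
import Groth.Agent.ParShLib.ResStalk
import Groth.Agent.CurveBC.Geometry

/-!
The cohomology of the structure sheaf of a plane curve of degree `d`.
-/

noncomputable section

set_option autoImplicit false
set_option linter.style.haveILetI false
set_option linter.unusedSectionVars false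
set_option backward.isDefEq.respectTransparency false
set_option backward.isDefEq.respectTransparency.types false

universe u

open CategoryTheory CategoryTheory.Limits AlgebraicGeometry TopologicalSpace Opposite
open Groth.Agent.PnCoh.Finite (mapLin deltaLin)

namespace Groth.Agent.HypX

variable {k : Type u} [Field k]

theorem two_mul_choose_two (x : ℤ) : 2 * Ring.choose x 2 = x * (x - 1) := by
  have h := Ring.descPochhammer_eq_factorial_smul_choose x 2
  rw [Nat.factorial_two, nsmul_eq_mul] at h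
  simp [descPochhammer, Polynomial.smeval_mul, Polynomial.smeval_comp] at h
  linear_combination -h

theorem finrank_h2_twist (d : ℕ) (hd : 1 ≤ d) :
    Module.finrank k (Coh.HH (CohB1.ProjSpace 2 k) (Twist.twistProjSpace 2 k (-(d : ℤ))) 2) =
      (d - 1) * (d - 2) / 2 := by
  have h := Groth.Agent.S4466.result k 2 two_pos (-(d : ℤ))
  haveI h0 := Groth.Agent.S0844.result k 2 (-(d : ℤ)) 0 (fun h => by omega) (fun h => by omega)
  haveI h1 := Groth.Agent.S0844.result k 2 (-(d : ℤ)) 1 (fun h => by omega) (fun h => by omega)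
  simp only [Finset.sum_range_succ, Finset.sum_range_zero] at h
  rw [Module.finrank_zero_of_subsingleton, Module.finrank_zero_of_subsingleton] at h
  norm_num at h
  have h2 := two_mul_choose_two (-(d : ℤ) + 2)
  rw [← h] at h2
  rcases (by omega : d = 1 ∨ 2 ≤ d) with rfl | hd2
  · norm_num at h2 ⊢; omega
  · have hcast : (((d - 1) * (d - 2) : ℕ) : ℤ) = ((d : ℤ) - 1) * ((d : ℤ) - 2) := by
      push_cast [Nat.cast_sub (by omega : 1 ≤ d), Nat.cast_sub hd2]; ring
    have h3 : (d - 1) * (d - 2) = 2 * Module.finrank k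
        (Coh.HH (CohB1.ProjSpace 2 k) (Twist.twistProjSpace 2 k (-(d : ℤ))) 2) := by
      have : (((d - 1) * (d - 2) : ℕ) : ℤ) = ((2 * Module.finrank k
          (Coh.HH (CohB1.ProjSpace 2 k) (Twist.twistProjSpace 2 k (-(d : ℤ))) 2) : ℕ) : ℤ) := by
        rw [hcast]; push_cast; linear_combination -h2
      exact_mod_cast this
    omega

/-- The structure sheaf is `O(0)`. -/
def unitIso {n : ℕ} : Coh.structureModule (CohB1.ProjSpace n k) ≅ Twist.twistProjSpace n k ((0 : ℕ) : ℤ) :=
  haveI := isIso_unitHom (n := n) (k := k)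
  asIso (unitHom (n := n) (k := k))

section Seq

theorem map_g_injective {Y : TopCat.{u}} {S : ShortComplex (CohTop.Ab Y)} (hS : S.ShortExact) (n : ℕ)
    [Subsingleton (CohTop.H S.X₁ n)] : Function.Injective (Sheaf.H.map S.g n) :=
  (injective_iff_map_eq_zero _).2 fun x hx => by
    obtain ⟨y, rfl⟩ := Abelian.Ext.covariant_sequence_exact₂ _ hS x hx
    rw [show y = 0 from Subsingleton.elim (α := CohTop.H S.X₁ n) _ _]
    exact Abelian.Ext.zero_comp _ _ _ _ _

variable {X : Scheme.{u}} [X.Over (Spec (CommRingCat.of k))] {S : ShortComplex X.Modules} (hS : S.ShortExact) (n : ℕ)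

include hS

theorem finrank_right_of_left (h1 : Subsingleton (Coh.HH X S.X₁ n)) (h1' : Subsingleton (Coh.HH X S.X₁ (n + 1))) :
    Module.finrank k (Coh.HH X S.X₃ n) = Module.finrank k (Coh.HH X S.X₂ n) := by
  haveI : Subsingleton (CohTop.H (X := X.toPresheafedSpace.carrier) (S.map (QCoh.toAbFunctor X)).X₁ n) := h1
  exact (LinearEquiv.finrank_eq (LinearEquiv.ofBijective (mapLin k S.g n)
    ⟨map_g_injective (Y := X.toPresheafedSpace.carrier) (QCoh.toAb_shortExact hS) n,
      fun x => PnCoh.Finite.exists_of_deltaLin_eq_zero k hS n (h1'.elim _ _)⟩)).symm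

theorem finrank_right_of_middle (h2 : Subsingleton (Coh.HH X S.X₂ n)) (h2' : Subsingleton (Coh.HH X S.X₂ (n + 1))) :
    Module.finrank k (Coh.HH X S.X₃ n) = Module.finrank k (Coh.HH X S.X₁ (n + 1)) :=
  LinearEquiv.finrank_eq (LinearEquiv.ofBijective (deltaLin k hS n)
    (QCoh.Ab.connecting_bijective (X := X.toPresheafedSpace.carrier) (QCoh.toAb_shortExact hS) n h2 h2'))

end Seq

variable {d : ℕ} (G : LefPen.Form 2 k d)

/-- The cohomology of the quotient by the ideal of a plane curve. -/
theorem finrank_quot (hd : 1 ≤ d) (hG : G ≠ 0) :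
    Module.finrank k (Coh.HH (CohB1.ProjSpace 2 k) (ClSub.quotMod (LefPen.hypIdeal G)) 0) = 1 ∧
    Module.finrank k (Coh.HH (CohB1.ProjSpace 2 k) (ClSub.quotMod (LefPen.hypIdeal G)) 1) = (d - 1) * (d - 2) / 2 := by
  set I := LefPen.hypIdeal G
  haveI : IsProper ((CohB1.ProjSpace 2 k) ↘ Spec (CommRingCat.of k)) := PnCoh.Chow.isProper_toSpec 2 k
  haveI := H23.PnChart.isIntegral_projSpace 2 k
  have hS := CurveCohLib.Nonspecial.ideal_shortExact I
  obtain ⟨e⟩ := nonempty_iso_idealMod G hG
  have hI : ∀ q, q < 2 → Subsingleton (Coh.HH (CohB1.ProjSpace 2 k) (ClSub.idealMod I) q) := fun q hq => by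
    haveI := Groth.Agent.S0844.result k 2 (-(d : ℤ)) q (fun h => by omega) (fun h => by omega)
    exact (S2926.hhIso k e q).toEquiv.subsingleton
  have hO : ∀ q, 0 < q → Subsingleton (Coh.HH (CohB1.ProjSpace 2 k) (Coh.structureModule (CohB1.ProjSpace 2 k)) q) :=
    fun q hq => by
      haveI := Groth.Agent.S0844.result k 2 ((0 : ℕ) : ℤ) q (fun h => by omega) (fun h => by omega)
      exact (S2926.hhIso k (unitIso (k := k) (n := 2)) q).toEquiv.subsingleton
  constructor
  · obtain ⟨φ⟩ := Groth.Agent.S0843.result k 2 0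
    have h1 : Module.finrank k (Coh.HH (CohB1.ProjSpace 2 k) (Coh.structureModule (CohB1.ProjSpace 2 k)) 0) = 1 := by
      rw [(S2926.hhIso k (unitIso (k := k) (n := 2)) 0).finrank_eq, φ.finrank_eq,
        (ComodLib.GradedAug.finrank_homogeneous (k := k) (2 + 1) 0).2]
      rfl
    exact (finrank_right_of_left hS 0 (hI 0 two_pos) (hI 1 one_lt_two)).trans h1
  · rw [← finrank_h2_twist (k := k) d hd, ← (S2926.hhIso k e 2).finrank_eq]
    exact finrank_right_of_middle hS 1 (hO 1 one_pos) (hO 2 two_pos)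

/-- The cohomology of a plane curve of degree `d`, and its connectedness. -/
theorem plane_curve (hd : 1 ≤ d) (hG : G ≠ 0)
    [inst : ((LefPen.hypIdeal G).subscheme).Over (Spec (CommRingCat.of k))]
    (hinst : (LefPen.hypIdeal G).subscheme ↘ (Spec (CommRingCat.of k)) =
      (LefPen.hypIdeal G).subschemeι ≫ CohB1.ProjSpace.toSpec 2 k) :
    Module.finrank k (Coh.HH (LefPen.hypIdeal G).subscheme (Coh.structureModule (LefPen.hypIdeal G).subscheme) 0) = 1 ∧
      ConnectedSpace ↥((LefPen.hypIdeal G).subscheme) ∧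
      Module.finrank k (Coh.HH (LefPen.hypIdeal G).subscheme (Coh.structureModule (LefPen.hypIdeal G).subscheme) 1) =
        (d - 1) * (d - 2) / 2 := by
  obtain ⟨h0, h1⟩ := finrank_quot G hd hG
  have he : ∀ i : ℕ, Module.finrank k
      (Coh.HH (LefPen.hypIdeal G).subscheme (Coh.structureModule (LefPen.hypIdeal G).subscheme) i) =
        Module.finrank k (Coh.HH (CohB1.ProjSpace 2 k) (ClSub.quotMod (LefPen.hypIdeal G)) i) := fun i => by
    obtain ⟨e⟩ := QCoh.HH_push_linear (LefPen.hypIdeal G).subschemeι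
      (Coh.toGlobal ((CohB1.ProjSpace 2 k) ↘ Spec (CommRingCat.of k)))
      (Coh.toGlobal ((LefPen.hypIdeal G).subscheme ↘ Spec (CommRingCat.of k))) (fun a => by
        show Coh.toGlobal (_ ↘ _) a = _
        rw [hinst]; rfl)
      (QCoh.isQCoh_structureModule (X := (LefPen.hypIdeal G).subscheme)) i
    exact e.finrank_eq
  exact ⟨(he 0).trans h0, CurveBC.connectedSpace_of_h0 k _ ((he 0).trans h0), (he 1).trans h1⟩

end Groth.Agent.HypX
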