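import Groth.Agent.HypX.Basic
import Groth.Agent.IdealSub.OfMono
import Groth.Agent.PnCoh.TwistQCoh
import Groth.Agent.PnCoh.Unit
import Groth.Agent.Lib.PnDualMul
import Groth.Agent.InvX.Tensor
import Groth.Agent.GrModX.AffineIso
import Groth.Agent.H23.PnChart
import Groth.Prelude.Def_ClSub2

/-!
The ideal sheaf of a hypersurface of degree `d` is `O(-d)`.
-/

noncomputable section

set_option autoImplicit false
set_option linter.style.haveILetI false
set_option linter.unusedSectionVars false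
set_option backward.isDefEq.respectTransparency false
set_option backward.isDefEq.respectTransparency.types false

universe u

open CategoryTheory CategoryTheory.Limits AlgebraicGeometry TopologicalSpace Opposite
open Groth.Agent.ZetaLib
open HomogeneousLocalization (Away)

namespace Groth.Agent.HypX

variable {n : ℕ} {k : Type u} [Field k]

local notation "𝒢" => CohB1.polyGrading n k
local notation "T" => (MvPolynomial.X : Fin (n + 1) → MvPolynomial (Fin (n + 1)) k)
local notation "ℙ" => CohB1.ProjSpace n k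

attribute [local instance] MvPolynomial.gradedAlgebra

theorem nonVan (i : Fin (n + 1)) {U : TopologicalSpace.Opens (ProjectiveSpectrum.top 𝒢)}
    (hU : ∀ x ∈ U, x ∈ LefPen.chart n k i) : PnCoh.NonVan (𝒜 := 𝒢) (T i) U := fun x =>
  (Proj.mem_basicOpen 𝒢 (T i) x.1).1 (hU x.1 x.2)

/-- The value of the local equation at a point of the chart. -/
theorem val_dehom_apply {d : ℕ} (G : LefPen.Form n k d) (i : Fin (n + 1))
    (x : {p : ProjectiveSpectrum.top 𝒢 // p ∈ LefPen.chart n k i}) :
    ((show Twist.O (𝒜 := 𝒢) (op (LefPen.chart n k i)) from LefPen.dehom G i).1 x).val =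
      Localization.mk G.1 ⟨(T i) ^ d, PnCoh.pow_notMem ((Proj.mem_basicOpen 𝒢 (T i) x.1).1 x.2) d⟩ := by
  show (((ProjectiveSpectrum.Proj.awayToSection 𝒢 (T i)) _).1 x).val = _
  erw [ProjectiveSpectrum.Proj.awayToSection_apply]
  rw [HomogeneousLocalization.Away.val_mk, Localization.mk_eq_mk', Localization.mk_eq_mk', IsLocalization.map_mk']
  rfl

/-- `O → O(0)`. -/
def unitHom : Coh.structureModule (ℙ) ⟶ Twist.twist 𝒢 ((0 : ℕ) : ℤ) :=
  InvX.ofSect (M := (show (ℙ).Modules from Twist.twist 𝒢 ((0 : ℕ) : ℤ)))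
    (Twist.globalOf 𝒢 ⟨1, SetLike.GradedOne.one_mem⟩)

theorem val_unitHom (U : (ℙ).Opens) (c : Twist.O (𝒜 := 𝒢) (op U)) (x : {p : ProjectiveSpectrum.top 𝒢 // p ∈ U}) :
    ((show Twist.sectN (𝒜 := 𝒢) ((0 : ℕ) : ℤ) (op U) from unitHom.app U (show Γ(Coh.structureModule (ℙ), U) from c)).1 x).1 =
      (c.1 x).val := by
  refine (Twist.coe_smul_val (𝒜 := 𝒢) ((0 : ℕ) : ℤ) x.1 (c.1 x) _).trans ?_
  show (c.1 x).val * Localization.mk 1 _ = _
  exact (congrArg _ Localization.mk_one).trans (mul_one _)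

theorem isQCoh_twist (d : ℤ) : Coh.IsQCoh (show (ℙ).Modules from Twist.twist 𝒢 d) :=
  PnCoh.isQCoh_twist_mvPolynomial (Fin (n + 1)) k d

instance isIso_unitHom : IsIso (unitHom (n := n) (k := k)) := by
  refine GrModX.isIso_of_bijective_affineCover _ (PnCoh.isQCoh_structureModule _) (isQCoh_twist _)
    (fun i : Fin (n + 1) => LefPen.chart n k i) (fun x => ?_) (fun i => isAffineOpen_chart i) fun i => ?_
  · obtain ⟨i, hi⟩ := exists_mem_chart (n := n) (k := k) x
    exact ⟨i, (mem_range_chart i x).1 hi⟩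
  · have hU := nonVan (k := k) i (U := LefPen.chart n k i) fun _ h => h
    have h := PnCoh.trivMap_bijective (𝒜 := 𝒢) (X_mem_one n k i) ((0 : ℕ) : ℤ) hU
    have he : ∀ c : Twist.O (𝒜 := 𝒢) (op (LefPen.chart n k i)),
        (show Twist.sectN (𝒜 := 𝒢) ((0 : ℕ) : ℤ) (op (LefPen.chart n k i)) from
          unitHom.app (LefPen.chart n k i) (show Γ(Coh.structureModule (ℙ), LefPen.chart n k i) from c)) =
        PnCoh.trivMap (𝒜 := 𝒢) (X_mem_one n k i) ((0 : ℕ) : ℤ) hU c := fun c => by
      refine Subtype.ext (funext fun x => Subtype.ext ?_)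
      refine (val_unitHom _ c x).trans ?_
      rw [PnCoh.trivMap_apply]
      refine (mul_one _).symm.trans (congrArg _ ?_)
      rw [← Localization.mk_one]
      congr 1
    constructor
    · intro a b hab
      exact h.1 ((he a).symm.trans (hab.trans (he b)))
    · intro y
      obtain ⟨c, hc⟩ := h.2 y
      exact ⟨c, (he c).trans hc⟩

variable {d : ℕ} (G : LefPen.Form n k d)

/-- Multiplication by `G`. -/
def mulForm : Twist.twist 𝒢 (-(d : ℤ)) ⟶ Twist.twist 𝒢 ((0 : ℕ) : ℤ) :=
  PnDual.mulHom (𝒜 := 𝒢) (e := d) (a := G.1) G.2 (by simp)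

/-- The inclusion `O(-d) → O` of the equation `G`. -/
def formHom : (show (ℙ).Modules from Twist.twist 𝒢 (-(d : ℤ))) ⟶ Coh.structureModule (ℙ) :=
  mulForm G ≫ inv unitHom

variable {G}

theorem mono_formHom (hG : G ≠ 0) : Mono (formHom G) := by
  haveI : Mono (mulForm G) := by
    refine ⟨fun {M} g h e => IdealSub.hom_eq_of_affine (X := ℙ) g h fun U x => ?_⟩
    have e' : (mulForm G).app U.1 (g.app U.1 x) = (mulForm G).app U.1 (h.app U.1 x) :=
      congr(($e).app U.1 x)
    refine Subtype.ext (funext fun p => Subtype.ext ?_)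
    have hp := congrArg (fun s : Twist.sectN (𝒜 := 𝒢) ((0 : ℕ) : ℤ) (op U.1) => (s.1 p).1) e'
    haveI : IsDomain (Twist.Loc 𝒢 p.1) :=
      IsLocalization.isDomain_localization (Ideal.primeCompl_le_nonZeroDivisors _)
    refine mul_right_cancel₀ ?_ hp
    show Localization.mk G.1 _ ≠ 0
    rw [Localization.mk_eq_mk', Ne, IsLocalization.mk'_eq_zero_iff]
    rintro ⟨⟨m, hm⟩, hm0⟩
    rcases mul_eq_zero.1 hm0 with h0 | h0
    · exact hm (by rw [show m = 0 from h0]; exact Ideal.zero_mem _)
    · exact hG (Subtype.ext h0)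
  haveI := isIso_unitHom (n := n) (k := k)
  unfold formHom
  infer_instance

variable (G)

theorem mulForm_triv (i : Fin (n + 1)) (c : Twist.O (𝒜 := 𝒢) (op (LefPen.chart n k i))) :
    (mulForm G).app (LefPen.chart n k i) (PnCoh.trivMap (𝒜 := 𝒢) (X_mem_one n k i) (-(d : ℤ))
        (nonVan (k := k) i fun _ h => h) c) =
      unitHom.app (LefPen.chart n k i) (show Γ(Coh.structureModule (ℙ), LefPen.chart n k i) from
        (show Γ(ℙ, LefPen.chart n k i) from c) * LefPen.dehom G i) := by
  refine Subtype.ext (funext fun x => Subtype.ext ?_)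
  refine Eq.trans ?_ (val_unitHom _ _ x).symm
  show ((PnCoh.trivMap (𝒜 := 𝒢) _ _ _ c).1 x).1 * PnDual.fracOne x.1 G.1 = HomogeneousLocalization.val (c.1 x * _)
  rw [PnCoh.trivMap_apply, HomogeneousLocalization.val_mul, val_dehom_apply, mul_assoc, PnDual.fracOne,
    Localization.mk_mul]
  congr 1
  simp only [Int.toNat_neg_natCast, neg_neg, Int.toNat_natCast, pow_zero, one_mul, mul_one]

theorem formHom_triv (i : Fin (n + 1)) (c : Twist.O (𝒜 := 𝒢) (op (LefPen.chart n k i))) :
    (show Γ(ℙ, LefPen.chart n k i) from (formHom G).app (LefPen.chart n k i)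
      (PnCoh.trivMap (𝒜 := 𝒢) (X_mem_one n k i) (-(d : ℤ)) (nonVan (k := k) i fun _ h => h) c)) =
      (show Γ(ℙ, LefPen.chart n k i) from c) * LefPen.dehom G i := by
  show (inv (unitHom (n := n) (k := k))).app (LefPen.chart n k i)
    ((mulForm G).app (LefPen.chart n k i) _) = _
  rw [mulForm_triv]
  exact congr(($(IsIso.hom_inv_id (unitHom (n := n) (k := k)))).app (LefPen.chart n k i)
    (show Γ(Coh.structureModule (ℙ), LefPen.chart n k i) from
        (show Γ(ℙ, LefPen.chart n k i) from c) * LefPen.dehom G i))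

/-- The ideal sheaf of a hypersurface is `O(-d)`. -/
theorem nonempty_iso_idealMod (hG : G ≠ 0) :
    Nonempty (ClSub.idealMod (LefPen.hypIdeal G) ≅ Twist.twistProjSpace n k (-(d : ℤ))) := by
  haveI := mono_formHom hG
  obtain ⟨I, e, he⟩ := IdealSub.exists_iso_idealMod (isQCoh_twist (n := n) (k := k) (-(d : ℤ))) (formHom G)
  have hI : I = LefPen.hypIdeal G := by
    refine Scheme.IdealSheafData.ext_of_iSup_eq_top chartAff ?_ fun i => ?_
    · refine top_le_iff.1 fun x _ => ?_
      obtain ⟨i, hi⟩ := exists_mem_chart (n := n) (k := k) x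
      exact Opens.mem_iSup.2 ⟨i, (mem_range_chart i x).1 hi⟩
    rw [hypIdeal_chart]
    have hU := nonVan (k := k) i (U := LefPen.chart n k i) fun _ h => h
    have hb := PnCoh.trivMap_bijective (𝒜 := 𝒢) (X_mem_one n k i) (-(d : ℤ)) hU
    have hsect : ∀ s, OmegaSh.idealSect I (LefPen.chart n k i) (e.hom.app (LefPen.chart n k i) s) =
        (show Γ(ℙ, LefPen.chart n k i) from (formHom G).app (LefPen.chart n k i) s) := fun s => by
      rw [← IdealSub.idealModι_app', ← he]
      rfl
    apply le_antisymm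
    · intro x hx
      obtain ⟨a, rfl⟩ := OmegaLib.exists_of_mem I (chartAff i) x hx
      obtain ⟨s, rfl⟩ : ∃ s, e.hom.app (LefPen.chart n k i) s = a :=
        ⟨e.inv.app (LefPen.chart n k i) a, congr(($(e.inv_hom_id)).app (LefPen.chart n k i) a)⟩
      obtain ⟨c, rfl⟩ := hb.2 s
      refine Ideal.mem_span_singleton'.2 ⟨c, ?_⟩
      exact ((hsect _).trans (formHom_triv G i c)).symm
    · rw [Ideal.span_singleton_le_iff_mem]
      have h1 := formHom_triv G i 1
      have h2 := OmegaLib.idealSect_mem I (chartAff i) (e.hom.app (LefPen.chart n k i)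
        (PnCoh.trivMap (𝒜 := 𝒢) (X_mem_one n k i) (-(d : ℤ)) hU 1))
      exact Eq.mp (congrArg (· ∈ I.ideal (chartAff i)) (((hsect _).trans h1).trans (one_mul _))) h2
  subst hI
  exact ⟨e.symm⟩

end Groth.Agent.HypX
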