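import Groth.Agent.HypX.CurveMap
import Groth.Agent.HypSmoothLib.Affine
import Mathlib.AlgebraicGeometry.Morphisms.Smooth

/-!
The Jacobian criterion for a hypersurface of projective space.
-/

noncomputable section

set_option autoImplicit false
set_option linter.style.haveILetI false
set_option linter.unusedSectionVars false
set_option backward.isDefEq.respectTransparency false
set_option backward.isDefEq.respectTransparency.types false

universe u

open CategoryTheory CategoryTheory.Limits AlgebraicGeometry TopologicalSpace Opposite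
open Groth.Agent.ZetaLib
open HomogeneousLocalization (Away)

namespace Groth.Agent.HypX

variable {n : ℕ} {k : Type u} [Field k]

local notation "𝒜" => CohB1.polyGrading n k
local notation "T" => (MvPolynomial.X : Fin (n + 1) → MvPolynomial (Fin (n + 1)) k)
local notation "ℙ" => CohB1.ProjSpace n k

theorem fromChart_dh (c : Fin (n + 1)) (x : MvPolynomial (Fin (n + 1)) k) :
    H23.PnChart.fromChart.{u} n k c (H23.PnChart.dh.{u} n k c x) = ZetaLib.dehom n k c x := by
  have h : (H23.PnChart.fromChart.{u} n k c).comp (H23.PnChart.dh.{u} n k c) = ZetaLib.dehom n k c := by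
    apply MvPolynomial.ringHom_ext
    · intro r
      simp [H23.PnChart.fromChart, H23.PnChart.dh, ZetaLib.dehom]
    · intro j
      by_cases hj : j = c
      · subst hj; simp [H23.PnChart.fromChart, H23.PnChart.dh, ZetaLib.dehom, H23.PnChart.coord_self]
      · simp [H23.PnChart.fromChart, H23.PnChart.dh, ZetaLib.dehom, hj]
  exact congr($h x)

variable {d : ℕ}

theorem dh_ne_zero (c : Fin (n + 1)) {G : LefPen.Form n k d} (hG : G ≠ 0) : H23.PnChart.dh.{u} n k c G.1 ≠ 0 := by
  intro h
  have h1 := fromChart_dh c G.1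
  rw [h, map_zero] at h1
  have h2 := val_dehom_mul n k c (isHomogeneous_form G)
  rw [← h1, HomogeneousLocalization.val_zero, zero_mul] at h2
  exact hG (Subtype.ext (IsLocalization.injective (M := Submonoid.powers (T c)) (Localization (Submonoid.powers (T c)))
    (powers_le_nonZeroDivisors_of_noZeroDivisors (MvPolynomial.X_ne_zero _)) (h2.symm.trans (map_zero _).symm)))

theorem toSpec_appLE (c : Fin (n + 1)) :
    (CohB1.ProjSpace.toSpec n k).appLE ⊤ (LefPen.chart n k c) le_top =
      (Scheme.ΓSpecIso (CommRingCat.of k)).hom ≫ CommRingCat.ofHom (base n k c) ≫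
        Proj.awayToSection 𝒜 (T c) := by
  have h := IsAffineOpen.SpecMap_appLE_fromSpec (CohB1.ProjSpace.toSpec n k)
    (isAffineOpen_top (Spec (CommRingCat.of k))) (isAffineOpen_chart (k := k) c) le_top
  rw [IsAffineOpen.fromSpec_top, Scheme.isoSpec_Spec_inv, fromSpec_chart, Category.assoc, chart_toSpec,
    ← Spec.map_comp, ← Spec.map_comp] at h
  exact (Iso.inv_comp_eq _).1 (Spec.map_injective h)

variable (G : LefPen.Form n k d)

/-- A hypersurface is smooth iff each of its affine pieces is. -/
theorem smooth_iff_charts :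
    Smooth ((LefPen.hypIdeal G).subschemeι ≫ CohB1.ProjSpace.toSpec n k) ↔
      ∀ c : Fin (n + 1), Algebra.Smooth k
        (MvPolynomial (H23.PnChart.Idx.{u} n c) k ⧸ Ideal.span {H23.PnChart.dh.{u} n k c G.1}) := by
  set I := LefPen.hypIdeal G
  let U : Fin (n + 1) → I.subscheme.affineOpens := fun c =>
    ⟨I.subschemeι ⁻¹ᵁ LefPen.chart n k c, (isAffineOpen_chart c).preimage I.subschemeι⟩
  have hU : ⨆ c, (U c).1 = ⊤ := top_le_iff.1 fun x _ => by
    obtain ⟨i, hi⟩ := exists_mem_chart (n := n) (k := k) (I.subschemeι x)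
    exact Opens.mem_iSup.2 ⟨i, (mem_range_chart i _).1 hi⟩
  rw [HasRingHomProperty.iff_of_iSup_eq_top (P := @Smooth) U hU]
  refine forall_congr' fun c => ?_
  let q : MvPolynomial (H23.PnChart.Idx.{u} n c) k →+* Γ(I.subscheme, (U c).1) :=
    (I.subschemeι.app (LefPen.chart n k c)).hom.comp ((Proj.awayToSection 𝒜 (T c)).hom.comp (H23.PnChart.fromChart n k c))
  have hats : Function.Bijective (Proj.awayToSection 𝒜 (T c)).hom :=
    (Proj.basicOpenIsoAway 𝒜 (T c) (X_mem_one n k c) Nat.one_pos).commRingCatIsoToRingEquiv.bijective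
  have hb := hats.comp (⟨H23.PnChart.fromChart_injective.{u} n k c, H23.PnChart.fromChart_surjective.{u} n k c⟩ :
    Function.Bijective (H23.PnChart.fromChart.{u} n k c))
  have hq : Function.Surjective q := fun y => by
    obtain ⟨z, hz⟩ := I.subschemeι_app_surjective (chartAff c) y
    obtain ⟨w, hw⟩ := hb.2 z
    exact ⟨w, (congrArg _ hw).trans hz⟩
  have hker : RingHom.ker q = Ideal.span {H23.PnChart.dh.{u} n k c G.1} := by
    have hI : RingHom.ker (I.subschemeι.app (LefPen.chart n k c)).hom = Ideal.span {LefPen.dehom G c} :=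
      (I.ker_subschemeι_app (chartAff c)).trans (hypIdeal_chart G c)
    refine Ideal.ext fun x => ?_
    rw [RingHom.mem_ker, Ideal.mem_span_singleton]
    show (I.subschemeι.app (LefPen.chart n k c)).hom _ = 0 ↔ _
    rw [← RingHom.mem_ker, hI, Ideal.mem_span_singleton, dehom_eq, ← fromChart_dh]
    exact map_dvd_iff (RingEquiv.ofBijective
      ((Proj.awayToSection 𝒜 (T c)).hom.comp (H23.PnChart.fromChart n k c)) hb)
  let e : (MvPolynomial (H23.PnChart.Idx.{u} n c) k ⧸ Ideal.span {H23.PnChart.dh.{u} n k c G.1}) ≃+*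
      Γ(I.subscheme, (U c).1) :=
    (Ideal.quotEquivOfEq hker.symm).trans (RingHom.quotientKerEquivOfSurjective hq)
  have heq : ((I.subschemeι ≫ CohB1.ProjSpace.toSpec n k).appLE ⊤ (U c).1 le_top).hom =
      (e.toRingHom.comp (algebraMap k _)).comp
        (Scheme.ΓSpecIso (CommRingCat.of k)).commRingCatIsoToRingEquiv.toRingHom := by
    have h1 : (I.subschemeι ≫ CohB1.ProjSpace.toSpec n k).appLE ⊤ (U c).1 le_top =
        (CohB1.ProjSpace.toSpec n k).appLE ⊤ (LefPen.chart n k c) le_top ≫ I.subschemeι.app (LefPen.chart n k c) := by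
      rw [Scheme.Hom.app_eq_appLE, Scheme.Hom.appLE_comp_appLE]
    rw [h1, toSpec_appLE]
    refine RingHom.ext fun r => ?_
    show (I.subschemeι.app (LefPen.chart n k c)).hom ((Proj.awayToSection 𝒜 (T c)).hom (base n k c _)) = q _
    exact congrArg (fun z => (I.subschemeι.app (LefPen.chart n k c)).hom ((Proj.awayToSection 𝒜 (T c)).hom z))
      (MvPolynomial.eval₂Hom_C (base n k c) (fun j : H23.PnChart.Idx.{u} n c => coord n k c j.down.1) _).symm
  rw [heq, ← RingHom.smooth_algebraMap (R := k)
    (S := MvPolynomial (H23.PnChart.Idx.{u} n c) k ⧸ Ideal.span {H23.PnChart.dh.{u} n k c G.1})]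
  have hr := RingHom.Smooth.respectsIso
  constructor
  · intro h
    have h2 := hr.1 _ e.symm (hr.2 _ (Scheme.ΓSpecIso (CommRingCat.of k)).commRingCatIsoToRingEquiv.symm h)
    have hid : e.symm.toRingHom.comp (((e.toRingHom.comp (algebraMap k _)).comp
        (Scheme.ΓSpecIso (CommRingCat.of k)).commRingCatIsoToRingEquiv.toRingHom).comp
          (Scheme.ΓSpecIso (CommRingCat.of k)).commRingCatIsoToRingEquiv.symm.toRingHom) = algebraMap k _ := by
      refine RingHom.ext fun r => ?_
      simp
    exact hid ▸ h2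
  · exact fun h => hr.2 _ _ (hr.1 _ e h)

/-- The Jacobian criterion. -/
theorem smooth_iff_no_singular_point (hG : G ≠ 0) :
    Smooth ((LefPen.hypIdeal G).subschemeι ≫ CohB1.ProjSpace.toSpec n k) ↔
      ∀ (c : Fin (n + 1)) (v : Fin (n + 1) → AlgebraicClosure k), v c = 1 → MvPolynomial.aeval v G.1 = 0 →
        ∃ j, j ≠ c ∧ MvPolynomial.aeval v (MvPolynomial.pderiv j G.1) ≠ 0 := by
  classical
  rw [smooth_iff_charts]
  refine forall_congr' fun c => ?_
  rw [HypSmoothLib.smooth_quotient_iff_no_singular_zero (dh_ne_zero c hG)]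
  have hdh : ∀ (x : H23.PnChart.Idx.{u} n c → AlgebraicClosure k) (F : MvPolynomial (Fin (n + 1)) k),
      MvPolynomial.aeval x (H23.PnChart.dh.{u} n k c F) =
        MvPolynomial.aeval (fun j => if h : j = c then 1 else x (ULift.up ⟨j, h⟩)) F := by
    intro x F
    have h : (MvPolynomial.aeval (R := k) x).toRingHom.comp (H23.PnChart.dh.{u} n k c) =
        (MvPolynomial.aeval (R := k) fun j => if h : j = c then (1 : AlgebraicClosure k) else x (ULift.up ⟨j, h⟩)).toRingHom := by
      refine MvPolynomial.ringHom_ext (fun r => by simp [H23.PnChart.dh]) fun j => ?_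
      by_cases hj : j = c
      · subst hj; simp [H23.PnChart.dh]
      · simp [H23.PnChart.dh, hj]
    exact congr($h F)
  have hder : ∀ (F : MvPolynomial (Fin (n + 1)) k) (i : H23.PnChart.Idx.{u} n c),
      MvPolynomial.pderiv i (H23.PnChart.dh.{u} n k c F) = H23.PnChart.dh.{u} n k c (MvPolynomial.pderiv i.down.1 F) := by
    intro F i
    induction F using MvPolynomial.induction_on with
    | C r => simp [H23.PnChart.dh]
    | add p q hp hq => rw [map_add, map_add, map_add, map_add, hp, hq]
    | mul_X p j hp =>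
      rw [map_mul, MvPolynomial.pderiv_mul, MvPolynomial.pderiv_mul, map_add, map_mul, map_mul, hp]
      congr 2
      by_cases hj : j = c
      · subst hj
        simp [H23.PnChart.dh, MvPolynomial.pderiv_X, i.down.2.symm]
      · obtain ⟨⟨l, hl⟩⟩ := i
        simp [H23.PnChart.dh, MvPolynomial.pderiv_X, hj, Pi.single_apply]
  constructor
  · intro h v hv h0
    have hvec : (fun j => if hj : j = c then (1 : AlgebraicClosure k) else
        (fun i : H23.PnChart.Idx.{u} n c => v i.down.1) (ULift.up ⟨j, hj⟩)) = v := by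
      funext j; split_ifs with hj <;> [rw [hj, hv]; rfl]
    obtain ⟨i, hi⟩ := h (fun i => v i.down.1) (by rw [hdh, hvec]; exact h0)
    rw [hder, hdh, hvec] at hi
    exact ⟨i.down.1, i.down.2, hi⟩
  · intro h x h0
    rw [hdh] at h0
    obtain ⟨j, hj, hne⟩ := h _ (by simp) h0
    exact ⟨ULift.up ⟨j, hj⟩, by rw [hder, hdh]; exact hne⟩

end Groth.Agent.HypX
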