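import Groth.Agent.HypX.Basic
import Groth.Agent.HyperP1.LineMap
import Groth.Agent.HyperP1.AffineEquation

/-!
A map of a smooth proper curve to projective space given by functions, and when it is an isomorphism onto a
hypersurface.
-/

noncomputable section

set_option autoImplicit false
set_option linter.style.haveILetI false
set_option linter.unusedSectionVars false
set_option backward.isDefEq.respectTransparency false
set_option backward.isDefEq.respectTransparency.types false

universe u

open CategoryTheory CategoryTheory.Limits AlgebraicGeometry TopologicalSpace Opposite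
open Groth.Agent.ZetaLib
open Groth.Agent.CurveCohLib.Polar (InR gη)
open HomogeneousLocalization (Away)

namespace Groth.Agent.HypX

variable {n : ℕ} {k : Type u} [Field k]

local notation "𝒜" => CohB1.polyGrading n k
local notation "T" => (MvPolynomial.X : Fin (n + 1) → MvPolynomial (Fin (n + 1)) k)
local notation "ℙ" => CohB1.ProjSpace n k

theorem opensRange_chart (i : Fin (n + 1)) : (ZetaLib.chart n k i).opensRange = LefPen.chart n k i :=
  Proj.opensRange_awayι 𝒜 (T i) (X_mem_one n k i) Nat.one_pos

theorem exists_homogeneous_dehom (c : Fin (n + 1)) (a : Away 𝒜 (T c)) :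
    ∃ (m : ℕ) (H : MvPolynomial (Fin (n + 1)) k), H.IsHomogeneous m ∧ ZetaLib.dehom n k c H = a := by
  obtain ⟨m, x, hx, rfl⟩ := HomogeneousLocalization.Away.mk_surjective 𝒜 (X_mem_one n k c) a
  refine ⟨m, x, by simpa using hx, HomogeneousLocalization.val_injective _ ?_⟩
  have hu : IsUnit (algebraMap (MvPolynomial (Fin (n + 1)) k)
      (Localization (Submonoid.powers (T c))) (T c) ^ m) :=
    (IsLocalization.map_units _ (⟨T c, 1, pow_one _⟩ : Submonoid.powers (T c))).pow m
  refine hu.mul_left_injective ?_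
  show _ * _ = _ * _
  rw [val_dehom_mul n k c (by simpa using hx), HomogeneousLocalization.Away.val_mk,
    ← map_pow, ← Localization.mk_one_eq_algebraMap, ← Localization.mk_one_eq_algebraMap,
    Localization.mk_mul, Localization.mk_eq_mk_iff, Localization.r_iff_exists]
  exact ⟨1, by simp [mul_comm]⟩

theorem fromSpec_chart (c : Fin (n + 1)) : (isAffineOpen_chart (k := k) c).fromSpec =
    Spec.map (Proj.awayToSection 𝒜 (T c)) ≫ ZetaLib.chart n k c := by
  show _ = _ ≫ Proj.awayι 𝒜 (T c) (X_mem_one n k c) Nat.one_pos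
  rw [← Proj.basicOpenIsoSpec_inv_ι, ← cancel_epi (isAffineOpen_chart (k := k) c).isoSpec.hom,
    (isAffineOpen_chart (k := k) c).isoSpec_hom_fromSpec]
  have e : (isAffineOpen_chart (k := k) c).isoSpec.hom ≫ Spec.map (Proj.awayToSection 𝒜 (T c)) =
      (Proj.basicOpenIsoSpec 𝒜 (T c) (X_mem_one n k c) Nat.one_pos).hom :=
    (Proj.basicOpenIsoSpec_hom 𝒜 (T c) (X_mem_one n k c) Nat.one_pos).symm
  rw [reassoc_of% e, Iso.hom_inv_id_assoc]

/-- An equation `−1 + T_j/T_c · r` on the chart `c` does not vanish outside the chart `j`. -/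
theorem mem_chart_or_basicOpen {d : ℕ} (G : LefPen.Form n k d) {c j : Fin (n + 1)} {r : Away 𝒜 (T c)}
    (h : ZetaLib.dehom n k c G.1 = -1 + coord n k c j * r) (p : ↥(ℙ)) (hp : p ∈ LefPen.chart n k c) :
    p ∈ LefPen.chart n k j ∨ p ∈ (ℙ).basicOpen (LefPen.dehom G c) := by
  have hV : IsAffineOpen (LefPen.chart n k c) := isAffineOpen_chart c
  obtain ⟨q, rfl⟩ : p ∈ Set.range hV.fromSpec := by rw [hV.range_fromSpec]; exact hp
  by_cases hq : (Proj.awayToSection 𝒜 (T c)).hom (coord n k c j) ∈ q.asIdeal
  · refine Or.inr ?_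
    show q ∈ hV.fromSpec ⁻¹ᵁ (ℙ).basicOpen (LefPen.dehom G c)
    rw [hV.fromSpec_preimage_basicOpen, PrimeSpectrum.mem_basicOpen, dehom_eq, h, map_add, map_neg, map_one,
      map_mul]
    intro hmem
    have := q.asIdeal.sub_mem hmem (q.asIdeal.mul_mem_right ((Proj.awayToSection 𝒜 (T c)).hom r) hq)
    rw [add_sub_cancel_right, neg_mem_iff] at this
    exact q.isPrime.ne_top ((Ideal.eq_top_iff_one _).2 this)
  · refine Or.inl ?_
    show hV.fromSpec q ∈ (LefPen.chart n k j : Set _)
    rw [fromSpec_chart, Scheme.Hom.comp_apply]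
    show Spec.map (Proj.awayToSection 𝒜 (T c)) q ∈
      Proj.awayι 𝒜 (T c) (X_mem_one n k c) Nat.one_pos ⁻¹ᵁ Proj.basicOpen 𝒜 (T j)
    rw [Proj.awayι_preimage_basicOpen 𝒜 (X_mem_one n k c) Nat.one_pos (X_mem_one n k j) Nat.one_pos]
    show (Proj.awayToSection 𝒜 (T c)).hom (HomogeneousLocalization.Away.isLocalizationElem (X_mem_one n k c)
      (X_mem_one n k j)) ∉ q.asIdeal
    have he : HomogeneousLocalization.Away.isLocalizationElem (X_mem_one n k c) (X_mem_one n k j) =
        coord n k c j := HomogeneousLocalization.val_injective _ (by simp [coord])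
    rw [he]
    exact hq

section Field

variable {K : Type u} [Field K] [Algebra k K]

theorem evalAt_dehom (c : Fin (n + 1)) (v : Fin (n + 1) → K) (hv : v c = 1)
    (F : MvPolynomial (Fin (n + 1)) k) : evalAt (k := k) c v hv (ZetaLib.dehom n k c F) = MvPolynomial.aeval (R := k) v F := by
  have h : (evalAt (k := k) c v hv).comp (ZetaLib.dehom n k c) = (MvPolynomial.aeval (R := k) v).toRingHom := by
    refine MvPolynomial.ringHom_ext (fun r => ?_) fun j => ?_
    · rw [RingHom.comp_apply, ZetaLib.dehom, MvPolynomial.eval₂Hom_C]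
      exact (congr($(evalAt_base c v hv) r)).trans (by simp)
    · rw [RingHom.comp_apply, ZetaLib.dehom, MvPolynomial.eval₂Hom_X', evalAt_coord]
      simp
  exact congr($h F)

theorem eval₂_smul {H : MvPolynomial (Fin (n + 1)) k} {m : ℕ} (hH : H.IsHomogeneous m) (s : K) (v : Fin (n + 1) → K) :
    MvPolynomial.eval₂ (algebraMap k K) (s • v) H = s ^ m * MvPolynomial.eval₂ (algebraMap k K) v H := by
  classical
  rw [MvPolynomial.eval₂_eq, MvPolynomial.eval₂_eq, Finset.mul_sum]
  refine Finset.sum_congr rfl fun d hd => ?_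
  have hdeg : ∑ j ∈ d.support, d j = m := by
    have := hH (MvPolynomial.mem_support_iff.1 hd)
    rwa [Finsupp.weight_apply, Finsupp.sum, Finset.sum_congr rfl fun j _ =>
      (by simp : d j • (1 : Fin (n+1) → ℕ) j = d j)] at this
  simp only [Pi.smul_apply, smul_eq_mul, mul_pow, Finset.prod_mul_distrib, Finset.prod_pow_eq_pow_sum, hdeg]
  ring


/-- Rescaled vectors give the same point. -/
theorem pointAt_congr {i c : Fin (n + 1)} (v : Fin (n + 1) → K) (hv : v i = 1) (w : Fin (n + 1) → K)
    (hw : w c = 1) (s : K) (h : ∀ l, w l = s * v l) :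
    pointAt (k := k) c w hw = pointAt (k := k) i v hv := by
  have hvc : v c ≠ 0 := fun h0 => by
    have := h c
    rw [h0, mul_zero, hw] at this
    exact one_ne_zero this
  have hu : IsUnit (MvPolynomial.eval₂Hom (algebraMap k K) v (T i * T c)) := by
    rw [map_mul, MvPolynomial.eval₂Hom_X', MvPolynomial.eval₂Hom_X', hv, _root_.one_mul]
    exact isUnit_iff_ne_zero.2 hvc
  let Φ : Away 𝒜 (T i * T c) →+* K :=
    (IsLocalization.Away.lift (T i * T c) (S := Localization (Submonoid.powers (T i * T c))) hu).comp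
      (algebraMap (Away 𝒜 (T i * T c)) (Localization (Submonoid.powers (T i * T c))))
  let Ai : Away 𝒜 (T i) →+* Away 𝒜 (T i * T c) := HomogeneousLocalization.awayMap 𝒜 (X_mem_one n k c) rfl
  let Ac : Away 𝒜 (T c) →+* Away 𝒜 (T i * T c) :=
    HomogeneousLocalization.awayMap 𝒜 (X_mem_one n k i) (mul_comm _ _)
  let L := Localization (Submonoid.powers (T i * T c))
  let am : MvPolynomial (Fin (n + 1)) k →+* L := algebraMap _ _
  have hux : IsUnit (am (T i * T c)) :=
    IsLocalization.map_units L (⟨T i * T c, 1, pow_one _⟩ : Submonoid.powers (T i * T c))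
  have ei : Φ.comp Ai = evalAt i v hv := by
    refine RingHom.ext fun a => ?_
    obtain ⟨m, H, hH, rfl⟩ := exists_homogeneous_dehom i a
    rw [evalAt_dehom, RingHom.comp_apply]
    show IsLocalization.Away.lift _ hu ((Ai (ZetaLib.dehom n k i H)).val) = _
    have e := congrArg (Localization.awayLift (algebraMap (MvPolynomial (Fin (n + 1)) k) L) (T i)
      (isUnit_of_dvd_unit (map_dvd am (dvd_mul_right _ _)) hux)) (val_dehom_mul n k i hH)
    rw [map_mul, map_pow] at e
    simp only [Localization.awayLift, IsLocalization.Away.lift_eq] at e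
    have e' := congrArg (IsLocalization.Away.lift (T i * T c) (S := L) hu) e
    rw [map_mul, map_pow, IsLocalization.Away.lift_eq, IsLocalization.Away.lift_eq,
      MvPolynomial.eval₂Hom_X', hv, one_pow, _root_.mul_one] at e'
    rw [show Ai = HomogeneousLocalization.awayMap 𝒜 (X_mem_one n k c) rfl from rfl,
      HomogeneousLocalization.val_awayMap]
    exact e'
  have ec : Φ.comp Ac = evalAt c w hw := by
    refine RingHom.ext fun a => ?_
    obtain ⟨m, H, hH, rfl⟩ := exists_homogeneous_dehom c a
    rw [evalAt_dehom, RingHom.comp_apply]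
    show IsLocalization.Away.lift _ hu ((Ac (ZetaLib.dehom n k c H)).val) = _
    have e := congrArg (Localization.awayLift (algebraMap (MvPolynomial (Fin (n + 1)) k) L) (T c)
      (isUnit_of_dvd_unit (map_dvd am (dvd_mul_left _ _)) hux)) (val_dehom_mul n k c hH)
    rw [map_mul, map_pow] at e
    simp only [Localization.awayLift, IsLocalization.Away.lift_eq] at e
    have e' := congrArg (IsLocalization.Away.lift (T i * T c) (S := L) hu) e
    rw [map_mul, map_pow, IsLocalization.Away.lift_eq, IsLocalization.Away.lift_eq,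
      MvPolynomial.eval₂Hom_X'] at e'
    rw [show Ac = HomogeneousLocalization.awayMap 𝒜 (X_mem_one n k i) (mul_comm _ _) from rfl,
      HomogeneousLocalization.val_awayMap]
    refine mul_right_cancel₀ (pow_ne_zero m hvc) (Eq.trans e' ?_)
    have hs : s * v c = 1 := (h c).symm.trans hw
    rw [show w = s • v from funext h, MvPolynomial.aeval_def, MvPolynomial.coe_eval₂Hom]
    rw [show MvPolynomial.eval₂ (algebraMap k K) (s • v) H = s ^ m * MvPolynomial.eval₂ (algebraMap k K) v H from
      eval₂_smul hH s v]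
    rw [mul_right_comm, ← mul_pow, hs, one_pow, _root_.one_mul]
  rw [pointAt, pointAt, ← ei, ← ec]
  show Spec.map (CommRingCat.ofHom Ac ≫ CommRingCat.ofHom Φ) ≫ _ =
    Spec.map (CommRingCat.ofHom Ai ≫ CommRingCat.ofHom Φ) ≫ _
  rw [Spec.map_comp, Spec.map_comp, Category.assoc, Category.assoc]
  exact congrArg (Spec.map (CommRingCat.ofHom Φ) ≫ ·) ((Proj.SpecMap_awayMap_awayι 𝒜 (X_mem_one n k c) Nat.one_pos (X_mem_one n k i) (mul_comm _ _)).trans
    (Proj.SpecMap_awayMap_awayι 𝒜 (X_mem_one n k i) Nat.one_pos (X_mem_one n k c) rfl).symm)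

end Field

variable {X : Scheme.{u}} [X.Over (Spec (CommRingCat.of k))] [IsIntegral X]
  [IsProper (X ↘ Spec (CommRingCat.of k))] [Smooth (X ↘ Spec (CommRingCat.of k))]
  (hdim : topologicalKrullDim X = 1) (φ : X ⟶ CohB1.ProjSpace n k)
  (hφ : φ ≫ CohB1.ProjSpace.toSpec n k = X ↘ Spec (CommRingCat.of k))

attribute [local instance] ZetaCurve.ffAlg

section Chart

variable (c : Fin (n + 1)) (v : Fin (n + 1) → X.functionField) (hv : v c = 1)
  (hgen : X.fromSpecStalk (genericPoint X) ≫ φ = pointAt (k := k) (K := X.functionField) c v hv)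

include hgen in
theorem eta_mem_chart : genericPoint X ∈ φ ⁻¹ᵁ LefPen.chart n k c := by
  show φ (genericPoint X) ∈ (LefPen.chart n k c : Set _)
  rw [← opensRange_chart]
  refine ⟨Spec.map (CommRingCat.ofHom (evalAt (k := k) c v hv)) (IsLocalRing.closedPoint (X.presheaf.stalk (genericPoint X))), ?_⟩
  have h := congrArg (fun g => g (IsLocalRing.closedPoint (X.presheaf.stalk (genericPoint X)))) hgen
  simp only [Scheme.Hom.comp_apply, Scheme.fromSpecStalk_closedPoint] at h
  exact h.symm

include hgen in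
/-- The value at the generic point of a pulled back function of the chart. -/
theorem germ_app (a : Away 𝒜 (T c)) (hη : genericPoint X ∈ φ ⁻¹ᵁ LefPen.chart n k c) :
    (X.presheaf.germ (φ ⁻¹ᵁ LefPen.chart n k c) _ hη).hom
      ((φ.app (LefPen.chart n k c)).hom ((Proj.awayToSection 𝒜 (T c)).hom a)) = evalAt (k := k) c v hv a := by
  have hV : IsAffineOpen (LefPen.chart n k c) := isAffineOpen_chart c
  have hfs := fromSpec_chart (k := k) c
  have h1 : Spec.map (Proj.awayToSection 𝒜 (T c) ≫ φ.app (LefPen.chart n k c) ≫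
      X.presheaf.germ (φ ⁻¹ᵁ LefPen.chart n k c) _ hη) ≫ ZetaLib.chart n k c =
      X.fromSpecStalk (genericPoint X) ≫ φ := by
    rw [← Scheme.Hom.germ_stalkMap φ (LefPen.chart n k c) (genericPoint X) hη, Spec.map_comp, Spec.map_comp,
      Category.assoc, Category.assoc, ← hfs]
    rw [show Spec.map ((ℙ).presheaf.germ (LefPen.chart n k c) (φ (genericPoint X)) hη) ≫ hV.fromSpec =
      (ℙ).fromSpecStalk (φ (genericPoint X)) from hV.fromSpecStalk_eq_fromSpecStalk hη]
    exact Scheme.SpecMap_stalkMap_fromSpecStalk φ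
  rw [hgen, pointAt] at h1
  have h2 := Spec.map_injective ((cancel_mono (ZetaLib.chart n k c)).1 h1)
  exact congrArg (fun g : CommRingCat.of (Away 𝒜 (T c)) ⟶ X.functionField => g.hom a) h2

include hdim hgen in
/-- The points over a chart are those where all coordinates are regular. -/
theorem mem_chart_iff (z : X) : φ z ∈ LefPen.chart n k c ↔ ∀ j, InR z (v j) := by
  constructor
  · intro hz j
    have h := CurveCohLib.Polar.inR_gη (W := φ ⁻¹ᵁ LefPen.chart n k c) hz
      ((φ.app (LefPen.chart n k c)).hom ((Proj.awayToSection 𝒜 (T c)).hom (coord n k c j)))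
    rw [gη, germ_app φ c v hv hgen, evalAt_coord] at h
    exact h
  · intro hj
    let O := (algebraMap (X.presheaf.stalk z) X.functionField).range
    have hO : ∀ w, evalAt (k := k) c v hv w ∈ O := by
      intro w
      obtain ⟨p, rfl⟩ := surjective_dehom n k c w
      rw [evalAt_dehom]
      induction p using MvPolynomial.induction_on with
      | C r => rw [MvPolynomial.aeval_C]; exact ZetaCurve.inR_algebraMap k X z r
      | add p q hp hq => rw [map_add]; exact add_mem hp hq
      | mul_X p l hp =>
        rw [map_mul, MvPolynomial.aeval_X]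
        exact mul_mem hp (hj l)
    let α := (algebraMap (X.presheaf.stalk z) X.functionField).rangeRestrict
    have hαb : Function.Bijective α :=
      ⟨fun u v huv => IsFractionRing.injective (X.presheaf.stalk z) X.functionField (congrArg Subtype.val huv),
        RingHom.rangeRestrict_surjective _⟩
    let b : CommRingCat.of (Away 𝒜 (T c)) ⟶ X.presheaf.stalk z :=
      CommRingCat.ofHom ((RingEquiv.ofBijective α hαb).symm.toRingHom.comp ((evalAt (k := k) c v hv).codRestrict O hO))
    let sp := X.presheaf.stalkSpecializes (genericPoint_specializes z)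
    have hbs : b ≫ sp = CommRingCat.ofHom (evalAt (k := k) c v hv) := CommRingCat.hom_ext (RingHom.ext fun w =>
      congrArg Subtype.val ((RingEquiv.ofBijective α hαb).apply_symm_apply ⟨evalAt (k := k) c v hv w, hO w⟩))
    haveI : IsDominant (Spec.map sp) := by
      refine ⟨PrimeSpectrum.denseRange_comap_iff_ker_le_nilRadical _ |>.2 ?_⟩
      rw [(RingHom.injective_iff_ker_eq_bot sp.hom).1 (IsFractionRing.injective (X.presheaf.stalk z) X.functionField)]
      exact bot_le
    haveI : IsDomain (X.presheaf.stalk z) :=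
      Function.Injective.isDomain _ (IsFractionRing.injective (X.presheaf.stalk z) X.functionField)
    haveI : IsProper (CohB1.ProjSpace.toSpec n k) := PnCoh.Chow.isProper_toSpec n k
    haveI : (ℙ).IsSeparated :=
      ⟨by rw [← Limits.terminal.comp_from (CohB1.ProjSpace.toSpec n k)]; infer_instance⟩
    have heq : Spec.map b ≫ ZetaLib.chart n k c = X.fromSpecStalk z ≫ φ := by
      refine ext_of_isDominant (Spec.map sp) ?_
      rw [← Category.assoc, ← Spec.map_comp, hbs, ← Category.assoc,
        Scheme.SpecMap_stalkSpecializes_fromSpecStalk, hgen, pointAt]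
    show φ z ∈ (LefPen.chart n k c : Set _)
    rw [← opensRange_chart]
    refine ⟨Spec.map b (IsLocalRing.closedPoint (X.presheaf.stalk z)), ?_⟩
    rw [← Scheme.Hom.comp_apply, heq, Scheme.Hom.comp_apply, Scheme.fromSpecStalk_closedPoint]

include hdim hgen in
/-- Global functions of a chart and their relations, from the function field. -/
theorem app_surjective_ker {d : ℕ} (G : LefPen.Form n k d)
    (hrange : ∀ f : X.functionField, (∀ Q : FunFld.Place k X.functionField, (∀ j, Q.1 (v j) ≤ 1) → Q.1 f ≤ 1) →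
      ∃ F, MvPolynomial.aeval (R := k) v F = f)
    (hG : MvPolynomial.aeval (R := k) v G.1 = 0)
    (hker : ∀ (m : ℕ) (H : MvPolynomial (Fin (n + 1)) k), H.IsHomogeneous m → MvPolynomial.aeval (R := k) v H = 0 → G.1 ∣ H) :
    Function.Surjective (φ.app (LefPen.chart n k c)) ∧
      RingHom.ker (φ.app (LefPen.chart n k c)).hom = Ideal.span {LefPen.dehom G c} := by
  have hη := eta_mem_chart φ c v hv hgen
  let γ := (X.presheaf.germ (φ ⁻¹ᵁ LefPen.chart n k c) _ hη).hom
  have hγ : Function.Injective γ := germ_injective_of_isIntegral X _ hη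
  have hval : ∀ F, γ ((φ.app (LefPen.chart n k c)).hom
      ((Proj.awayToSection 𝒜 (T c)).hom (ZetaLib.dehom n k c F))) = MvPolynomial.aeval (R := k) v F := fun F =>
    (germ_app φ c v hv hgen _ hη).trans (evalAt_dehom c v hv F)
  refine ⟨fun r => ?_, le_antisymm (fun x hx => ?_) ?_⟩
  · obtain ⟨F, hF⟩ := hrange (γ r) fun Q hQ => by
      obtain ⟨z, rfl⟩ := (ZetaCurve.pl k X hdim).surjective Q
      refine (ZetaCurve.valAt_le_one_iff k X hdim z _).2 ?_
      have hz : z.1 ∈ φ ⁻¹ᵁ LefPen.chart n k c :=
        (mem_chart_iff hdim φ c v hv hgen z.1).2 fun j => (ZetaCurve.valAt_le_one_iff k X hdim z _).1 (hQ j)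
      exact CurveCohLib.Polar.inR_gη hz r
    exact ⟨_, hγ ((hval F).trans hF)⟩
  · obtain ⟨a, rfl⟩ := ((Proj.basicOpenIsoAway 𝒜 (T c) (X_mem_one n k c) Nat.one_pos).commRingCatIsoToRingEquiv).surjective x
    obtain ⟨m, H, hH, rfl⟩ := exists_homogeneous_dehom c a
    have h0 : MvPolynomial.aeval (R := k) v H = 0 := by
      rw [← hval H, ← map_zero γ]
      exact congrArg γ hx
    obtain ⟨B, rfl⟩ := hker m H hH h0
    refine Ideal.mem_span_singleton.2 ?_
    show LefPen.dehom G c ∣ (Proj.awayToSection 𝒜 (T c)).hom (ZetaLib.dehom n k c (G.1 * B))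
    rw [map_mul, map_mul, dehom_eq]
    exact dvd_mul_right _ _
  · rw [Ideal.span_singleton_le_iff_mem, RingHom.mem_ker, dehom_eq]
    exact hγ ((hval G.1).trans (hG.trans (map_zero γ).symm))

end Chart

include hdim hφ in
/-- A map separating a point from the generic point is finite. -/
theorem isFinite_of_separated (U : (ℙ).Opens) (z : X) (hz : φ z ∉ U) (hη : φ (genericPoint X) ∈ U) :
    IsFinite φ := by
  haveI : IsProper (CohB1.ProjSpace.toSpec n k) := PnCoh.Chow.isProper_toSpec n k
  haveI : IsProper φ := by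
    haveI : IsProper (φ ≫ CohB1.ProjSpace.toSpec n k) := hφ ▸ inferInstance
    exact IsProper.of_comp φ (CohB1.ProjSpace.toSpec n k)
  have hclosed : ¬ IsClosed ({φ (genericPoint X)} : Set ↥(ℙ)) := fun h => hz (by
    have h' : φ z = φ (genericPoint X) := ((genericPoint_specializes z).map φ.continuous).mem_closed h rfl
    rwa [h'])
  haveI : LocallyQuasiFinite φ := by
    refine LocallyQuasiFinite.of_finite_preimage_singleton φ fun y => ?_
    by_cases hy : y = φ (genericPoint X)
    · refine (Set.finite_singleton (genericPoint X)).subset fun w hw => ?_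
      rcases ZetaCurve.eq_or_isClosed k X hdim w with h | h
      · exact h
      · refine (hclosed ?_).elim
        have hh := φ.isClosedMap _ h
        rw [Set.image_singleton, show φ w = y from hw, hy] at hh
        exact hh
    · let U : X.Opens := ⟨(φ ⁻¹' closure {y})ᶜ, (isClosed_closure.preimage φ.continuous).isOpen_compl⟩
      by_cases hU : genericPoint X ∈ U
      · refine ((ZetaCurve.finite_not_mem k X hdim hU).image Subtype.val).subset fun w hw => ?_
        rcases ZetaCurve.eq_or_isClosed k X hdim w with h | h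
        · refine (hy ?_).elim
          rw [← show φ w = y from hw, h]
        · exact ⟨⟨w, h⟩, fun hwU => hwU (subset_closure hw), rfl⟩
      · have hs : y ⤳ φ (genericPoint X) := specializes_iff_mem_closure.2 (not_not.1 hU)
        refine Set.Subsingleton.finite fun w hw w' _ => ?_
        refine (hy ?_).elim
        have := ((genericPoint_specializes w).map φ.continuous)
        rw [show φ w = y from hw] at this
        exact hs.antisymm this |>.eq
  exact IsFinite.of_isProper_of_locallyQuasiFinite φ

include hdim hφ in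
/-- Criterion for being an isomorphism onto a hypersurface. -/
theorem exists_iso_hypersurface {d : ℕ} (G : LefPen.Form n k d) (good : Fin (n + 1) → Prop)
    [IsAffineHom φ] (hgood : ∀ c, good c → Function.Surjective (φ.app (LefPen.chart n k c)) ∧
      RingHom.ker (φ.app (LefPen.chart n k c)).hom = Ideal.span {LefPen.dehom G c})
    (hX : ∀ z, ∃ c, good c ∧ φ z ∈ LefPen.chart n k c)
    (hP : ∀ p : ↥(ℙ), (∃ c, good c ∧ p ∈ LefPen.chart n k c) ∨ ∃ j, p ∈ (ℙ).basicOpen (LefPen.dehom G j)) :
    ∃ e : X ≅ (LefPen.hypIdeal G).subscheme,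
      e.hom ≫ (LefPen.hypIdeal G).subschemeι ≫ CohB1.ProjSpace.toSpec n k = X ↘ Spec (CommRingCat.of k) := by
  have hempty : ∀ j, φ ⁻¹ᵁ (ℙ).basicOpen (LefPen.dehom G j) = ⊥ := by
    intro j
    refine le_bot_iff.1 fun z hz => ?_
    obtain ⟨c, hc, hzc⟩ := hX z
    obtain ⟨q, hq⟩ := exists_dehom_mul G c j
    let r := LefPen.chart n k j ⊓ LefPen.chart n k c
    let s := ((ℙ).presheaf.map (homOfLE (inf_le_left : r ≤ LefPen.chart n k j)).op).hom (LefPen.dehom G j)
    have h0 : (φ.app (LefPen.chart n k c)).hom (LefPen.dehom G c) = 0 :=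
      RingHom.mem_ker.1 ((hgood c hc).2 ▸ Ideal.mem_span_singleton_self _)
    have h1 : (φ.app r).hom (((ℙ).presheaf.map (homOfLE (inf_le_right : r ≤ LefPen.chart n k c)).op).hom
        (LefPen.dehom G c)) = 0 := by
      have := congr($(φ.naturality (homOfLE (inf_le_right : r ≤ LefPen.chart n k c)).op) (LefPen.dehom G c))
      refine Eq.trans this ?_
      exact (congrArg _ h0).trans (map_zero (X.presheaf.map _).hom)
    have hs : (φ.app r).hom s = 0 := by
      show (φ.app r).hom (((ℙ).presheaf.map _).hom (LefPen.dehom G j)) = 0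
      rw [hq, map_mul, h1, mul_zero]
    have hzs : φ z ∈ (ℙ).basicOpen s := by
      rw [Scheme.basicOpen_res]
      exact ⟨⟨(ℙ).basicOpen_le _ hz, hzc⟩, hz⟩
    have : z ∈ X.basicOpen ((φ.app r).hom s) := (Scheme.preimage_basicOpen φ s) ▸ hzs
    rw [hs, Scheme.basicOpen_zero] at this
    exact this
  let U : {c // good c} ⊕ Fin (n + 1) → (ℙ).affineOpens :=
    Sum.elim (fun c => chartAff c.1) fun j =>
      ⟨(ℙ).basicOpen (LefPen.dehom G j), (isAffineOpen_chart j).basicOpen _⟩
  have hU : ⨆ i, (U i).1 = ⊤ := top_le_iff.1 fun p _ => by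
    rcases hP p with ⟨c, hc, hp⟩ | ⟨j, hp⟩
    · exact Opens.mem_iSup.2 ⟨Sum.inl ⟨c, hc⟩, hp⟩
    · exact Opens.mem_iSup.2 ⟨Sum.inr j, hp⟩
  have hsub : ∀ j, Subsingleton Γ(X, φ ⁻¹ᵁ (ℙ).basicOpen (LefPen.dehom G j)) := fun j => by
    rw [hempty j]
    infer_instance
  have hsurj : ∀ i, Function.Surjective (φ.app (U i).1) := by
    rintro (c | j)
    · exact (hgood c.1 c.2).1
    · exact fun r => ⟨0, @Subsingleton.elim _ (hsub j) _ _⟩
  have hcl : IsClosedImmersion φ := by
    rw [HasAffineProperty.iff_of_iSup_eq_top (P := @IsClosedImmersion) U hU]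
    intro i
    refine ⟨(U i).2.preimage φ, ?_⟩
    have key : ∀ V : (ℙ).Opens, V = (U i).1 → Function.Surjective (φ.app V) := by
      rintro V rfl; exact hsurj i
    rw [Scheme.Hom.appTop, morphismRestrict_app]
    intro r
    obtain ⟨a, ha⟩ := (ConcreteCategory.bijective_of_isIso (X.presheaf.map (eqToHom (image_morphismRestrict_preimage φ (U i).1 ⊤)).op)).surjective r
    obtain ⟨b, hb⟩ := key _ (U i).1.ι_image_top a
    exact ⟨b, (congrArg _ hb).trans ha⟩
  have hker : φ.ker = LefPen.hypIdeal G := by
    refine Scheme.IdealSheafData.ext_of_iSup_eq_top U hU ?_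
    rintro (c | j)
    · rw [Scheme.Hom.ker_apply]
      exact (hgood c.1 c.2).2.trans (hypIdeal_chart G c.1).symm
    · rw [Scheme.Hom.ker_apply]
      have h1 : RingHom.ker (φ.app (U (Sum.inr j)).1).hom = ⊤ :=
        top_le_iff.1 fun r _ => RingHom.mem_ker.2 (@Subsingleton.elim _ (hsub j) _ _)
      rw [h1]
      refine (Ideal.eq_top_of_isUnit_mem _ ?_ (RingedSpace.isUnit_res_basicOpen _ (LefPen.dehom G j))).symm
      have := (LefPen.hypIdeal G).map_ideal (U := U (Sum.inr j)) (V := chartAff j) ((ℙ).basicOpen_le _)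
      rw [← this, hypIdeal_chart]
      exact Ideal.mem_map_of_mem _ (Ideal.mem_span_singleton_self _)
  rw [← hker]
  exact ⟨asIso φ.toImage, by rw [asIso_hom, ← hφ]; exact φ.toImage_imageι_assoc _⟩

end Groth.Agent.HypX
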