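import Groth.Agent.HypX.UniqueFF
import Groth.Agent.HyperP1.LineMap
import Groth.Agent.CurveBC.Geometry

/-!
Curves with the same function field, and the uniqueness of a double cover of a curve of genus zero.
-/

noncomputable section

set_option autoImplicit false
set_option linter.style.haveILetI false
set_option linter.unusedSectionVars false
set_option backward.isDefEq.respectTransparency false
set_option backward.isDefEq.respectTransparency.types false
set_option maxHeartbeats 1000000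

universe u

open CategoryTheory CategoryTheory.Limits AlgebraicGeometry TopologicalSpace
open FunFld

namespace Groth.Agent.HypX

attribute [local instance] ZetaCurve.ffAlg

variable (k : Type u) [Field k]

/-- A map of function fields extends to a map of curves. -/
theorem exists_hom_of_ff {P Q : Scheme.{u}} [P.Over (Spec (CommRingCat.of k))] [IsIntegral P]
    [IsProper (P ↘ Spec (CommRingCat.of k))] [Smooth (P ↘ Spec (CommRingCat.of k))]
    (hP : topologicalKrullDim P = 1) [Q.Over (Spec (CommRingCat.of k))] [IsIntegral Q]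
    [IsProper (Q ↘ Spec (CommRingCat.of k))] (θ : Q.functionField →ₐ[k] P.functionField) :
    ∃ e : P ⟶ Q, e ≫ (Q ↘ Spec (CommRingCat.of k)) = P ↘ Spec (CommRingCat.of k) ∧
      P.fromSpecStalk (genericPoint P) ≫ e =
        Spec.map (CommRingCat.ofHom θ.toRingHom) ≫ Q.fromSpecStalk (genericPoint Q) := by
  haveI : Q.IsSeparated :=
    ⟨by rw [← Limits.terminal.comp_from (Q ↘ Spec (CommRingCat.of k))]; infer_instance⟩
  have h₀ : (Spec.map (CommRingCat.ofHom θ.toRingHom) ≫ Q.fromSpecStalk (genericPoint Q)) ≫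
      (Q ↘ Spec (CommRingCat.of k)) = P.fromSpecStalk (genericPoint P) ≫ (P ↘ Spec (CommRingCat.of k)) := by
    rw [Category.assoc, HyperP1.fromSpecStalk_over, HyperP1.fromSpecStalk_over, ← Spec.map_comp]
    congr 1
    exact CommRingCat.hom_ext (RingHom.ext fun c => θ.commutes c)
  obtain ⟨W, hW, H, hsub, hH, hH'⟩ := H23.RatExtend.extend (P ↘ Spec (CommRingCat.of k))
    (Q ↘ Spec (CommRingCat.of k)) _ h₀ Set.univ
    fun p _ => H23.RatExtend.exists_lift _ _ _ h₀ p (HyperP1.valuationRing_stalk k hP p)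
  haveI : IsIso W.ι := by
    have : Surjective W.ι := ⟨fun y => ⟨⟨y, hsub trivial⟩, rfl⟩⟩
    exact (isIso_iff_isOpenImmersion_and_surjective _).2 ⟨inferInstance, this⟩
  refine ⟨inv W.ι ≫ H, by rw [Category.assoc, hH, IsIso.inv_hom_id_assoc], ?_⟩
  rw [← hH', ← Scheme.Opens.fromSpecStalkOfMem_ι W (genericPoint P) hW, Category.assoc, IsIso.hom_inv_id_assoc]

variable {k}

/-- A double cover at the generic point. -/
theorem fromSpecStalk_comp {A B : Over (Spec (CommRingCat.of k))} [IsIntegral A.left] [IsIntegral B.left]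
    (φ : A ⟶ B) [IsFinite φ.left] [Surjective φ.left] :
    A.left.fromSpecStalk (genericPoint A.left) ≫ φ.left =
      Spec.map (CommRingCat.ofHom (AVDegLib.ffMap φ)) ≫ B.left.fromSpecStalk (genericPoint B.left) := by
  show _ = Spec.map (B.left.presheaf.stalkSpecializes _ ≫ φ.left.stalkMap (genericPoint A.left)) ≫ _
  rw [Spec.map_comp, Category.assoc, Scheme.SpecMap_stalkSpecializes_fromSpecStalk,
    Scheme.SpecMap_stalkMap_fromSpecStalk]

theorem hom_ext_generic {A B : Scheme.{u}} [IsIntegral A] [B.IsSeparated] {f g : A ⟶ B}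
    (h : A.fromSpecStalk (genericPoint A) ≫ f = A.fromSpecStalk (genericPoint A) ≫ g) : f = g :=
  haveI := H23.RatExtend.isDominant_fromSpecStalk (X := A)
  ext_of_isDominant _ h

variable {C P : Scheme.{u}} [C.Over (Spec (CommRingCat.of k))] [IsIntegral C]
  [IsProper (C ↘ Spec (CommRingCat.of k))] [Smooth (C ↘ Spec (CommRingCat.of k))]
  (hC : topologicalKrullDim C = 1) (h0C : Module.finrank k (Coh.HH C (Coh.structureModule C) 0) = 1)

include hC h0C in
/-- The function field of the target of a double cover. -/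
theorem exists_cover_field [P.Over (Spec (CommRingCat.of k))] [IsProper (P ↘ Spec (CommRingCat.of k))]
    [IsIntegral P] (f : C ⟶ P) (hf : f ≫ (P ↘ Spec (CommRingCat.of k)) = C ↘ Spec (CommRingCat.of k))
    [IsFinite f] [Flat f] (hr : ∀ y : P, Scheme.Hom.finrank f y = 2) :
    ∃ ψ : P.functionField →ₐ[k] C.functionField, Module.finrank ψ.fieldRange C.functionField = 2 ∧
      C.fromSpecStalk (genericPoint C) ≫ f =
        Spec.map (CommRingCat.ofHom ψ.toRingHom) ≫ P.fromSpecStalk (genericPoint P) := by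
  haveI : IsLocallyNoetherian P := LocallyOfFiniteType.isLocallyNoetherian (P ↘ Spec (CommRingCat.of k))
  haveI hs : Surjective f := (Scheme.Hom.one_le_finrank_iff_surjective f).1 fun y => by
    show (1 : ℕ) ≤ f.finrank y
    rw [hr y]; norm_num
  let A : Over (Spec (CommRingCat.of k)) := Over.mk (C ↘ Spec (CommRingCat.of k))
  let B : Over (Spec (CommRingCat.of k)) := Over.mk (P ↘ Spec (CommRingCat.of k))
  let φ : A ⟶ B := Over.homMk f hf
  haveI : IsIntegral A.left := ‹IsIntegral C›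
  haveI : IsIntegral B.left := ‹IsIntegral P›
  haveI : IsFinite φ.left := ‹IsFinite f›
  haveI : Surjective φ.left := hs
  haveI : Flat φ.left := ‹Flat f›
  haveI : LocallyOfFinitePresentation φ.left := inferInstanceAs (LocallyOfFinitePresentation f)
  let ψ : P.functionField →ₐ[k] C.functionField :=
    { AVDegLib.ffMap φ with commutes' := fun c => AVDegLib.ffMap_algebraMap φ c }
  refine ⟨ψ, ?_, fromSpecStalk_comp φ⟩
  have he := (AVDegLib.finrank_eq φ (genericPoint P)).symm
  change _ = f.finrank _ at he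
  rw [hr] at he
  letI : Algebra P.functionField C.functionField := AVDegLib.ffExt φ
  refine Eq.trans ?_ he
  exact (Algebra.finrank_eq_of_equiv_equiv (RingEquiv.ofBijective ψ.rangeRestrict
    ⟨fun a b hab => ψ.toRingHom.injective (congrArg Subtype.val hab), AlgHom.rangeRestrict_surjective ψ⟩)
    (RingEquiv.refl _) (RingHom.ext fun a => rfl)).symm

include hC h0C in
/-- The subfield of a double cover of a curve of genus zero. -/
theorem exists_subfield [P.Over (Spec (CommRingCat.of k))] [IsProper (P ↘ Spec (CommRingCat.of k))]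
    [Smooth (P ↘ Spec (CommRingCat.of k))] [IsIntegral P] (hP : topologicalKrullDim P = 1)
    (h0P : Module.finrank k (Coh.HH P (Coh.structureModule P) 0) = 1) (hgP : Curv2.genus k P = 0)
    (f : C ⟶ P) (hf : f ≫ (P ↘ Spec (CommRingCat.of k)) = C ↘ Spec (CommRingCat.of k))
    [IsFinite f] [Flat f] (hr : ∀ y : P, Scheme.Hom.finrank f y = 2) :
    ∃ ψ : P.functionField →ₐ[k] C.functionField, Module.finrank ψ.fieldRange C.functionField = 2 ∧
      Nonempty (ZeroData ψ.fieldRange) ∧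
      C.fromSpecStalk (genericPoint C) ≫ f =
        Spec.map (CommRingCat.ofHom ψ.toRingHom) ≫ P.fromSpecStalk (genericPoint P) := by
  obtain ⟨ψ, h2, hgen⟩ := exists_cover_field hC h0C f hf hr
  exact ⟨ψ, h2, nonempty_zeroData (ZetaCurve.isFunctionField k C hC h0C) (ZetaCurve.isFunctionField k P hP h0P)
    ((ZetaCurve.genus_eq k P hP h0P).trans hgP) ψ h2, hgen⟩

/-- Targets with the same subfield are isomorphic. -/
theorem exists_iso_of_range_eq {P₁ P₂ : Scheme.{u}}
    [P₁.Over (Spec (CommRingCat.of k))] [IsIntegral P₁] [IsProper (P₁ ↘ Spec (CommRingCat.of k))]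
    [Smooth (P₁ ↘ Spec (CommRingCat.of k))] (hP₁ : topologicalKrullDim P₁ = 1)
    [P₂.Over (Spec (CommRingCat.of k))] [IsIntegral P₂] [IsProper (P₂ ↘ Spec (CommRingCat.of k))]
    [Smooth (P₂ ↘ Spec (CommRingCat.of k))] (hP₂ : topologicalKrullDim P₂ = 1) {f₁ : C ⟶ P₁} {f₂ : C ⟶ P₂}
    {ψ₁ : P₁.functionField →ₐ[k] C.functionField} {ψ₂ : P₂.functionField →ₐ[k] C.functionField}
    (hgen₁ : C.fromSpecStalk (genericPoint C) ≫ f₁ =
      Spec.map (CommRingCat.ofHom ψ₁.toRingHom) ≫ P₁.fromSpecStalk (genericPoint P₁))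
    (hgen₂ : C.fromSpecStalk (genericPoint C) ≫ f₂ =
      Spec.map (CommRingCat.ofHom ψ₂.toRingHom) ≫ P₂.fromSpecStalk (genericPoint P₂))
    (hF : ψ₂.fieldRange = ψ₁.fieldRange) :
    ∃ e : P₁ ≅ P₂, e.hom ≫ (P₂ ↘ Spec (CommRingCat.of k)) = P₁ ↘ Spec (CommRingCat.of k) ∧ f₁ ≫ e.hom = f₂ := by
  let θ : P₂.functionField ≃ₐ[k] P₁.functionField :=
    (AlgEquiv.ofInjectiveField ψ₂).trans ((IntermediateField.equivOfEq hF).trans (AlgEquiv.ofInjectiveField ψ₁).symm)
  have hθ : ψ₁.comp θ.toAlgHom = ψ₂ := AlgHom.ext fun a => by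
    have := (AlgEquiv.ofInjectiveField ψ₁).apply_symm_apply
      ((IntermediateField.equivOfEq hF) (AlgEquiv.ofInjectiveField ψ₂ a))
    exact congrArg Subtype.val this
  obtain ⟨e, he, hgene⟩ := exists_hom_of_ff k hP₁ θ.toAlgHom
  obtain ⟨e', he', hgene'⟩ := exists_hom_of_ff k hP₂ θ.symm.toAlgHom
  haveI : P₁.IsSeparated :=
    ⟨by rw [← Limits.terminal.comp_from (P₁ ↘ Spec (CommRingCat.of k))]; infer_instance⟩
  haveI : P₂.IsSeparated :=
    ⟨by rw [← Limits.terminal.comp_from (P₂ ↘ Spec (CommRingCat.of k))]; infer_instance⟩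
  refine ⟨⟨e, e', hom_ext_generic ?_, hom_ext_generic ?_⟩, he, hom_ext_generic ?_⟩
  · rw [reassoc_of% hgene, hgene', ← Category.assoc, ← Spec.map_comp, Category.comp_id]
    rw [show CommRingCat.ofHom θ.symm.toAlgHom.toRingHom ≫ CommRingCat.ofHom θ.toAlgHom.toRingHom = 𝟙 _ from
      CommRingCat.hom_ext (RingHom.ext θ.apply_symm_apply), Spec.map_id]
    exact Category.id_comp _
  · rw [reassoc_of% hgene', hgene, ← Category.assoc, ← Spec.map_comp, Category.comp_id]
    rw [show CommRingCat.ofHom θ.toAlgHom.toRingHom ≫ CommRingCat.ofHom θ.symm.toAlgHom.toRingHom = 𝟙 _ from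
      CommRingCat.hom_ext (RingHom.ext θ.symm_apply_apply), Spec.map_id]
    exact Category.id_comp _
  · rw [reassoc_of% hgen₁, hgene, hgen₂, ← Category.assoc, ← Spec.map_comp]
    congr 2
    exact CommRingCat.hom_ext (congrArg AlgHom.toRingHom hθ)

include hC h0C in
/-- The double cover of a curve of genus zero is unique. -/
theorem unique_double_cover (hg : 2 ≤ Curv2.genus k C) {P₁ P₂ : Scheme.{u}}
    [P₁.Over (Spec (CommRingCat.of k))] [IsProper (P₁ ↘ Spec (CommRingCat.of k))]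
    [Smooth (P₁ ↘ Spec (CommRingCat.of k))] [GeometricallyConnected (P₁ ↘ Spec (CommRingCat.of k))]
    (hP₁ : topologicalKrullDim P₁ = 1) (hg₁ : Curv2.genus k P₁ = 0)
    [P₂.Over (Spec (CommRingCat.of k))] [IsProper (P₂ ↘ Spec (CommRingCat.of k))]
    [Smooth (P₂ ↘ Spec (CommRingCat.of k))] [GeometricallyConnected (P₂ ↘ Spec (CommRingCat.of k))]
    (hP₂ : topologicalKrullDim P₂ = 1) (hg₂ : Curv2.genus k P₂ = 0)
    (f₁ : C ⟶ P₁) (hf₁ : f₁ ≫ (P₁ ↘ Spec (CommRingCat.of k)) = C ↘ Spec (CommRingCat.of k))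
    [IsFinite f₁] [Flat f₁] (hr₁ : ∀ y : P₁, Scheme.Hom.finrank f₁ y = 2)
    (f₂ : C ⟶ P₂) (hf₂ : f₂ ≫ (P₂ ↘ Spec (CommRingCat.of k)) = C ↘ Spec (CommRingCat.of k))
    [IsFinite f₂] [Flat f₂] (hr₂ : ∀ y : P₂, Scheme.Hom.finrank f₂ y = 2) :
    ∃ e : P₁ ≅ P₂, e.hom ≫ (P₂ ↘ Spec (CommRingCat.of k)) = P₁ ↘ Spec (CommRingCat.of k) ∧ f₁ ≫ e.hom = f₂ := by
  haveI := CurveBC.isIntegral_of_h0 k P₁ (CurveBC.finrank_h0_of_geometricallyConnected k P₁)
  haveI := CurveBC.isIntegral_of_h0 k P₂ (CurveBC.finrank_h0_of_geometricallyConnected k P₂)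
  obtain ⟨ψ₁, h₁, ⟨S₁⟩, hgen₁⟩ := exists_subfield hC h0C hP₁ (CurveBC.finrank_h0_of_geometricallyConnected k P₁) hg₁ f₁ hf₁ hr₁
  obtain ⟨ψ₂, h₂, ⟨S₂⟩, hgen₂⟩ := exists_subfield hC h0C hP₂ (CurveBC.finrank_h0_of_geometricallyConnected k P₂) hg₂ f₂ hf₂ hr₂
  have hF : ψ₂.fieldRange = ψ₁.fieldRange := (index_two_unique (ZetaCurve.isFunctionField k C hC h0C)
    ((ZetaCurve.genus_eq k C hC h0C).trans rfl) hg S₁ S₂ h₁ h₂).symm
  exact exists_iso_of_range_eq hP₁ hP₂ hgen₁ hgen₂ hF

end Groth.Agent.HypX
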