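import Groth.Agent.HypX.UniqueCover
import Groth.Agent.CurveCohLib.SmoothCurve
import Groth.Agent.S7810

/-!
The hyperelliptic involution is unique.
-/

noncomputable section

set_option autoImplicit false
set_option linter.style.haveILetI false
set_option linter.unusedSectionVars false
set_option backward.isDefEq.respectTransparency false
set_option backward.isDefEq.respectTransparency.types false
set_option maxHeartbeats 1000000

universe u

open CategoryTheory CategoryTheory.Limits AlgebraicGeometry TopologicalSpace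
open FunFld

namespace Groth.Agent.HypX

/-- A quadratic extension has only one automorphism besides the identity. -/
theorem eq_of_quadratic {F K : Type*} [Field F] [Field K] [Algebra F K] (h2 : Module.finrank F K = 2)
    (s t : K →ₐ[F] K) (hs : s ≠ AlgHom.id F K) (ht : t ≠ AlgHom.id F K) : s = t := by
  haveI : FiniteDimensional F K := Module.finite_of_finrank_pos (by omega)
  obtain ⟨y, hy⟩ : ∃ y, y ∉ Set.range (algebraMap F K) := by
    by_contra! h
    have : Module.finrank F K ≤ 1 := finrank_le_one (1 : K) fun w => by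
      obtain ⟨c, rfl⟩ := h w
      exact ⟨c, by rw [Algebra.smul_def, mul_one]⟩
    omega
  have hli : LinearIndependent F ![(1 : K), y] := by
    rw [LinearIndependent.pair_iff]
    intro a b h
    have hb : b = 0 := by
      by_contra hb
      refine hy ⟨-a / b, ?_⟩
      rw [map_div₀, map_neg, div_eq_iff (by simpa using hb)]
      simp only [Algebra.smul_def, mul_one] at h
      linear_combination -h
    refine ⟨?_, hb⟩
    rw [hb, zero_smul, add_zero] at h
    simpa [Algebra.smul_def] using h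
  let B := basisOfLinearIndependentOfCardEqFinrank hli (by simp [h2])
  have hB : ∀ w : K, ∃ a b : F, w = algebraMap F K a + algebraMap F K b * y := fun w => by
    refine ⟨B.repr w 0, B.repr w 1, ?_⟩
    conv_lhs => rw [← B.sum_repr w]
    simp [B, Fin.sum_univ_two, Algebra.smul_def]
  obtain ⟨a, b, hab⟩ := hB (y * y)
  have key : ∀ s : K →ₐ[F] K, s ≠ AlgHom.id F K → s y = algebraMap F K b - y := fun s hs => by
    have h1 : s y ≠ y := fun h => hs (AlgHom.ext fun w => by
      obtain ⟨c, d, rfl⟩ := hB w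
      simp [h])
    have h3 := congrArg s hab
    simp only [map_mul, map_add, AlgHom.commutes] at h3
    have h4 : (s y - y) * (s y - (algebraMap F K b - y)) = 0 := by linear_combination h3 - hab
    exact sub_eq_zero.1 ((mul_eq_zero.1 h4).resolve_left (sub_ne_zero.2 h1))
  refine AlgHom.ext fun w => ?_
  obtain ⟨c, d, rfl⟩ := hB w
  simp [key s hs, key t ht]

attribute [local instance] ZetaCurve.ffAlg H23.PnChart.isIntegral_projSpace

variable {k : Type u} [Field k] [IsAlgClosed k] {X : Scheme.{u}} [X.Over (Spec (CommRingCat.of k))]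
  [IsProper (X ↘ Spec (CommRingCat.of k))] [Smooth (X ↘ Spec (CommRingCat.of k))] [ConnectedSpace X]
  (hX : topologicalKrullDim X = 1) (hg : 2 ≤ Curv2.genus k X)

include hX hg in
/-- Two maps commuting with double covers of the line, different from the identity, coincide. -/
theorem involution_unique (h₁ h₂ : X ⟶ CohB1.ProjSpace 1 k)
    (hh₁ : h₁ ≫ CohB1.ProjSpace.toSpec 1 k = X ↘ Spec (CommRingCat.of k))
    (hh₂ : h₂ ≫ CohB1.ProjSpace.toSpec 1 k = X ↘ Spec (CommRingCat.of k))
    [IsFinite h₁] [Flat h₁] (hr₁ : ∀ y : ↥(CohB1.ProjSpace 1 k), h₁.finrank y = 2)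
    [IsFinite h₂] [Flat h₂] (hr₂ : ∀ y : ↥(CohB1.ProjSpace 1 k), h₂.finrank y = 2)
    (σ τ : X ⟶ X) (hσ : σ ≫ h₁ = h₁) (hσ₁ : σ ≠ 𝟙 X) (hτ : τ ≫ h₂ = h₂) (hτ₁ : τ ≠ 𝟙 X) :
    σ = τ := by
  haveI := QuasiCompact.compactSpace_of_compactSpace (X ↘ Spec (CommRingCat.of k))
  haveI := CurveCohLib.isIntegral_of_smooth_connected (X ↘ Spec (CommRingCat.of k))
  haveI : IsProper ((CohB1.ProjSpace 1 k) ↘ Spec (CommRingCat.of k)) := PnCoh.Chow.isProper_toSpec 1 k
  haveI : Smooth ((CohB1.ProjSpace 1 k) ↘ Spec (CommRingCat.of k)) := CurveEmbed.smooth_toSpec 1 k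
  haveI : X.IsSeparated :=
    ⟨by rw [← Limits.terminal.comp_from (X ↘ Spec (CommRingCat.of k))]; infer_instance⟩
  haveI : (CohB1.ProjSpace 1 k).IsSeparated :=
    ⟨by rw [← Limits.terminal.comp_from ((CohB1.ProjSpace 1 k) ↘ Spec (CommRingCat.of k))]; infer_instance⟩
  have h0X := CurveCohLib.finrank_h0_eq_one k X
  obtain ⟨hP0, hPg⟩ := S7810.projLine_facts k
  obtain ⟨ψ₁, e₁, ⟨S₁⟩, hgen₁⟩ := exists_subfield hX h0X (P1Split.dim_eq k) hP0 hPg h₁ hh₁ hr₁
  obtain ⟨ψ₂, e₂, ⟨S₂⟩, hgen₂⟩ := exists_subfield hX h0X (P1Split.dim_eq k) hP0 hPg h₂ hh₂ hr₂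
  have hF : ψ₂.fieldRange = ψ₁.fieldRange := (index_two_unique (ZetaCurve.isFunctionField k X hX h0X)
    ((ZetaCurve.genus_eq k X hX h0X).trans rfl) hg S₁ S₂ e₁ e₂).symm
  haveI hs₁ : Surjective h₁ := (Scheme.Hom.one_le_finrank_iff_surjective h₁).1 fun y => by
    show (1 : ℕ) ≤ h₁.finrank y
    rw [hr₁ y]; norm_num
  haveI hs₂ : Surjective h₂ := by
    haveI : IsLocallyNoetherian (CohB1.ProjSpace 1 k) :=
      LocallyOfFiniteType.isLocallyNoetherian ((CohB1.ProjSpace 1 k) ↘ Spec (CommRingCat.of k))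
    exact (Scheme.Hom.one_le_finrank_iff_surjective h₂).1 fun y => by
      show (1 : ℕ) ≤ h₂.finrank y
      rw [hr₂ y]; norm_num
  -- the action on the function field
  have act : ∀ (ρ : X ⟶ X) (h : X ⟶ CohB1.ProjSpace 1 k) [IsFinite h] [Surjective h],
      h ≫ CohB1.ProjSpace.toSpec 1 k = X ↘ Spec (CommRingCat.of k) →
      ∀ (ψ : (CohB1.ProjSpace 1 k).functionField →ₐ[k] X.functionField),
      X.fromSpecStalk (genericPoint X) ≫ h =
        Spec.map (CommRingCat.ofHom ψ.toRingHom) ≫ (CohB1.ProjSpace 1 k).fromSpecStalk (genericPoint _) →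
      ρ ≫ h = h → ρ ≠ 𝟙 X →
      ∃ s : X.functionField →ₐ[ψ.fieldRange] X.functionField, s ≠ AlgHom.id _ _ ∧
        X.fromSpecStalk (genericPoint X) ≫ ρ =
          Spec.map (CommRingCat.ofHom s.toRingHom) ≫ X.fromSpecStalk (genericPoint X) := by
    intro ρ h _ _ hh ψ hψ hρ hne
    haveI : IsFinite (ρ ≫ h) := by rw [hρ]; infer_instance
    haveI : IsFinite ρ := IsFinite.of_comp ρ h
    haveI : Surjective ρ := by
      refine ⟨fun x => ?_⟩
      have he : ρ (genericPoint X) = genericPoint X := by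
        have h2 : h (ρ (genericPoint X)) = h (genericPoint X) := by rw [← Scheme.Hom.comp_apply, hρ]
        exact (CurveBC.eq_of_specializes_fibre h (genericPoint_specializes _) h2.symm).symm
      exact ((genericPoint_specializes x).mem_closed (ρ.isClosedMap _ isClosed_univ)
        ⟨genericPoint X, trivial, he⟩).imp fun z hz => hz.2
    have hρp : ρ ≫ (X ↘ Spec (CommRingCat.of k)) = X ↘ Spec (CommRingCat.of k) := by
      rw [← hh, reassoc_of% hρ]
    let A : Over (Spec (CommRingCat.of k)) := Over.mk (X ↘ Spec (CommRingCat.of k))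
    let φ : A ⟶ A := Over.homMk ρ hρp
    haveI : IsIntegral A.left := ‹IsIntegral X›
    haveI : IsFinite φ.left := ‹IsFinite ρ›
    haveI : Surjective φ.left := ‹Surjective ρ›
    have hgen : X.fromSpecStalk (genericPoint X) ≫ ρ =
        Spec.map (CommRingCat.ofHom (AVDegLib.ffMap φ)) ≫ X.fromSpecStalk (genericPoint X) := fromSpecStalk_comp φ
    have hfix : ∀ a, AVDegLib.ffMap φ (ψ a) = ψ a := by
      have h3 : Spec.map (CommRingCat.ofHom ψ.toRingHom ≫ CommRingCat.ofHom (AVDegLib.ffMap φ)) ≫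
          (CohB1.ProjSpace 1 k).fromSpecStalk (genericPoint _) =
          Spec.map (CommRingCat.ofHom ψ.toRingHom) ≫ (CohB1.ProjSpace 1 k).fromSpecStalk (genericPoint _) := by
        rw [Spec.map_comp, Category.assoc, ← hψ, ← reassoc_of% hgen, hρ]
      intro a
      exact congr($(Spec.map_injective ((cancel_mono _).1 h3)) a)
    refine ⟨{ AVDegLib.ffMap φ with commutes' := ?_ }, fun hid => hne (hom_ext_generic ?_), hgen⟩
    · rintro ⟨_, a, rfl⟩
      exact hfix a
    · rw [hgen, Category.comp_id]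
      have : AVDegLib.ffMap φ = RingHom.id _ := congrArg AlgHom.toRingHom hid
      rw [this]
      exact (congrArg (· ≫ _) (Spec.map_id _)).trans (Category.id_comp _)
  obtain ⟨s, hs, hgs⟩ := act σ h₁ hh₁ ψ₁ hgen₁ hσ hσ₁
  have key : ∀ (F : IntermediateField k X.functionField), F = ψ₁.fieldRange →
      ∀ (t : X.functionField →ₐ[F] X.functionField), t ≠ AlgHom.id _ _ → s.toRingHom = t.toRingHom := by
    rintro F rfl t ht
    rw [eq_of_quadratic e₁ s t hs ht]
  obtain ⟨t, ht, hgt⟩ := act τ h₂ hh₂ ψ₂ hgen₂ hτ hτ₁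
  refine hom_ext_generic ?_
  rw [hgs, hgt, key _ hF t ht]

end Groth.Agent.HypX
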