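import Groth.Agent.ZetaLib.ProjPoints
import Groth.Agent.PnCoh.Chow.Proper
import Groth.Prelude.Def_LefPen

/-!
The ideal sheaf of a hypersurface in projective space: `hypIdeal G` has sections `hypFamily G`, and on the
`i`-th standard chart it is generated by `dehom G i`.
-/

noncomputable section

set_option autoImplicit false
set_option linter.style.haveILetI false
set_option linter.unusedSectionVars false
set_option backward.isDefEq.respectTransparency false
set_option backward.isDefEq.respectTransparency.types false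

universe u

open CategoryTheory CategoryTheory.Limits AlgebraicGeometry Opposite
open Groth.Agent.ZetaLib
open HomogeneousLocalization (Away)

namespace Groth.Agent.HypX

variable {n : ℕ} {k : Type u} [Field k]

local notation "𝒜" => CohB1.polyGrading n k
local notation "T" => (MvPolynomial.X : Fin (n + 1) → MvPolynomial (Fin (n + 1)) k)
local notation "P" => CohB1.ProjSpace n k

theorem isAffineOpen_chart (i : Fin (n + 1)) : IsAffineOpen (LefPen.chart n k i) :=
  Proj.isAffineOpen_basicOpen 𝒜 (T i) (X_mem_one n k i) Nat.one_pos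

/-- The chart as an affine open. -/
def chartAff (i : Fin (n + 1)) : (P).affineOpens := ⟨LefPen.chart n k i, isAffineOpen_chart i⟩

variable {d : ℕ}

theorem isHomogeneous_form (G : LefPen.Form n k d) : G.1.IsHomogeneous d :=
  (MvPolynomial.mem_homogeneousSubmodule d _).mp G.2

theorem dehom_eq (G : LefPen.Form n k d) (i : Fin (n + 1)) :
    LefPen.dehom G i = (Proj.awayToSection 𝒜 (T i)).hom (ZetaLib.dehom n k i G.1) := by
  unfold LefPen.dehom
  congr 1
  apply HomogeneousLocalization.val_injective
  have hu : IsUnit (algebraMap (MvPolynomial (Fin (n + 1)) k) (Localization (Submonoid.powers (T i))) (T i) ^ d) :=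
    (IsLocalization.map_units _ (⟨T i, 1, pow_one _⟩ : Submonoid.powers (T i))).pow d
  refine hu.mul_left_injective ?_
  show _ * _ = _ * _
  rw [val_dehom_mul n k i (isHomogeneous_form G), HomogeneousLocalization.Away.val_mk, ← map_pow,
    ← Localization.mk_one_eq_algebraMap, ← Localization.mk_one_eq_algebraMap, Localization.mk_mul,
    Localization.mk_eq_mk_iff, Localization.r_iff_exists]
  exact ⟨1, by simp [mul_comm]⟩

theorem res_res {X : Scheme.{u}} {U V W : X.Opens} (h : V ≤ U) (h' : W ≤ V) (x : Γ(X, U)) :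
    (X.presheaf.map (homOfLE h').op).hom ((X.presheaf.map (homOfLE h).op).hom x) =
      (X.presheaf.map (homOfLE (h'.trans h)).op).hom x := by
  rw [← RingHom.comp_apply, ← CommRingCat.hom_comp, ← X.presheaf.map_comp]
  rfl

/-- On the overlap of two charts the two local equations differ by a factor. -/
theorem exists_dehom_mul (G : LefPen.Form n k d) (i j : Fin (n + 1)) :
    ∃ c, ((P).presheaf.map (homOfLE (inf_le_left : LefPen.chart n k j ⊓ LefPen.chart n k i ≤ LefPen.chart n k j)).op).hom
        (LefPen.dehom G j) = c * ((P).presheaf.map (homOfLE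
          (inf_le_right : LefPen.chart n k j ⊓ LefPen.chart n k i ≤ LefPen.chart n k i)).op).hom (LefPen.dehom G i) := by
  have hij : T i * T j = T j * T i := mul_comm _ _
  let Ai : Away 𝒜 (T i) →+* Away 𝒜 (T i * T j) := HomogeneousLocalization.awayMap 𝒜 (X_mem_one n k j) rfl
  let Aj : Away 𝒜 (T j) →+* Away 𝒜 (T i * T j) := HomogeneousLocalization.awayMap 𝒜 (X_mem_one n k i) hij
  let L := Localization (Submonoid.powers (T i * T j))
  let am : MvPolynomial (Fin (n + 1)) k →+* L := algebraMap _ _
  have hux : IsUnit (am (T i * T j)) :=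
    IsLocalization.map_units L (⟨T i * T j, 1, pow_one _⟩ : Submonoid.powers (T i * T j))
  have huj : IsUnit (am (T j)) := isUnit_of_dvd_unit (map_dvd am (dvd_mul_left _ _)) hux
  have hi : ∀ (m : ℕ) (x : MvPolynomial (Fin (n + 1)) k), x.IsHomogeneous m →
      (Ai (ZetaLib.dehom n k i x)).val * am (T i) ^ m = am x := by
    intro m x hx
    rw [show Ai = HomogeneousLocalization.awayMap 𝒜 (X_mem_one n k j) rfl from rfl,
      HomogeneousLocalization.val_awayMap]
    have h := congrArg (Localization.awayLift (algebraMap (MvPolynomial (Fin (n + 1)) k) L) (T i)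
      (isUnit_of_dvd_unit (map_dvd am (dvd_mul_right _ _)) hux)) (val_dehom_mul n k i hx)
    rw [map_mul, map_pow] at h
    simp only [Localization.awayLift, IsLocalization.Away.lift_eq] at h
    exact h
  have hj : ∀ (m : ℕ) (x : MvPolynomial (Fin (n + 1)) k), x.IsHomogeneous m →
      (Aj (ZetaLib.dehom n k j x)).val * am (T j) ^ m = am x := by
    intro m x hx
    rw [show Aj = HomogeneousLocalization.awayMap 𝒜 (X_mem_one n k i) hij from rfl,
      HomogeneousLocalization.val_awayMap]
    have h := congrArg (Localization.awayLift (algebraMap (MvPolynomial (Fin (n + 1)) k) L) (T j)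
      (isUnit_of_dvd_unit (map_dvd am (dvd_mul_left _ _)) hux)) (val_dehom_mul n k j hx)
    rw [map_mul, map_pow] at h
    simp only [Localization.awayLift, IsLocalization.Away.lift_eq] at h
    exact h
  have key : Aj (ZetaLib.dehom n k j G.1) =
      Aj (ZetaLib.dehom n k j (T i ^ d)) * Ai (ZetaLib.dehom n k i G.1) := by
    apply HomogeneousLocalization.val_injective
    rw [HomogeneousLocalization.val_mul]
    refine (huj.pow d).mul_left_injective ?_
    show _ * _ = _ * _
    rw [hj d G.1 (isHomogeneous_form G), mul_right_comm,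
      hj d (T i ^ d) (MvPolynomial.isHomogeneous_X_pow i d), map_pow]
    exact (hi d G.1 (isHomogeneous_form G)).symm.trans (mul_comm _ _)
  have hle : LefPen.chart n k j ⊓ LefPen.chart n k i ≤ Proj.basicOpen 𝒜 (T i * T j) := by
    rw [Proj.basicOpen_mul, inf_comm]
  have hlei : Proj.basicOpen 𝒜 (T i * T j) ≤ Proj.basicOpen 𝒜 (T i) := by
    rw [Proj.basicOpen_mul]; exact inf_le_left
  have hlej : Proj.basicOpen 𝒜 (T i * T j) ≤ Proj.basicOpen 𝒜 (T j) := by
    rw [Proj.basicOpen_mul]; exact inf_le_right
  let res := ((P).presheaf.map (homOfLE hle).op).hom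
  let ax := (Proj.awayToSection 𝒜 (T i * T j)).hom
  have hri : ∀ a : Away 𝒜 (T i), ((P).presheaf.map (homOfLE
      (inf_le_right : LefPen.chart n k j ⊓ LefPen.chart n k i ≤ LefPen.chart n k i)).op).hom
        ((Proj.awayToSection 𝒜 (T i)).hom a) = res (ax (Ai a)) := by
    intro a
    have h := congrArg (fun φ => res (φ.hom a))
      (Proj.awayMap_awayToSection 𝒜 (f := T i) (g := T j) (x := T i * T j) (X_mem_one n k j) rfl)
    exact (res_res (X := P) hlei hle _).symm.trans h.symm
  have hrj : ∀ a : Away 𝒜 (T j), ((P).presheaf.map (homOfLE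
      (inf_le_left : LefPen.chart n k j ⊓ LefPen.chart n k i ≤ LefPen.chart n k j)).op).hom
        ((Proj.awayToSection 𝒜 (T j)).hom a) = res (ax (Aj a)) := by
    intro a
    have h := congrArg (fun φ => res (φ.hom a))
      (Proj.awayMap_awayToSection 𝒜 (f := T j) (g := T i) (x := T i * T j) (X_mem_one n k i) hij)
    exact (res_res (X := P) hlej hle _).symm.trans h.symm
  refine ⟨res (ax (Aj (ZetaLib.dehom n k j (T i ^ d)))), ?_⟩
  rw [dehom_eq, dehom_eq, hri, hrj, key, map_mul, map_mul]

theorem mem_hypFamily (G : LefPen.Form n k d) (U : (P).affineOpens) (x : Γ(P, U.1)) :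
    x ∈ LefPen.hypFamily G U ↔ ∀ i, ∃ a,
      ((P).presheaf.map (homOfLE (inf_le_left : U.1 ⊓ LefPen.chart n k i ≤ U.1)).op).hom x =
        a * ((P).presheaf.map (homOfLE (inf_le_right : U.1 ⊓ LefPen.chart n k i ≤ LefPen.chart n k i)).op).hom
          (LefPen.dehom G i) := by
  unfold LefPen.hypFamily
  simp only [Ideal.mem_iInf, Ideal.mem_comap, Ideal.mem_span_singleton']
  exact forall_congr' fun i => exists_congr fun a => eq_comm

set_option maxHeartbeats 800000 in
theorem map_hypFamily_basicOpen (G : LefPen.Form n k d) (U : (P).affineOpens) (f : Γ(P, U.1)) :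
    (LefPen.hypFamily G U).map ((P).presheaf.map (homOfLE ((P).basicOpen_le f)).op).hom =
      LefPen.hypFamily G ((P).affineBasicOpen f) := by
  haveI := PnCoh.Chow.isProper_toSpec n k
  haveI : (P).IsSeparated := ⟨by
    rw [show terminal.from (P) = CohB1.ProjSpace.toSpec n k ≫ terminal.from _ from Subsingleton.elim _ _]
    infer_instance⟩
  set ρ := ((P).presheaf.map (homOfLE ((P).basicOpen_le f)).op).hom
  apply le_antisymm
  · rw [Ideal.map_le_iff_le_comap]
    intro x hx
    rw [Ideal.mem_comap, mem_hypFamily]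
    intro i
    obtain ⟨a, ha⟩ := (mem_hypFamily G U x).1 hx i
    have hle : (P).basicOpen f ⊓ LefPen.chart n k i ≤ U.1 ⊓ LefPen.chart n k i :=
      inf_le_inf_right _ ((P).basicOpen_le f)
    refine ⟨((P).presheaf.map (homOfLE hle).op).hom a, ?_⟩
    have h := congrArg ((P).presheaf.map (homOfLE hle).op).hom ha
    rw [map_mul, res_res, res_res] at h
    exact (res_res _ _ _).trans h
  · intro s hs
    haveI := U.2.isLocalization_basicOpen f
    obtain ⟨N, t, ht⟩ := IsLocalization.Away.surj f s
    have hM : ∀ i, ∃ M : ℕ, ∃ a,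
        ((P).presheaf.map (homOfLE (inf_le_left : U.1 ⊓ LefPen.chart n k i ≤ U.1)).op).hom (f ^ M * t) =
          a * ((P).presheaf.map (homOfLE (inf_le_right : U.1 ⊓ LefPen.chart n k i ≤ LefPen.chart n k i)).op).hom
            (LefPen.dehom G i) := by
      intro i
      obtain ⟨a, ha⟩ : ∃ a : Γ(P, (P).basicOpen f ⊓ LefPen.chart n k i),
          ((P).presheaf.map (homOfLE (inf_le_left : (P).basicOpen f ⊓ LefPen.chart n k i ≤ (P).basicOpen f)).op).hom s =
            a * ((P).presheaf.map (homOfLE (inf_le_right : (P).basicOpen f ⊓ LefPen.chart n k i ≤ LefPen.chart n k i)).op).hom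
              (LefPen.dehom G i) := (mem_hypFamily G ((P).affineBasicOpen f) s).1 hs i
      set rV := ((P).presheaf.map (homOfLE (inf_le_left : U.1 ⊓ LefPen.chart n k i ≤ U.1)).op).hom
      set g := ((P).presheaf.map (homOfLE (inf_le_right : U.1 ⊓ LefPen.chart n k i ≤ LefPen.chart n k i)).op).hom
        (LefPen.dehom G i)
      have hV : IsAffineOpen (U.1 ⊓ LefPen.chart n k i) := IsAffineOpen.inf U.2 (isAffineOpen_chart i)
      have hle : (P).basicOpen f ⊓ LefPen.chart n k i ≤ U.1 ⊓ LefPen.chart n k i :=
        inf_le_inf_right _ ((P).basicOpen_le f)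
      have hW : (P).basicOpen f ⊓ LefPen.chart n k i = (P).basicOpen (rV f) := by
        rw [Scheme.basicOpen_res, inf_assoc, inf_comm (LefPen.chart n k i), ← inf_assoc,
          inf_eq_right.2 ((P).basicOpen_le f)]
      haveI hloc := hV.isLocalization_of_eq_basicOpen (rV f) (homOfLE hle) hW
      letI := ((P).presheaf.map (homOfLE hle).op).hom.toAlgebra
      set rW := ((P).presheaf.map (homOfLE hle).op).hom
      obtain ⟨M, b, hb⟩ := IsLocalization.Away.surj (rV f) a
      change a * (rW (rV f)) ^ M = rW b at hb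
      have hF : rW (rV f) = ((P).presheaf.map (homOfLE
          (inf_le_left : (P).basicOpen f ⊓ LefPen.chart n k i ≤ (P).basicOpen f)).op).hom (ρ f) := by
        rw [res_res, res_res]
      have ht' : rW (rV t) = ((P).presheaf.map (homOfLE
          (inf_le_left : (P).basicOpen f ⊓ LefPen.chart n k i ≤ (P).basicOpen f)).op).hom s *
            (rW (rV f)) ^ N := by
        have h := congrArg ((P).presheaf.map (homOfLE
          (inf_le_left : (P).basicOpen f ⊓ LefPen.chart n k i ≤ (P).basicOpen f)).op).hom ht
        change _ = ((P).presheaf.map _).hom (ρ t) at h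
        rw [map_mul, map_pow] at h
        rw [hF, res_res, res_res]
        rw [res_res] at h
        exact h.symm
      rw [ha] at ht'
      have hg : rW g = ((P).presheaf.map (homOfLE
          (inf_le_right : (P).basicOpen f ⊓ LefPen.chart n k i ≤ LefPen.chart n k i)).op).hom
            (LefPen.dehom G i) := res_res _ _ _
      have h0 : rW (rV (f ^ M * t)) = rW (b * rV f ^ N * g) := by
        simp only [map_mul, map_pow, ht', ← hb, hg]
        erw [show ((P).presheaf.map (homOfLE (inf_le_right : ((P).affineBasicOpen f).1 ⊓ LefPen.chart n k i ≤ _)).op).hom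
          (LefPen.dehom G i) = rW g from hg.symm]
        ring
      obtain ⟨⟨c, M', rfl⟩, hc⟩ := (IsLocalization.eq_iff_exists (Submonoid.powers (rV f))
        Γ(P, (P).basicOpen f ⊓ LefPen.chart n k i)).1 h0
      refine ⟨M' + M, rV f ^ M' * (b * rV f ^ N), ?_⟩
      rw [pow_add, mul_assoc, map_mul, map_pow, mul_assoc (rV f ^ M')]
      exact hc
    choose M a ha using hM
    set Mm := ∑ i, M i
    have hmem : f ^ Mm * t ∈ LefPen.hypFamily G U := by
      rw [mem_hypFamily]
      intro i
      have hsplit : f ^ Mm * t = f ^ (Mm - M i) * (f ^ M i * t) := by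
        rw [← mul_assoc, ← pow_add, Nat.sub_add_cancel (Finset.single_le_sum (fun _ _ => Nat.zero_le _) (Finset.mem_univ i))]
      refine ⟨((P).presheaf.map (homOfLE (inf_le_left : U.1 ⊓ LefPen.chart n k i ≤ U.1)).op).hom (f ^ (Mm - M i)) * a i, ?_⟩
      rw [hsplit, map_mul, ha i, mul_assoc]
    have h1 : s * ρ f ^ (N + Mm) = ρ (f ^ Mm * t) := by
      rw [map_mul, map_pow, pow_add, ← mul_assoc]
      rw [show ρ t = s * ρ f ^ N from ht.symm]
      ring
    have hu : IsUnit (ρ f ^ (N + Mm)) := (IsLocalization.Away.algebraMap_isUnit f).pow _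
    have h2 := Ideal.mem_map_of_mem ρ hmem
    rw [← h1, mul_comm] at h2
    exact (Ideal.unit_mul_mem_iff_mem _ hu).1 h2

/-- The family defining `hypIdeal` is an ideal sheaf. -/
theorem hypIdeal_ideal (G : LefPen.Form n k d) : (LefPen.hypIdeal G).ideal = LefPen.hypFamily G := by
  let J : (P).IdealSheafData :=
    { ideal := LefPen.hypFamily G
      map_ideal_basicOpen := map_hypFamily_basicOpen G }
  exact congrArg Scheme.IdealSheafData.ideal (Scheme.IdealSheafData.ofIdeals_ideal J)

theorem hypIdeal_chart (G : LefPen.Form n k d) (j : Fin (n + 1)) :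
    (LefPen.hypIdeal G).ideal (chartAff j) = Ideal.span {LefPen.dehom G j} := by
  rw [hypIdeal_ideal]
  apply le_antisymm
  · intro (x : Γ(P, LefPen.chart n k j)) hx
    obtain ⟨a, ha⟩ : ∃ a : Γ(P, LefPen.chart n k j ⊓ LefPen.chart n k j),
        ((P).presheaf.map (homOfLE (inf_le_left : LefPen.chart n k j ⊓ LefPen.chart n k j ≤ LefPen.chart n k j)).op).hom x =
          a * ((P).presheaf.map (homOfLE (inf_le_right : LefPen.chart n k j ⊓ LefPen.chart n k j ≤ LefPen.chart n k j)).op).hom
            (LefPen.dehom G j) := (mem_hypFamily G (chartAff j) x).1 hx j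
    have hle : LefPen.chart n k j ≤ LefPen.chart n k j ⊓ LefPen.chart n k j := le_inf le_rfl le_rfl
    have h := congrArg ((P).presheaf.map (homOfLE hle).op).hom ha
    have hid : ∀ y : Γ(P, LefPen.chart n k j), ((P).presheaf.map (homOfLE (le_refl (LefPen.chart n k j))).op).hom y = y := by
      intro y
      show ((P).presheaf.map (𝟙 _)).hom y = y
      rw [CategoryTheory.Functor.map_id]
      rfl
    rw [map_mul, res_res, res_res, hid, hid] at h
    exact Ideal.mem_span_singleton'.2 ⟨_, h.symm⟩
  · rw [Ideal.span_le, Set.singleton_subset_iff, SetLike.mem_coe, mem_hypFamily]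
    exact fun i => exists_dehom_mul G i j

end Groth.Agent.HypX
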