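import Groth.Agent.FFLib.Quad.Genus
import Groth.Agent.FFLib.Ram.Unramified
import Groth.Agent.FFLib.Rational
import Groth.Agent.HyperP1.FieldDeg2

/-!
Castelnuovo's inequality for two subfields of index two.
-/

noncomputable section

set_option autoImplicit false
set_option linter.style.haveILetI false
set_option linter.unusedSectionVars false
set_option maxHeartbeats 800000

namespace Groth.Agent.HypX

open FunFld IntermediateField WithZero
open scoped IntermediateField

universe u

variable {k K : Type u} [Field k] [Field K] [Algebra k K]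

/-- A subfield with a transcendental element is a function field, and the field is finite over it. -/
theorem isFF_of_transcendental_mem (hF : FFLib.IsFF k K) (F : IntermediateField k K) {x : K} (hxF : x ∈ F)
    (hx : Transcendental k x) : FiniteDimensional F K ∧ FFLib.IsFF k F := by
  haveI := FFLib.IsFF.finite_adjoin hF hx
  have hle : k⟮x⟯ ≤ F := IntermediateField.adjoin_simple_le_iff.2 hxF
  have hfin : FiniteDimensional F K := by
    letI := (IntermediateField.inclusion hle).toRingHom.toAlgebra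
    haveI : IsScalarTower k⟮x⟯ F K := IsScalarTower.of_algebraMap_eq fun _ => rfl
    exact Module.Finite.of_restrictScalars_finite k⟮x⟯ F K
  refine ⟨hfin, ⟨⟨x, hxF⟩, fun ha => hx ((isAlgebraic_algHom_iff F.val F.val.toRingHom.injective).2 ha), ?_⟩⟩
  set x' : F := ⟨x, hxF⟩
  let e : k⟮x'⟯ ≃ₐ[k] k⟮x⟯ := FFLib.adjoinMapEquiv (K' := K) x'
  letI : Algebra k⟮x'⟯ K := ((algebraMap F K).comp (algebraMap k⟮x'⟯ F)).toAlgebra
  haveI : IsScalarTower k⟮x'⟯ F K := IsScalarTower.of_algebraMap_eq fun _ => rfl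
  haveI : Module.Finite k⟮x'⟯ K :=
    Module.Finite.of_equiv_equiv (A₁ := k⟮x⟯) (B₁ := K) e.symm.toRingEquiv (RingEquiv.refl K)
      (RingHom.ext fun z => by
        show algebraMap F K ((e.symm z : k⟮x'⟯) : F) = (z : K)
        exact (FFLib.adjoinMapEquiv_coe (K' := K) x' (e.symm z)).symm.trans
          (congrArg Subtype.val (e.apply_symm_apply z)))
  exact FiniteDimensional.left k⟮x'⟯ F K

variable [IsAlgClosed k]

/-- A function of small degree outside a proper subfield. -/
theorem exists_small_not_mem [CharZero k] (hK : IsFunctionField k K) (F : IntermediateField k K) (hF : F ≠ ⊤) :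
    ∃ (E : Divisor k K) (x : K), 0 ≤ E ∧ E.deg = genus k K + 1 ∧ x ∈ L E ∧ x ∉ F := by
  classical
  haveI := fun D : Divisor k K => FFLib.L_finite hK.1 D
  have key : ∀ Q : Place k K, ∃ (E : Divisor k K) (x : K), E = Finsupp.single Q ((genus k K : ℤ) + 1) ∧ 0 ≤ E ∧
      E.deg = genus k K + 1 ∧ x ∈ L E ∧ x ∉ Set.range (algebraMap k K) := by
    intro Q
    have hd : Divisor.deg (Finsupp.single Q ((genus k K : ℤ) + 1)) = genus k K + 1 := by
      rw [FFLib.Divisor.deg_single, FFLib.deg_eq_one hK.1 Q, Nat.cast_one, mul_one]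
    obtain ⟨W, hW⟩ := FFLib.exists_canonical hK
    have hrr := FFLib.riemann_roch hK hW (Finsupp.single Q ((genus k K : ℤ) + 1))
    obtain ⟨x, hx, hnc⟩ : ∃ x ∈ L (Finsupp.single Q ((genus k K : ℤ) + 1)), x ∉ Set.range (algebraMap k K) := by
      by_contra! h
      have hle : L (Finsupp.single Q ((genus k K : ℤ) + 1)) ≤ Submodule.span k {(1 : K)} := fun z hz => by
        obtain ⟨c, rfl⟩ := h z hz
        exact Submodule.mem_span_singleton.2 ⟨c, by rw [Algebra.smul_def, mul_one]⟩
      have h1 := Submodule.finrank_mono hle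
      rw [finrank_span_singleton one_ne_zero] at h1
      change ell _ ≤ 1 at h1
      rw [hd] at hrr
      omega
    exact ⟨_, x, rfl, Finsupp.single_nonneg.2 (by omega), hd, hx, hnc⟩
  obtain ⟨Q₀⟩ : Nonempty (Place k K) := ⟨(FFLib.infinite_places' hK.1).nonempty.some⟩
  obtain ⟨E, x, -, hE, hEd, hx, hnc⟩ := key Q₀
  by_cases hxF : x ∈ F
  swap
  · exact ⟨E, x, hE, hEd, hx, hxF⟩
  -- otherwise find two places over one place of the subfield
  obtain ⟨hfin, hFF⟩ := isFF_of_transcendental_mem hK.1 F hxF (FFLib.transcendental_of_not_range hK hnc)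
  haveI := hfin
  haveI : CharZero K := charZero_of_injective_algebraMap (algebraMap k K).injective
  haveI : CharZero F := charZero_of_injective_algebraMap (algebraMap k F).injective
  haveI : Algebra.IsSeparable F K := inferInstance
  obtain ⟨S, hS, hgood⟩ := FFLib.finite_bad (K' := K) hFF
  obtain ⟨P, -, hP⟩ := ((FFLib.infinite_places' hFF).diff hS).nonempty
  set Qs := (FFLib.over_finite (K' := K) hFF P).toFinset
  have hQs : ∀ Q, Q ∈ Qs ↔ IsOver Q P := fun Q => Set.Finite.mem_toFinset _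
  have hsum := FFLib.sum_ram_deg hFF P Qs hQs
  have hone : ∀ Q ∈ Qs, ramIdx Q P * Q.deg = 1 := fun Q hQ => by
    have hw : IsOverWith Q P 1 := fun z => by rw [(hgood P hP Q ((hQs Q).1 hQ)).1 z]
    rw [FFLib.ramIdx_eq hFF hw, FFLib.deg_eq_one hK.1 Q]
  rw [Finset.sum_congr rfl hone, ← Finset.card_eq_sum_ones, FFLib.deg_eq_one hFF P, mul_one] at hsum
  have h2 : 1 < Qs.card := by
    rw [hsum]
    by_contra h
    have h3 : 0 < Module.finrank F K := Module.finrank_pos
    refine hF (eq_top_iff.2 fun z _ => ?_)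
    obtain ⟨c, hc⟩ := finrank_eq_one_iff_of_nonzero' (1 : K) one_ne_zero |>.1 (by omega : Module.finrank F K = 1) z
    rw [IntermediateField.smul_def, smul_eq_mul, mul_one] at hc
    exact hc ▸ c.2
  obtain ⟨Q₁, hQ₁, Q₂, hQ₂, hne⟩ := Finset.one_lt_card.1 h2
  obtain ⟨E', y, hE', hE'0, hE'd, hy, hync⟩ := key Q₁
  refine ⟨E', y, hE'0, hE'd, hy, fun hyF => ?_⟩
  -- a pole at one of them is a pole at the other
  have hyt := FFLib.transcendental_of_not_range hK hync
  obtain ⟨R, hR⟩ := FFLib.exists_place_pole hK.1 hyt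
  have hR' : 1 < R.1 y := hR
  have honly : ∀ Q, Q ≠ Q₁ → Q.1 y ≤ 1 := fun Q hQ => by
    have := hy Q
    rwa [hE', Finsupp.single_eq_of_ne hQ, exp_zero] at this
  have h1 : 1 < Q₁.1 y := by
    by_contra h
    rcases eq_or_ne R Q₁ with rfl | hRQ
    · exact h hR'
    · exact absurd (honly R hRQ) (not_le.2 hR')
  obtain ⟨e₁, he₁⟩ := (hQs Q₁).1 hQ₁
  obtain ⟨e₂, he₂⟩ := (hQs Q₂).1 hQ₂
  have hP1 : 1 < P.1 (⟨y, hyF⟩ : F) := by
    by_contra h
    push Not at h
    have := he₁ ⟨y, hyF⟩
    rw [show algebraMap F K ⟨y, hyF⟩ = y from rfl] at this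
    rw [this] at h1
    exact absurd (pow_le_one' h e₁) (not_le.2 h1)
  have := honly Q₂ hne.symm
  rw [show y = algebraMap F K ⟨y, hyF⟩ from rfl, he₂] at this
  exact absurd this (not_le.2 (one_lt_pow' hP1 (by have := FFLib.over_pos hFF he₂; omega)))

variable {K₁ : Type u} [Field K₁] [Algebra k K₁] [Algebra K₁ K] [IsScalarTower k K₁ K] [FiniteDimensional K₁ K]

/-- The bound on the genus by a function outside a subfield of index two. -/
theorem genus_le_of_index_two (hK : IsFunctionField k K) (hK₁ : IsFunctionField k K₁)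
    (hn : Module.finrank K₁ K = 2) {E : Divisor k K} (hE : 0 ≤ E) {v : K} (hv : v ∈ L E)
    (hvF : v ∉ Set.range (algebraMap K₁ K)) : (genus k K : ℤ) ≤ E.deg + 2 * genus k K₁ - 1 := by
  classical
  obtain ⟨P⟩ : Nonempty (Place k K₁) := ⟨(FFLib.infinite_places' hK₁.1).nonempty.some⟩
  haveI := fun D : Divisor k K₁ => FFLib.L_finite hK₁.1 D
  haveI := fun D : Divisor k K => FFLib.L_finite hK.1 D
  set n := 2 * genus k K₁ + genus k K + 1 with hn'
  set A : Divisor k K₁ := Finsupp.single P (n : ℤ)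
  have hA : A.deg = n := by rw [FFLib.Divisor.deg_single, FFLib.deg_eq_one hK₁.1 P, Nat.cast_one, mul_one]
  have hA0 : 0 ≤ A := Finsupp.single_nonneg.2 (Int.natCast_nonneg _)
  set D : Divisor k K := conorm K A + E
  have hD : D.deg = 2 * n + E.deg := by
    rw [FFLib.Divisor.deg_add, FFLib.deg_conorm hK₁.1, hn, hA]; norm_num
  have hmem : ∀ a ∈ L A, algebraMap K₁ K a ∈ L (conorm K A) := fun a ha =>
    (FFLib.mem_conorm_iff hK₁.1).2 fun P' Q e he => by
      rw [he a, ← nsmul_eq_mul, exp_nsmul]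
      exact pow_le_pow_left' (ha P') e
  have hEd : 0 ≤ E.deg := by simpa using FFLib.Divisor.deg_mono hE
  let g : (L A × L A) →ₗ[k] L D :=
    LinearMap.codRestrict _
      (((IsScalarTower.toAlgHom k K₁ K).toLinearMap.comp (L A).subtype).coprod
        ((LinearMap.mulRight k v).comp ((IsScalarTower.toAlgHom k K₁ K).toLinearMap.comp (L A).subtype)))
      fun p => add_mem (FFLib.L_mono (le_add_of_nonneg_right hE) (hmem _ p.1.2))
        (FFLib.mul_mem_L (hmem _ p.2.2) hv)
  have hg : Function.Injective g := (injective_iff_map_eq_zero g).2 fun p hp => by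
    have h0 : algebraMap K₁ K p.1 + algebraMap K₁ K p.2 * v = 0 := congrArg Subtype.val hp
    obtain ⟨h1, h2⟩ := FFLib.eq_zero_of_add_mul hn hvF h0
    exact Prod.ext (Subtype.ext h1) (Subtype.ext h2)
  have h1 := LinearMap.finrank_le_finrank_of_injective hg
  rw [Module.finrank_prod] at h1
  change ell A + ell A ≤ ell D at h1
  have h2 := FFLib.ell_of_deg_gt hK₁ (D := A) (by rw [hA]; omega)
  have h3 := FFLib.ell_of_deg_gt hK (D := D) (by rw [hD]; omega)
  rw [hA] at h2
  rw [hD] at h3
  omega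

variable {K₂ : Type u} [Field K₂] [Algebra k K₂] [Algebra K₂ K] [IsScalarTower k K₂ K] [FiniteDimensional K₂ K]

/-- Castelnuovo's inequality. -/
theorem castelnuovo_two [CharZero k] (hK : IsFunctionField k K) (hK₁ : IsFunctionField k K₁)
    (hK₂ : IsFunctionField k K₂) (h₁ : Module.finrank K₁ K = 2) (h₂ : Module.finrank K₂ K = 2)
    (hne : ¬ (IsScalarTower.toAlgHom k K₂ K).fieldRange ≤ (IsScalarTower.toAlgHom k K₁ K).fieldRange) :
    genus k K ≤ 2 * genus k K₁ + 2 * genus k K₂ + 1 := by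
  set F : IntermediateField k K₂ :=
    (IsScalarTower.toAlgHom k K₁ K).fieldRange.comap (IsScalarTower.toAlgHom k K₂ K)
  have hF : F ≠ ⊤ := fun h => hne fun z => by
    rintro ⟨a, rfl⟩
    exact (show a ∈ F by rw [h]; exact IntermediateField.mem_top)
  obtain ⟨E, x, hE, hEd, hx, hxF⟩ := exists_small_not_mem hK₂ F hF
  have hxE : algebraMap K₂ K x ∈ L (conorm K E) :=
    (FFLib.mem_conorm_iff hK₂.1).2 fun P Q e he => by
      rw [he x, ← nsmul_eq_mul, exp_nsmul]
      exact pow_le_pow_left' (hx P) e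
  have hcE : 0 ≤ conorm K E := fun Q => by
    obtain ⟨P, e, -, he⟩ := FFLib.exists_over hK₂.1 Q
    rw [FFLib.conorm_apply hK₂.1 _ he, Finsupp.coe_zero, Pi.zero_apply]
    exact mul_nonneg (Int.natCast_nonneg _) (hE P)
  have := genus_le_of_index_two (K₁ := K₁) hK hK₁ h₁ hcE hxE fun ⟨a, ha⟩ => hxF ⟨a, ha⟩
  rw [FFLib.deg_conorm hK₂.1, h₂, hEd] at this
  push_cast at this
  omega

end Groth.Agent.HypX
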