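import Groth.Agent.HypX.Castelnuovo
import Groth.Agent.HypX.UniqueCover
import Groth.Agent.CurveCohLib.RegularCurve
import Groth.Agent.CurveCohLib.SmoothCurve

/-!
A curve of large genus is a double cover of a curve of small genus in one way only.
-/

noncomputable section

set_option autoImplicit false
set_option linter.style.haveILetI false
set_option linter.unusedSectionVars false
set_option backward.isDefEq.respectTransparency false
set_option backward.isDefEq.respectTransparency.types false
set_option maxHeartbeats 1000000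

universe u

open CategoryTheory CategoryTheory.Limits AlgebraicGeometry TopologicalSpace
open FunFld

namespace Groth.Agent.HypX

attribute [local instance] ZetaCurve.ffAlg

theorem facts_of_regular (k : Type u) [Field k] [IsAlgClosed k] (X : Scheme.{u})
    [X.Over (Spec (CommRingCat.of k))] [IsIntegral X] [IsProper (X ↘ (Spec (CommRingCat.of k)))]
    (hreg : ∀ x : X, IsRegularLocalRing (X.presheaf.stalk x)) :
    Smooth (X ↘ Spec (CommRingCat.of k)) ∧ Module.finrank k (Coh.HH X (Coh.structureModule X) 0) = 1 := by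
  haveI := CurveCohLib.RegularCurve.smooth_of_regular k (X := X) fun x _ => hreg x
  exact ⟨inferInstance, CurveCohLib.finrank_h0_eq_one k X⟩

variable {k : Type u} [Field k] [IsAlgClosed k] [CharZero k] {X P₁ P₂ : Scheme.{u}}

/-- Two double covers with subfields not contained in one another bound the genus. -/
theorem genus_le_of_two_covers
    [X.Over (Spec (CommRingCat.of k))] [IsIntegral X] [IsProper (X ↘ Spec (CommRingCat.of k))]
    [Smooth (X ↘ Spec (CommRingCat.of k))] (hX : topologicalKrullDim X = 1)
    [P₁.Over (Spec (CommRingCat.of k))] [IsIntegral P₁] [IsProper (P₁ ↘ Spec (CommRingCat.of k))]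
    [Smooth (P₁ ↘ Spec (CommRingCat.of k))] (hP₁ : topologicalKrullDim P₁ = 1)
    [P₂.Over (Spec (CommRingCat.of k))] [IsIntegral P₂] [IsProper (P₂ ↘ Spec (CommRingCat.of k))]
    [Smooth (P₂ ↘ Spec (CommRingCat.of k))] (hP₂ : topologicalKrullDim P₂ = 1)
    (ψ₁ : P₁.functionField →ₐ[k] X.functionField) (ψ₂ : P₂.functionField →ₐ[k] X.functionField)
    (e₁ : Module.finrank ψ₁.fieldRange X.functionField = 2) (e₂ : Module.finrank ψ₂.fieldRange X.functionField = 2)
    (hne : ¬ ψ₂.fieldRange ≤ ψ₁.fieldRange) :
    Curv2.genus k X ≤ 2 * Curv2.genus k P₁ + 2 * Curv2.genus k P₂ + 1 := by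
  have h0 : ∀ (Y : Scheme.{u}) [Y.Over (Spec (CommRingCat.of k))] [IsIntegral Y]
      [IsProper (Y ↘ Spec (CommRingCat.of k))] [Smooth (Y ↘ Spec (CommRingCat.of k))],
      Module.finrank k (Coh.HH Y (Coh.structureModule Y) 0) = 1 := fun Y _ _ _ _ =>
    CurveCohLib.finrank_h0_eq_one k Y
  letI : Algebra P₁.functionField X.functionField := ψ₁.toRingHom.toAlgebra
  letI : Algebra P₂.functionField X.functionField := ψ₂.toRingHom.toAlgebra
  haveI : IsScalarTower k P₁.functionField X.functionField := IsScalarTower.of_algebraMap_eq fun c => (ψ₁.commutes c).symm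
  haveI : IsScalarTower k P₂.functionField X.functionField := IsScalarTower.of_algebraMap_eq fun c => (ψ₂.commutes c).symm
  have f₁ : Module.finrank P₁.functionField X.functionField = 2 := e₁ ▸
    Algebra.finrank_eq_of_equiv_equiv (RingEquiv.ofBijective ψ₁.rangeRestrict
      ⟨fun a b hab => ψ₁.toRingHom.injective (congrArg Subtype.val hab), AlgHom.rangeRestrict_surjective ψ₁⟩)
      (RingEquiv.refl _) (RingHom.ext fun a => rfl)
  have f₂ : Module.finrank P₂.functionField X.functionField = 2 := e₂ ▸
    Algebra.finrank_eq_of_equiv_equiv (RingEquiv.ofBijective ψ₂.rangeRestrict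
      ⟨fun a b hab => ψ₂.toRingHom.injective (congrArg Subtype.val hab), AlgHom.rangeRestrict_surjective ψ₂⟩)
      (RingEquiv.refl _) (RingHom.ext fun a => rfl)
  haveI : FiniteDimensional P₁.functionField X.functionField := Module.finite_of_finrank_eq_succ f₁
  haveI : FiniteDimensional P₂.functionField X.functionField := Module.finite_of_finrank_eq_succ f₂
  have := castelnuovo_two (K₁ := P₁.functionField) (K₂ := P₂.functionField) (ZetaCurve.isFunctionField k X hX (h0 X))
    (ZetaCurve.isFunctionField k P₁ hP₁ (h0 P₁)) (ZetaCurve.isFunctionField k P₂ hP₂ (h0 P₂)) f₁ f₂ hne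
  rwa [ZetaCurve.genus_eq k X hX (h0 X), ZetaCurve.genus_eq k P₁ hP₁ (h0 P₁),
    ZetaCurve.genus_eq k P₂ hP₂ (h0 P₂)] at this

end Groth.Agent.HypX
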