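import Groth.Agent.HypX.UniqueFF
import Groth.Agent.HypX.Castelnuovo
import Groth.Agent.FFLib.Quad.Genus

/-!
Functions of degree two on a function field of genus one differ by automorphisms.
-/

noncomputable section

set_option autoImplicit false
set_option linter.style.haveILetI false
set_option linter.unusedSectionVars false
set_option maxHeartbeats 800000

namespace Groth.Agent.HypX

open FunFld IntermediateField WithZero Polynomial
open scoped IntermediateField

universe u

variable {k K : Type u} [Field k] [Field K] [Algebra k K] [IsAlgClosed k]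

/-- A polynomial over an algebraically closed field is a square or has a root of odd multiplicity. -/
theorem isSquare_or_odd_root (R : k[X]) : IsSquare R ∨ ∃ a, Odd (R.rootMultiplicity a) := by
  induction hn : R.natDegree using Nat.strong_induction_on generalizing R with
  | _ n ih =>
    subst hn
    rcases Nat.eq_zero_or_pos R.natDegree with h0 | h0
    · obtain ⟨c, rfl⟩ := natDegree_eq_zero.1 h0
      obtain ⟨e, he⟩ := IsAlgClosed.exists_eq_mul_self c
      exact Or.inl ⟨Polynomial.C e, by rw [← map_mul, ← he]⟩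
    have hR : R ≠ 0 := fun h => by simp [h] at h0
    obtain ⟨a, ha⟩ := IsAlgClosed.exists_root R (fun h => by
      have := natDegree_eq_zero_iff_degree_le_zero.2 h.le; omega)
    set m := R.rootMultiplicity a with hm
    rcases Nat.even_or_odd m with he | ho
    swap
    · exact Or.inr ⟨a, ho⟩
    obtain ⟨R', hR', hR'a⟩ := exists_eq_pow_rootMultiplicity_mul_and_not_dvd R hR a
    have hm0 : 0 < m := (rootMultiplicity_pos hR).2 ha
    have hR'0 : R' ≠ 0 := fun h => hR'a (by rw [h]; exact dvd_zero _)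
    have hdeg : R.natDegree = m + R'.natDegree := by
      conv_lhs => rw [hR']
      rw [natDegree_mul (pow_ne_zero _ (X_sub_C_ne_zero a)) hR'0, natDegree_pow, natDegree_X_sub_C, mul_one]
    rcases ih R'.natDegree (by omega) R' rfl with ⟨S, hS⟩ | ⟨b, hb⟩
    · obtain ⟨j, hj⟩ := he
      exact Or.inl ⟨(Polynomial.X - Polynomial.C a) ^ j * S, by rw [hR', ← hm, hj, hS]; ring⟩
    · refine Or.inr ⟨b, ?_⟩
      have hba : b ≠ a := fun h => by
        subst h
        have : R'.rootMultiplicity b = 0 := rootMultiplicity_eq_zero fun hr => hR'a (dvd_iff_isRoot.2 hr)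
        rw [this] at hb
        exact absurd hb (by decide)
      have : R.rootMultiplicity b = R'.rootMultiplicity b := by
        conv_lhs => rw [hR']
        rw [rootMultiplicity_mul (mul_ne_zero (pow_ne_zero _ (X_sub_C_ne_zero a)) hR'0),
          rootMultiplicity_eq_zero (p := (Polynomial.X - Polynomial.C a) ^ R.rootMultiplicity a) (x := b) (by
            simp [Polynomial.IsRoot, sub_ne_zero.2 hba]), zero_add]
      rwa [this]

variable (h2 : (2 : k) ≠ 0) (hK : IsFunctionField k K) (hg : genus k K = 1)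

include h2 hK hg in
/-- A function of degree two has a double pole at one place only, up to a change of coordinate. -/
theorem exists_double_pole {t : K} (ht : Module.finrank k⟮t⟯ K = 2) :
    ∃ (u : K) (Q : Place k K), k⟮u⟯ = k⟮t⟯ ∧ (FFLib.poles u : Divisor k K) = Finsupp.single Q 2 := by
  classical
  obtain ⟨y, P, Qp, hyt, -, he, -, -⟩ := HyperP1.exists_equation hK hg le_rfl ht
  have htr := HyperP1.transcendental_of_finrank hK (x := t) (by omega)
  set w : K := y + aeval t (Polynomial.C (2⁻¹ : k) * Qp)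
  set R : k[X] := P + (Polynomial.C (2⁻¹ : k) * Qp) ^ 2
  have hwt : w ∉ k⟮t⟯ := fun h => hyt (by
    have := sub_mem h (HyperP1.aeval_mem_adjoin t (Polynomial.C (2⁻¹ : k) * Qp))
    rwa [add_sub_cancel_right] at this)
  have hw : w ^ 2 = aeval t R := by
    have h2' : algebraMap k K 2⁻¹ * 2 = 1 := by
      rw [show (2 : K) = algebraMap k K 2 from (map_ofNat _ 2).symm, ← map_mul, inv_mul_cancel₀ h2, map_one]
    simp only [w, R, map_add, map_mul, map_pow, aeval_C, ← he]
    linear_combination (y * aeval t Qp) * h2'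
  rcases isSquare_or_odd_root R with ⟨S, hS⟩ | ⟨a, hodd⟩
  · exfalso
    have h' : (w - aeval t S) * (w + aeval t S) = 0 := by
      rw [hS, map_mul] at hw; linear_combination hw
    rcases mul_eq_zero.1 h' with h | h
    · exact hwt (by rw [sub_eq_zero.1 h]; exact HyperP1.aeval_mem_adjoin t S)
    · exact hwt (by rw [eq_neg_of_add_eq_zero_left h]; exact neg_mem (HyperP1.aeval_mem_adjoin t S))
  set m := R.rootMultiplicity a
  have hR : R ≠ 0 := fun h => by simp [m, h] at hodd
  obtain ⟨R', hR', hR'a⟩ := exists_eq_pow_rootMultiplicity_mul_and_not_dvd R hR a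
  set u₀ : K := t - algebraMap k K a with hu₀
  have hu₀t : Transcendental k u₀ := fun h => htr (by
    have := h.add (isAlgebraic_algebraMap (A := K) a)
    rwa [sub_add_cancel] at this)
  have hu₀0 : u₀ ≠ 0 := fun h => hu₀t (h ▸ isAlgebraic_zero)
  obtain ⟨Q, hQ⟩ := FFLib.exists_place_zero hK.1 hu₀t
  have hQt : Q.1 t ≤ 1 := by
    rw [show t = u₀ + algebraMap k K a from (sub_add_cancel _ _).symm]
    exact (Q.1.map_add _ _).trans (max_le hQ.le (Q.2.1 a))
  have hR'1 : Q.1 (aeval t R') = 1 := by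
    obtain ⟨S, hS⟩ := X_sub_C_dvd_sub_C_eval (a := a) (p := R')
    have hne : R'.eval a ≠ 0 := fun h => hR'a (dvd_iff_isRoot.2 h)
    have he' : aeval t R' = algebraMap k K (R'.eval a) + u₀ * aeval t S := by
      have := congrArg (aeval t) hS
      simp only [map_sub, aeval_C, map_mul, aeval_X] at this
      linear_combination this
    rw [he', Q.1.map_add_eq_of_lt_left]
    · rw [FFLib.val_algebraMap Q hne]
    · rw [FFLib.val_algebraMap Q hne, map_mul]
      exact lt_of_le_of_lt (mul_le_of_le_one_right' (FFLib.val_aeval_le_one Q.2.1 hQt S)) hQ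
  have hwR : w ^ 2 = u₀ ^ m * aeval t R' := by
    rw [hw]
    conv_lhs => rw [hR']
    simp [m, u₀]
  have hQu : Q.1 u₀⁻¹ ≥ exp (2 : ℤ) := by
    have hw0 : w ≠ 0 := fun h => hwt (h ▸ zero_mem _)
    have h1 := congrArg Q.1 hwR
    rw [map_pow, map_mul, map_pow, hR'1, mul_one, FFLib.val_eq_exp Q hw0, FFLib.val_eq_exp Q hu₀0,
      ← exp_nsmul, ← exp_nsmul, exp_inj] at h1
    have h0 := (FFLib.val_lt_one_iff Q hu₀0).1 hQ
    rw [FFLib.val_eq_exp Q (inv_ne_zero hu₀0), FFLib.ord_inv, neg_neg, ge_iff_le, exp_le_exp]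
    simp only [smul_neg, nsmul_eq_mul, neg_inj] at h1
    by_contra h
    obtain ⟨j, hj⟩ := hodd
    have hone : Q.ord u₀ = 1 := by omega
    rw [hone, mul_one, hj] at h1
    push_cast at h1
    omega
  have hadj : k⟮u₀⁻¹⟯ = k⟮t⟯ := by
    refine le_antisymm (IntermediateField.adjoin_simple_le_iff.2 (inv_mem (sub_mem
      (mem_adjoin_simple_self k t) (IntermediateField.algebraMap_mem _ a)))) (IntermediateField.adjoin_simple_le_iff.2 ?_)
    have := add_mem (inv_mem (mem_adjoin_simple_self k u₀⁻¹)) (IntermediateField.algebraMap_mem k⟮u₀⁻¹⟯ a)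
    rwa [inv_inv, sub_add_cancel] at this
  have hut : Transcendental k u₀⁻¹ := FFLib.transcendental_inv hu₀t
  refine ⟨u₀⁻¹, Q, hadj, (FFLib.deg_eq_of_le hK.1 (fun R => ?_) ?_).symm⟩
  · rcases eq_or_ne R Q with rfl | hne
    · rw [Finsupp.single_eq_same]
      exact exp_le_exp.1 (le_trans hQu (FFLib.val_le_exp_poles hK.1 _ R))
    · rw [Finsupp.single_eq_of_ne hne]
      exact FFLib.poles_nonneg _ R
  · rw [FFLib.deg_poles hK.1 hut, FFLib.Divisor.deg_single, FFLib.deg_eq_one hK.1 Q, hadj, ht]; norm_num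

include h2 hK hg in
/-- An automorphism carrying one function of degree two to the other. -/
theorem exists_aut_map_adjoin {t₁ t₂ : K} (ht₁ : Module.finrank k⟮t₁⟯ K = 2) (ht₂ : Module.finrank k⟮t₂⟯ K = 2) :
    ∃ s : K ≃ₐ[k] K, k⟮t₂⟯.map s.toAlgHom = k⟮t₁⟯ := by
  classical
  obtain ⟨u₁, Q₁, hu₁, hp₁⟩ := exists_double_pole h2 hK hg ht₁
  obtain ⟨u₂, Q₂, hu₂, hp₂⟩ := exists_double_pole h2 hK hg ht₂
  obtain ⟨s, hs⟩ : ∃ s : K ≃ₐ[k] K, FFLib.placeComap s Q₁ = Q₂ := by
    by_cases hQ : Q₁ = Q₂
    · exact ⟨AlgEquiv.refl, Subtype.ext (Valuation.ext fun x => by rw [hQ]; rfl)⟩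
    set E : Divisor k K := Finsupp.single Q₁ 1 + Finsupp.single Q₂ 1
    have hE0 : 0 ≤ E := add_nonneg (Finsupp.single_nonneg.2 one_pos.le) (Finsupp.single_nonneg.2 one_pos.le)
    have hEd : E.deg = 2 := by
      rw [FFLib.Divisor.deg_add, FFLib.Divisor.deg_single, FFLib.Divisor.deg_single, FFLib.deg_eq_one hK.1,
        FFLib.deg_eq_one hK.1]
      norm_num
    have hEl := FFLib.ell_of_deg_gt hK (D := E) (by rw [hEd, hg]; norm_num)
    rw [hEd, hg] at hEl
    obtain ⟨-, x, hx2, hxE⟩ := HyperP1.exists_x_of_ell hK (by omega) hE0 hEd (by omega)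
    haveI : FiniteDimensional k⟮x⟯ K := Module.finite_of_finrank_eq_succ hx2
    -- the quadratic extension
    obtain ⟨y, P, Qp, hyt, -, he, -, -⟩ := HyperP1.exists_equation hK hg le_rfl hx2
    have hy' : y ∉ Set.range (algebraMap k⟮x⟯ K) := fun ⟨c, hc⟩ => hyt (hc ▸ c.2)
    obtain ⟨σ, hσ⟩ := FFLib.exists_conj_aut hx2 hy'
      (r := ⟨-(aeval x Qp), neg_mem (HyperP1.aeval_mem_adjoin x Qp)⟩)
      (u := ⟨aeval x P, HyperP1.aeval_mem_adjoin x P⟩) (by
        show y ^ 2 = -(aeval x Qp) * y + aeval x P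
        linear_combination he)
    have hσne : σ ≠ AlgEquiv.refl := fun h => by
      rw [h] at hσ
      have h3 : y = -(aeval x Qp) - y := hσ
      refine hyt ?_
      have h4 : y = algebraMap k K 2⁻¹ * (-(aeval x Qp)) := by
        have h2' : algebraMap k K 2⁻¹ * 2 = 1 := by
          rw [show (2 : K) = algebraMap k K 2 from (map_ofNat _ 2).symm, ← map_mul, inv_mul_cancel₀ h2, map_one]
        linear_combination (algebraMap k K 2⁻¹) * h3 - y * h2'
      rw [h4]
      exact mul_mem (IntermediateField.algebraMap_mem _ _) (neg_mem (HyperP1.aeval_mem_adjoin x Qp))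
    haveI : IsGalois k⟮x⟯ K := IsGalois.of_card_aut_eq_finrank k⟮x⟯ K (by
      refine le_antisymm ?_ ?_
      · rw [Nat.card_eq_fintype_card]
        exact AlgEquiv.card_le
      · rw [hx2, Nat.card_eq_fintype_card]
        exact Fintype.one_lt_card_iff.2 ⟨σ, AlgEquiv.refl, hσne⟩)
    have hxt := HyperP1.transcendental_of_finrank hK (x := x) (by omega)
    have hFF := (isFF_of_transcendental_mem hK.1 k⟮x⟯ (mem_adjoin_simple_self k x) hxt).2
    set x' : k⟮x⟯ := IntermediateField.AdjoinSimple.gen k x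
    have hpole : ∀ Q : Place k K, Q = Q₁ ∨ Q = Q₂ → 1 < Q.1 (algebraMap k⟮x⟯ K x') := by
      intro Q hQQ
      have hval : (FFLib.poles x : Divisor k K) Q = 1 := by
        rw [hxE]
        rcases hQQ with rfl | rfl
        · simp [E, hQ]
        · simp [E, Ne.symm hQ]
      show 1 < Q.1 x
      by_contra h
      have := (FFLib.val_le_one_iff Q (fun h0 => hxt (by rw [h0]; exact isAlgebraic_zero))).1 (not_lt.1 h)
      simp [FFLib.poles, FFLib.div_apply hK.1] at hval
      omega
    obtain ⟨P₁, e₁, -, he₁⟩ := FFLib.exists_over hFF Q₁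
    obtain ⟨P₂, e₂, -, he₂⟩ := FFLib.exists_over hFF Q₂
    have hlt : ∀ (Q : Place k K) (P : Place k k⟮x⟯) (e : ℕ), IsOverWith Q P e → 1 < Q.1 (algebraMap _ K x') →
        P.ord x' < 0 := fun Q P e h hl => by
      rw [h x'] at hl
      have hPx : 1 < P.1 x' := not_le.1 fun h' => not_le.2 hl (pow_le_one' h' e)
      exact (FFLib.one_lt_val_iff P (fun h0 => by simp [h0] at hPx)).1 hPx
    have hPP : P₁ = P₂ := by
      by_contra hne
      have hx't : Transcendental k x' := fun ha => hxt
        ((isAlgebraic_algHom_iff (IntermediateField.val k⟮x⟯) k⟮x⟯.val.toRingHom.injective).2 ha)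
      haveI : FiniteDimensional k⟮x'⟯ k⟮x⟯ := FFLib.IsFF.finite_adjoin hFF hx't
      have hone : Module.finrank k⟮x'⟯ k⟮x⟯ = 1 := by
        have h := (FFLib.finite_adjoin_map (k := k) (K := k⟮x⟯) (K' := K) x').2
        rw [show algebraMap k⟮x⟯ K x' = x from IntermediateField.AdjoinSimple.coe_gen k x, hx2] at h
        omega
      have hle : Finsupp.single P₁ (1 : ℤ) + Finsupp.single P₂ 1 ≤ FFLib.poles x' := fun R => by
        simp only [Finsupp.add_apply, Finsupp.single_apply]
        have := FFLib.poles_nonneg x' R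
        have h₁ := hlt Q₁ P₁ e₁ he₁ (hpole Q₁ (Or.inl rfl))
        have h₂ := hlt Q₂ P₂ e₂ he₂ (hpole Q₂ (Or.inr rfl))
        simp [FFLib.poles, FFLib.div_apply hFF] at this ⊢
        split_ifs with r₁ r₂ <;> first | (subst_vars; omega) | (exact absurd (r₁.trans r₂.symm) hne)
      have := FFLib.Divisor.deg_mono hle
      rw [FFLib.Divisor.deg_add, FFLib.Divisor.deg_single, FFLib.Divisor.deg_single, FFLib.deg_poles hFF hx't,
        hone, FFLib.deg_eq_one hFF, FFLib.deg_eq_one hFF] at this
      norm_num at this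
    obtain ⟨τ, hτ⟩ := FFLib.exists_conj hFF (P := P₁) ⟨e₁, he₁⟩ ⟨e₂, hPP ▸ he₂⟩
    exact ⟨τ.restrictScalars k, hτ⟩
  -- the image of the second coordinate has its poles at the first place
  have hu : s u₂ ∈ L (Finsupp.single Q₁ (2 : ℤ)) := by
    intro Q
    have h : Q.1 (s u₂) = (FFLib.placeComap s Q).1 u₂ := rfl
    rw [h]
    refine (FFLib.val_le_exp_poles hK.1 _ _).trans (le_of_eq ?_)
    rw [hp₂]
    congr 1
    by_cases hQ : Q = Q₁
    · subst hQ; rw [hs, Finsupp.single_eq_same, Finsupp.single_eq_same]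
    · rw [Finsupp.single_eq_of_ne hQ, Finsupp.single_eq_of_ne]
      intro h'
      refine hQ (Subtype.ext (Valuation.ext fun z => ?_))
      have e := congrArg (fun P : Place k K => P.1 (s.symm z)) (h'.trans hs.symm)
      simpa [FFLib.placeComap_apply] using e
  have hmem : s u₂ ∈ k⟮u₁⟯ := by
    have hnc : u₁ ∉ Submodule.span k {(1 : K)} := fun h => by
      obtain ⟨c, hc⟩ := Submodule.mem_span_singleton.1 h
      have h1 := FFLib.val_le_exp_poles hK.1 u₁ Q₁
      have hcd := congrArg (fun D : Divisor k K => D Q₁) hp₁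
      simp only [Finsupp.single_eq_same] at hcd
      rw [← hc, Algebra.smul_def, mul_one] at hcd
      rcases eq_or_ne c 0 with rfl | hc0
      · simp [FFLib.poles, FFLib.div_apply hK.1] at hcd
      · simp [FFLib.poles, FFLib.div_apply hK.1, FFLib.ord_algebraMap Q₁ c] at hcd
    have hone : (1 : K) ∈ L (Finsupp.single Q₁ (2 : ℤ)) := fun R => by
      rw [map_one, ← exp_zero]
      exact exp_le_exp.2 ((Finsupp.single_nonneg.2 (by norm_num : (0 : ℤ) ≤ 2)) R)
    have hli : LinearIndependent k ![(1 : K), u₁] := by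
      rw [LinearIndependent.pair_iff' one_ne_zero]
      exact fun a ha => hnc (Submodule.mem_span_singleton.2 ⟨a, ha⟩)
    haveI := FFLib.L_finite hK.1 (Finsupp.single Q₁ (2 : ℤ))
    have hle : Submodule.span k (Set.range ![(1 : K), u₁]) ≤ L (Finsupp.single Q₁ (2 : ℤ)) :=
      Submodule.span_le.2 (Set.range_subset_iff.2 fun i => by
        fin_cases i
        · exact hone
        · exact hp₁ ▸ HyperP1.mem_L_poles hK.1 u₁)
    have heq := Submodule.eq_of_le_of_finrank_le hle (by
      rw [finrank_span_eq_card hli, Fintype.card_fin]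
      exact (FFLib.ell_single_of_genus_one hK hg (FFLib.deg_eq_one hK.1 Q₁) (n := 2) (by norm_num)).le)
    rw [← heq] at hu
    refine (Submodule.span_le (p := k⟮u₁⟯.toSubalgebra.toSubmodule)).2 ?_ hu
    rintro _ ⟨i, rfl⟩
    fin_cases i
    · exact one_mem k⟮u₁⟯
    · exact mem_adjoin_simple_self k u₁
  refine ⟨s, (eq_of_le_of_index_two (F₁ := k⟮t₁⟯) (F₂ := k⟮t₂⟯.map s.toAlgHom) ?_ ht₁ ?_).symm⟩
  · rw [← hu₂, IntermediateField.adjoin_map, Set.image_singleton, ← hu₁]
    exact IntermediateField.adjoin_simple_le_iff.2 hmem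
  · rw [← ht₂]
    exact (Algebra.finrank_eq_of_equiv_equiv (k⟮t₂⟯.equivMap s.toAlgHom).toRingEquiv s.toRingEquiv
      (RingHom.ext fun z => rfl)).symm

end Groth.Agent.HypX
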