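import Groth.Agent.HypX.WeierModel
import Groth.Agent.CurveCohLib.SmoothCurve
import Groth.Agent.FFLib.Rational

/-!
Legendre form of a curve of genus one over an algebraically closed field of characteristic not two.
-/

noncomputable section

set_option autoImplicit false
set_option linter.unusedSectionVars false
set_option backward.isDefEq.respectTransparency false
set_option backward.isDefEq.respectTransparency.types false

universe u v

open CategoryTheory AlgebraicGeometry
open FunFld WithZero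

namespace Groth.Agent.HypX

variable {k : Type u} {K : Type v} [Field k] [Field K] [Algebra k K]

/-- The cubic of an equation `y² = f(x)` has distinct roots. -/
theorem roots_ne (hK : IsFunctionField k K) (hg : genus k K = 1) {P : Place k K} (hP : P.deg = 1) {x y : K}
    (hx : x ∈ L (Finsupp.single P 2)) (hx2 : P.ord x = -2) (hy : y ∈ L (Finsupp.single P 3)) (hy3 : P.ord y = -3)
    {e e' : k} (he : y ^ 2 = (x - algebraMap k K e) ^ 2 * (x - algebraMap k K e')) : False := by
  haveI := fun D : Divisor k K => FFLib.L_finite hK.1 D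
  have hy0 := ne_zero_of_ord (P := P) (x := y) (by omega)
  have hxe : x - algebraMap k K e ≠ 0 := fun h => hy0 (pow_eq_zero_iff (two_ne_zero) |>.1 (by rw [he, h]; ring))
  set t := y / (x - algebraMap k K e) with ht
  have ht2 : t ^ 2 = x - algebraMap k K e' := by
    rw [ht, div_pow, he, mul_div_assoc, mul_div_cancel₀ _ (pow_ne_zero 2 hxe)]
  have ht0 : t ≠ 0 := div_ne_zero hy0 hxe
  have hmem : x - algebraMap k K e' ∈ L (Finsupp.single P 2) := by
    refine sub_mem hx ?_
    rw [Algebra.algebraMap_eq_smul_one]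
    refine Submodule.smul_mem _ _ fun Q => ?_
    rw [map_one, ← exp_zero, exp_le_exp]
    by_cases hQ : Q = P
    · subst hQ; simp
    · simp [Finsupp.single_eq_of_ne hQ]
  have htL : t ∈ L (Finsupp.single P ((1 : ℕ) : ℤ)) := by
    rw [FFLib.mem_L_iff_ord ht0]
    intro Q
    have h := (FFLib.mem_L_iff_ord (ht2 ▸ pow_ne_zero 2 ht0)).1 hmem Q
    rw [← ht2, FFLib.ord_pow] at h
    by_cases hQ : Q = P
    · subst hQ; simp at h ⊢; omega
    · simp [Finsupp.single_eq_of_ne hQ] at h ⊢; omega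
  have hle : L (0 : Divisor k K) ≤ L (Finsupp.single P ((1 : ℕ) : ℤ)) :=
    FFLib.L_mono (Finsupp.single_nonneg.2 (by norm_num))
  have heq := Submodule.eq_of_le_of_finrank_eq hle (by
    rw [show Module.finrank k (L (0 : Divisor k K)) = 1 from FFLib.ell_zero hK,
      show Module.finrank k (L (Finsupp.single P ((1 : ℕ) : ℤ))) = 1 from
        FFLib.ell_single_of_genus_one hK hg hP le_rfl])
  rw [← heq, FFLib.mem_L_iff_ord ht0] at htL
  have h2 : P.1 (x - algebraMap k K e') = P.1 x := by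
    refine Valuation.map_sub_eq_of_lt_left _ (lt_of_le_of_lt (P.2.1 e') ?_)
    rw [FFLib.one_lt_val_iff P (ne_zero_of_ord (P := P) (x := x) (by omega))]
    omega
  have h3 : P.ord (x - algebraMap k K e') = -2 := by rw [Place.ord, h2]; exact hx2
  rw [← ht2, FFLib.ord_pow] at h3
  have := htL P
  simp at this
  omega

/-- Legendre coordinates. -/
theorem exists_legendre_coords [IsAlgClosed k] (h2 : (2 : k) ≠ 0) (hK : IsFunctionField k K) (hg : genus k K = 1)
    {P : Place k K} (hP : P.deg = 1) :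
    ∃ (x y : K) (l : k), l ≠ 0 ∧ l ≠ 1 ∧ x ∈ L (Finsupp.single P 2) ∧ P.ord x = -2 ∧
      y ∈ L (Finsupp.single P 3) ∧ P.ord y = -3 ∧
      y ^ 2 + algebraMap k K 0 * x * y + algebraMap k K 0 * y =
        x ^ 3 + algebraMap k K (-(1 + l)) * x ^ 2 + algebraMap k K l * x + algebraMap k K 0 := by
  classical
  obtain ⟨x, y, a₁, a₂, a₃, a₄, a₆, hx, hx2, hy, hy3, heq⟩ := exists_coords hK hg hP
  set ι := algebraMap k K
  have hK2 : (2 : K) ≠ 0 := by
    have := (map_ne_zero ι).2 h2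
    rwa [map_ofNat] at this
  let c₁ := a₁ / 2
  let c₃ := a₃ / 2
  have hc1 : ι a₁ = 2 * ι c₁ := by
    rw [← map_ofNat ι 2, ← map_mul]; congr 1; simp only [c₁]; field_simp
  have hc3 : ι a₃ = 2 * ι c₃ := by
    rw [← map_ofNat ι 2, ← map_mul]; congr 1; simp only [c₃]; field_simp
  let p : Polynomial k := Polynomial.X ^ 3 + Polynomial.C (a₂ + c₁ ^ 2) * Polynomial.X ^ 2 +
    Polynomial.C (a₄ + 2 * c₁ * c₃) * Polynomial.X + Polynomial.C (a₆ + c₃ ^ 2)
  have hpdeg : p.natDegree = 3 := by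
    simp only [p]
    compute_degree!
  have hpm : p.Monic := by
    simp only [p]
    monicity!
  obtain ⟨e₁, e₂, e₃, hp⟩ : ∃ e₁ e₂ e₃ : k, p = (Polynomial.X - Polynomial.C e₁) *
      (Polynomial.X - Polynomial.C e₂) * (Polynomial.X - Polynomial.C e₃) := by
    have hs := IsAlgClosed.splits p
    have hcard : p.roots.card = 3 := (hs.natDegree_eq_card_roots).symm.trans hpdeg
    obtain ⟨e₁, e₂, e₃, he⟩ := Multiset.card_eq_three.1 hcard
    refine ⟨e₁, e₂, e₃, ?_⟩
    rw [hs.eq_prod_roots_of_monic hpm, he]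
    simp [mul_assoc]
  set y' := y + ι c₁ * x + ι c₃ with hy'
  have hy'eq : y' ^ 2 = (x - ι e₁) * (x - ι e₂) * (x - ι e₃) := by
    have h := congrArg (Polynomial.aeval x) hp
    simp only [p, map_add, map_sub, map_mul, map_pow, Polynomial.aeval_X, Polynomial.aeval_C, map_ofNat] at h
    rw [← h]
    simp only [hy', ι] at hc1 hc3 heq ⊢
    linear_combination heq - x * y * hc1 - y * hc3
  have hone : ∀ {m : ℤ}, 0 ≤ m → ∀ c : k, ι c ∈ L (Finsupp.single P m) := fun {m} hm c => by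
    show algebraMap k K c ∈ _
    rw [Algebra.algebraMap_eq_smul_one]
    refine Submodule.smul_mem _ _ fun Q => ?_
    rw [map_one, ← exp_zero, exp_le_exp]
    exact Finsupp.single_nonneg.2 hm Q
  have hy'L : y' ∈ L (Finsupp.single P 3) := by
    refine add_mem (add_mem hy ?_) (hone (by norm_num) _)
    rw [← Algebra.smul_def]
    exact Submodule.smul_mem _ _ (FFLib.L_mono (Finsupp.single_le_single.2 (by norm_num)) hx)
  have hx0 := ne_zero_of_ord (P := P) (x := x) (by omega)
  have hy0 := ne_zero_of_ord (P := P) (x := y) (by omega)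
  have hvx : P.1 x = exp 2 := by rw [FFLib.val_eq_exp P hx0, hx2]; rfl
  have hvy : P.1 y = exp 3 := by rw [FFLib.val_eq_exp P hy0, hy3]; rfl
  have hvy' : P.1 y' = exp 3 := by
    have h1 : P.1 (ι c₁ * x + ι c₃) ≤ exp 2 := by
      refine (P.1.map_add _ _).trans (max_le ?_ ((P.2.1 c₃).trans ?_))
      · rw [map_mul, hvx]; exact mul_le_of_le_one_left' (P.2.1 c₁)
      · rw [← exp_zero, exp_le_exp]; norm_num
    rw [hy', add_assoc, P.1.map_add_eq_of_lt_left (lt_of_le_of_lt h1 (by rw [hvy, exp_lt_exp]; norm_num)), hvy]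
  have hy'3 : P.ord y' = -3 := FFLib.ord_of_val_eq P (by rw [hvy']; rfl)
  have hne : e₁ ≠ e₂ ∧ e₁ ≠ e₃ ∧ e₂ ≠ e₃ := by
    refine ⟨fun h => ?_, fun h => ?_, fun h => ?_⟩
    · subst h; exact roots_ne hK hg hP hx hx2 hy'L hy'3 (e := e₁) (e' := e₃) (by rw [hy'eq]; ring)
    · subst h; exact roots_ne hK hg hP hx hx2 hy'L hy'3 (e := e₁) (e' := e₂) (by rw [hy'eq]; ring)
    · subst h; exact roots_ne hK hg hP hx hx2 hy'L hy'3 (e := e₂) (e' := e₁) (by rw [hy'eq]; ring)
  obtain ⟨s, hs⟩ := IsAlgClosed.exists_pow_nat_eq (e₂ - e₁) (n := 2) two_pos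
  have hd : e₂ - e₁ ≠ 0 := sub_ne_zero.2 hne.1.symm
  have hs0 : s ≠ 0 := fun h => hd (by rw [← hs, h]; ring)
  refine ⟨ι (s ^ 2)⁻¹ * (x - ι e₁), ι (s ^ 3)⁻¹ * y', (e₃ - e₁) / (e₂ - e₁),
    div_ne_zero (sub_ne_zero.2 hne.2.1.symm) hd, ?_, ?_, ?_, ?_, ?_, ?_⟩
  · rw [Ne, div_eq_one_iff_eq hd, sub_left_inj]
    exact hne.2.2.symm
  · rw [← Algebra.smul_def]
    exact Submodule.smul_mem _ _ (sub_mem hx (hone (by norm_num) _))
  · refine FFLib.ord_of_val_eq P ?_
    rw [map_mul, FFLib.val_algebraMap P (inv_ne_zero (pow_ne_zero _ hs0)), _root_.one_mul,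
      Valuation.map_sub_eq_of_lt_left _ (lt_of_le_of_lt (P.2.1 e₁) (by rw [hvx, ← exp_zero, exp_lt_exp]; norm_num)), hvx]
    rfl
  · rw [← Algebra.smul_def]
    exact Submodule.smul_mem _ _ hy'L
  · refine FFLib.ord_of_val_eq P ?_
    rw [map_mul, FFLib.val_algebraMap P (inv_ne_zero (pow_ne_zero _ hs0)), _root_.one_mul, hvy']
    rfl
  · simp only [← hs, map_zero, zero_mul, add_zero, map_inv₀, map_pow, map_neg, map_add, map_one, map_div₀, map_sub]
    have hι : ι s ≠ 0 := (map_ne_zero ι).2 hs0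
    have hse : ι e₂ = ι e₁ + ι s ^ 2 := by rw [← map_pow, hs, map_sub]; ring
    rw [mul_pow, hy'eq, hse]
    field_simp
    ring

/-- A curve of genus one over an algebraically closed field of characteristic not two is a Legendre cubic. -/
theorem exists_legendre {k : Type u} [Field k] [IsAlgClosed k] (h2 : (2 : k) ≠ 0) (E : Scheme.{u})
    [E.Over (Spec (CommRingCat.of k))] [IsProper (E ↘ Spec (CommRingCat.of k))]
    [Smooth (E ↘ Spec (CommRingCat.of k))] [ConnectedSpace E] (hdim : topologicalKrullDim E = 1)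
    (hg : Curv2.genus k E = 1) :
    ∃ (l : k) (W : LefPen.Form 2 k 3), l ≠ 0 ∧ l ≠ 1 ∧ W.1 = MvPolynomial.X 1 ^ 2 * MvPolynomial.X 2 -
        MvPolynomial.X 0 * (MvPolynomial.X 0 - MvPolynomial.X 2) *
          (MvPolynomial.X 0 - MvPolynomial.C l * MvPolynomial.X 2) ∧
      ∃ e : E ≅ (LefPen.hypIdeal W).subscheme,
        e.hom ≫ (LefPen.hypIdeal W).subschemeι ≫ CohB1.ProjSpace.toSpec 2 k = E ↘ Spec (CommRingCat.of k) := by
  haveI := QuasiCompact.compactSpace_of_compactSpace (E ↘ Spec (CommRingCat.of k))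
  haveI : IsIntegral E := CurveCohLib.isIntegral_of_smooth_connected (E ↘ Spec (CommRingCat.of k))
  have h0 := CurveCohLib.finrank_h0_eq_one k E
  letI := ZetaCurve.ffAlg k E
  have hK := ZetaCurve.isFunctionField k E hdim h0
  obtain ⟨P⟩ := FFLib.exists_place hK.1
  have hP := FFLib.deg_eq_one hK.1 P
  obtain ⟨x, y, l, hl0, hl1, hx, hx2, hy, hy3, heq⟩ := exists_legendre_coords h2 hK
    ((ZetaCurve.genus_eq k E hdim h0).trans hg) hP
  refine ⟨l, ⟨_, wPoly_mem 0 (-(1 + l)) 0 l 0⟩, hl0, hl1, ?_,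
    exists_iso_of_coords hdim h0 hg hP hx hx2 hy hy3 heq _ rfl⟩
  simp [wPoly]
  ring

end Groth.Agent.HypX
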