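import Groth.Agent.HypX.PlaneCurve
import Groth.Agent.HyperP1.AffineEquation
import Groth.Agent.AVDegPoly.Pullback
import Groth.Agent.CurveBC.FiniteDim

/-!
A smooth plane curve of degree `d ≥ 4` is not hyperelliptic.
-/

noncomputable section

set_option autoImplicit false
set_option linter.style.haveILetI false
set_option linter.unusedSectionVars false
set_option backward.isDefEq.respectTransparency false
set_option backward.isDefEq.respectTransparency.types false
set_option maxHeartbeats 1000000

universe u

open CategoryTheory CategoryTheory.Limits AlgebraicGeometry TopologicalSpace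
open scoped IntermediateField
open FunFld

namespace Groth.Agent.HypX

section Field

variable {k K : Type u} [Field k] [Field K] [Algebra k K]

/-- In a function field of genus zero: two sections of a divisor of degree two satisfy a conic. -/
theorem exists_conic (hK : IsFunctionField k K) (hg : genus k K = 0) :
    ∃ x y : K, LinearIndependent k ![1, x, y] ∧ Module.finrank k⟮x⟯ K ≤ 2 ∧ Transcendental k x ∧
      y * y ∈ Submodule.span k (Set.range ![1, x, y, x * x, x * y]) := by
  classical
  haveI := fun D : Divisor k K => FFLib.L_finite hK.1 D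
  obtain ⟨W, hW⟩ := FFLib.exists_canonical hK
  have hWd := FFLib.deg_canonical hK hW
  rw [hg] at hWd
  have hA₀ : (-W).deg = 2 := by rw [FFLib.Divisor.deg_neg, hWd]; norm_num
  have hl₀ := FFLib.ell_of_deg_gt hK (D := -W) (by rw [hA₀, hg]; norm_num)
  rw [hA₀, hg] at hl₀
  obtain ⟨z, hz0, -, hA⟩ := FFLib.exists_le_add_div hK.1 (D := -W) (by omega)
  set A : Divisor k K := -W + FunFld.div k z with hAdef
  have hAd : A.deg = 2 := by rw [hAdef, FFLib.Divisor.deg_add, hA₀, FFLib.deg_div hK.1]; norm_num
  have hAl : ell A = 3 := by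
    have := FFLib.ell_of_deg_gt hK (D := A) (by rw [hAd, hg]; norm_num)
    rw [hAd, hg] at this
    omega
  have h1 : (1 : K) ∈ L A := fun P => by
    rw [map_one, ← WithZero.exp_zero]
    exact WithZero.exp_le_exp.2 (hA P)
  obtain ⟨x, hx, hx1⟩ : ∃ x ∈ L A, x ∉ Submodule.span k {(1 : K)} := by
    by_contra! h
    have h2 := (Submodule.finrank_mono (t := Submodule.span k {(1 : K)}) h).trans
      (finrank_span_singleton (one_ne_zero (α := K))).le
    change ell A ≤ 1 at h2
    omega
  obtain ⟨y, hy, hy1⟩ : ∃ y ∈ L A, y ∉ Submodule.span k (Set.range ![1, x]) := by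
    by_contra! h
    haveI : Module.Finite k (Submodule.span k (Set.range ![1, x])) := .span_of_finite k (Set.finite_range _)
    have h2 := (Submodule.finrank_mono (t := Submodule.span k (Set.range ![1, x])) h).trans
      (finrank_range_le_card _)
    simp only [Fintype.card_fin] at h2
    change ell A ≤ 2 at h2
    omega
  have hli : LinearIndependent k ![1, x, y] := by
    have h2 : LinearIndependent k ![1, x] := by
      rw [linearIndependent_fin2]
      refine ⟨fun h => hx1 (by simp_all), fun a ha => hx1 ?_⟩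
      have ha0 : a ≠ 0 := fun h0 => one_ne_zero (α := K) (by simpa [h0] using ha.symm)
      exact Submodule.mem_span_singleton.2 ⟨a⁻¹, by rw [← show a • x = 1 from ha, inv_smul_smul₀ ha0]⟩
    have := linearIndependent_finSnoc.2 ⟨h2, hy1⟩
    rwa [show (Fin.snoc ![1, x] y : Fin 3 → K) = ![1, x, y] by funext i; fin_cases i <;> rfl] at this
  haveI : Module.Finite k (L ((2 : ℤ) • A)) := inferInstance
  have hmul : ∀ {a b : K}, a ∈ L A → b ∈ L A → a * b ∈ L ((2 : ℤ) • A) := fun ha hb => by
    rw [two_smul]; exact FFLib.mul_mem_L ha hb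
  have hmem : ∀ i, ![1, x, y, x * x, x * y, y * y] i ∈ L ((2 : ℤ) • A) := by
    intro i
    fin_cases i
    · simpa using hmul h1 h1
    · simpa using hmul h1 hx
    · simpa using hmul h1 hy
    · exact hmul hx hx
    · exact hmul hx hy
    · exact hmul hy hy
  have h5 : ell ((2 : ℤ) • A) = 5 := by
    have hd : ((2 : ℤ) • A).deg = 4 := by
      rw [two_smul, FFLib.Divisor.deg_add, hAd]; norm_num
    have := FFLib.ell_of_deg_gt hK (D := (2 : ℤ) • A) (by rw [hd, hg]; norm_num)
    rw [hd, hg] at this
    omega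
  obtain ⟨a, ha, i, hi⟩ : ∃ a : Fin 6 → k, ∑ i, a i • ![1, x, y, x * x, x * y, y * y] i = 0 ∧ ∃ i, a i ≠ 0 := by
    refine Fintype.not_linearIndependent_iff.1 fun h => ?_
    have h6 := (LinearIndependent.of_comp (Submodule.subtype _)
      (v := fun i => (⟨_, hmem i⟩ : L ((2 : ℤ) • A))) h).fintype_card_le_finrank
    simp only [Fintype.card_fin] at h6
    change 6 ≤ ell _ at h6
    omega
  simp only [Fin.sum_univ_six, Matrix.cons_val] at ha
  have hdeg : ∀ w : K, w ∈ L A → Transcendental k w → Module.finrank k⟮w⟯ K ≤ 2 := fun w hw ht => by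
    have hle : (FFLib.poles w : Divisor k K) ≤ A := fun P => by
      rcases eq_or_ne w 0 with rfl | h0
      · exact absurd isAlgebraic_zero ht
      have := hw P
      rw [FFLib.val_eq_exp P h0, WithZero.exp_le_exp] at this
      simp [FFLib.poles, FFLib.div_apply hK.1]
      exact ⟨by omega, hA P⟩
    have := FFLib.Divisor.deg_mono hle
    rw [FFLib.deg_poles hK.1 ht, hAd] at this
    exact_mod_cast this
  have htr : ∀ w : K, w ∉ Submodule.span k {(1 : K)} → Transcendental k w := fun w hw =>
    FFLib.transcendental_of_not_range hK fun ⟨r, hr⟩ =>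
      hw (Submodule.mem_span_singleton.2 ⟨r, by rw [Algebra.smul_def, mul_one, hr]⟩)
  -- solve for the square of a coordinate
  have hsolve : ∀ (p q : K) (e0 e1 e2 e3 e4 c : k), c ≠ 0 →
      e0 • (1 : K) + e1 • p + e2 • q + e3 • (p * p) + e4 • (p * q) + c • (q * q) = 0 →
      q * q ∈ Submodule.span k (Set.range ![1, p, q, p * p, p * q]) := by
    intro p q e0 e1 e2 e3 e4 c hc he
    have hq : q * q = (-c⁻¹) • (e0 • (1 : K) + e1 • p + e2 • q + e3 • (p * p) + e4 • (p * q)) := by
      rw [neg_smul, eq_neg_iff_add_eq_zero, ← inv_smul_smul₀ hc (q * q), ← smul_add]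
      rw [add_comm (c • (q * q)), he, smul_zero]
    rw [hq]
    refine Submodule.smul_mem _ _ ?_
    have hs : ∀ j, (![1, p, q, p * p, p * q] j : K) ∈ Submodule.span k (Set.range ![1, p, q, p * p, p * q]) :=
      fun j => Submodule.subset_span ⟨j, rfl⟩
    exact add_mem (add_mem (add_mem (add_mem (Submodule.smul_mem _ _ (hs 0)) (Submodule.smul_mem _ _ (hs 1)))
      (Submodule.smul_mem _ _ (hs 2))) (Submodule.smul_mem _ _ (hs 3))) (Submodule.smul_mem _ _ (hs 4))
  have hli3 : ∀ s t : k, s • (1 : K) + t • x + (1 : k) • y ≠ 0 := fun s t h => by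
    have := Fintype.linearIndependent_iff.1 hli ![s, t, 1] (by simpa [Fin.sum_univ_three] using h) 2
    simp at this
  have hy' : y ∉ Submodule.span k {(1 : K)} := fun h => by
    obtain ⟨r, hr⟩ := Submodule.mem_span_singleton.1 h
    exact hli3 (-r) 0 (by rw [neg_smul, hr]; simp)
  by_cases h55 : a 5 = 0
  · by_cases h33 : a 3 = 0
    · -- only the mixed term is left: shift `x` by `y`
      have h44 : a 4 ≠ 0 := by
        intro h44
        rw [h55, h33, h44] at ha
        simp only [zero_smul, add_zero] at ha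
        have h0 := Fintype.linearIndependent_iff.1 hli ![a 0, a 1, a 2] (by simpa [Fin.sum_univ_three] using ha)
        refine hi ?_
        fin_cases i
        exacts [h0 0, h0 1, h0 2, h33, h44, h55]
      have hxy : x + y ∉ Submodule.span k {(1 : K)} := fun h => by
        obtain ⟨r, hr⟩ := Submodule.mem_span_singleton.1 h
        exact hli3 (-r) 1 (by rw [neg_smul, hr]; simp)
      refine ⟨x + y, y, ?_, hdeg _ (add_mem hx hy) (htr _ hxy), htr _ hxy,
        hsolve (x + y) y (a 0) (a 1) (a 2 - a 1) 0 (a 4) (-(a 4)) (neg_ne_zero.2 h44) ?_⟩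
      · rw [Fintype.linearIndependent_iff] at hli ⊢
        intro g hg'
        simp only [Fin.sum_univ_three, Matrix.cons_val] at hg'
        have h0 := hli ![g 0, g 1, g 1 + g 2] (by
          simp only [Fin.sum_univ_three, Matrix.cons_val]
          rw [← hg']; simp only [add_smul, smul_add]; abel)
        have e1 : g 1 = 0 := h0 1
        intro j
        fin_cases j
        exacts [h0 0, e1, (by simpa [e1] using h0 2)]
      · rw [h55, h33] at ha
        simp only [Algebra.smul_def, map_sub, map_neg, map_zero] at ha ⊢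
        linear_combination ha
    · refine ⟨y, x, ?_, hdeg _ hy (htr _ hy'), htr _ hy',
        hsolve y x (a 0) (a 2) (a 1) (a 5) (a 4) (a 3) h33 ?_⟩
      · rw [Fintype.linearIndependent_iff] at hli ⊢
        intro g hg'
        simp only [Fin.sum_univ_three, Matrix.cons_val] at hg'
        have h0 := hli ![g 0, g 2, g 1] (by
          simp only [Fin.sum_univ_three, Matrix.cons_val]; rw [← hg']; abel)
        intro j
        fin_cases j
        exacts [h0 0, h0 2, h0 1]
      · simp only [Algebra.smul_def] at ha ⊢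
        linear_combination ha
  · exact ⟨x, y, hli, hdeg _ hx (htr _ hx1), htr _ hx1,
      hsolve x y (a 0) (a 1) (a 2) (a 3) (a 4) (a 5) h55 ha⟩

variable {K' : Type u} [Field K'] [Algebra k K']

/-- A conic bounds `y` by `x` at all places. -/
theorem val_le_of_conic (hK' : IsFunctionField k K') (Q : Place k K') {x y : K'}
    (h : y * y ∈ Submodule.span k (Set.range ![1, x, y, x * x, x * y])) :
    Q.1 y ≤ WithZero.exp ((FFLib.poles x : Divisor k K') Q) := by
  set M := WithZero.exp ((FFLib.poles x : Divisor k K') Q) with hM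
  have h1 : (1 : WithZero (Multiplicative ℤ)) ≤ M := by
    rw [hM, ← WithZero.exp_zero]; exact WithZero.exp_le_exp.2 (FFLib.poles_nonneg x Q)
  have hx : Q.1 x ≤ M := FFLib.val_le_exp_poles hK'.1 x Q
  by_contra! hlt
  have hy0 : 0 < Q.1 y := lt_of_le_of_lt zero_le' hlt
  obtain ⟨c, hc⟩ := (Submodule.mem_span_range_iff_exists_fun k).1 h
  have hlt2 : Q.1 (∑ i, c i • ![1, x, y, x * x, x * y] i) < Q.1 y * Q.1 y := by
    refine Valuation.map_sum_lt Q.1 (mul_ne_zero hy0.ne' hy0.ne') fun i _ => ?_
    rw [Algebra.smul_def, map_mul]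
    refine lt_of_le_of_lt (mul_le_of_le_one_left' (Q.2.1 _)) ?_
    have hMM : M * M < Q.1 y * Q.1 y :=
      lt_of_le_of_lt (mul_le_mul_right hlt.le M) (mul_lt_mul_of_pos_right hlt hy0)
    have hMy : M * Q.1 y < Q.1 y * Q.1 y := mul_lt_mul_of_pos_right hlt hy0
    fin_cases i
    · simpa using lt_of_le_of_lt (one_le_mul h1 h1) hMM
    · simpa using lt_of_le_of_lt (hx.trans (le_mul_of_one_le_left' h1)) hMM
    · simpa using lt_of_le_of_lt (le_mul_of_one_le_left' h1 : Q.1 y ≤ M * Q.1 y) hMy
    · simpa [map_mul] using lt_of_le_of_lt (mul_le_mul' hx hx) hMM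
    · simpa [map_mul] using lt_of_le_of_lt (mul_le_mul_left hx (Q.1 y)) hMy
  rw [hc, map_mul] at hlt2
  exact lt_irrefl _ hlt2

end Field

attribute [local instance] ZetaCurve.ffAlg H23.PnChart.isIntegral_projSpace

variable {k : Type u} [Field k] {d : ℕ} (G : LefPen.Form 2 k d)
  [inst : ((LefPen.hypIdeal G).subscheme).Over (Spec (CommRingCat.of k))]
  (hinst : (LefPen.hypIdeal G).subscheme ↘ (Spec (CommRingCat.of k)) =
    (LefPen.hypIdeal G).subschemeι ≫ CohB1.ProjSpace.toSpec 2 k)

include hinst in
theorem isProper_plane : IsProper ((LefPen.hypIdeal G).subscheme ↘ Spec (CommRingCat.of k)) := by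
  haveI : IsProper (CohB1.ProjSpace.toSpec 2 k) := PnCoh.Chow.isProper_toSpec 2 k
  rw [hinst]
  infer_instance

variable [Smooth ((LefPen.hypIdeal G).subscheme ↘ Spec (CommRingCat.of k))]

include hinst in
theorem isIntegral_plane (hd : 1 ≤ d) (hG : G ≠ 0) : IsIntegral (LefPen.hypIdeal G).subscheme :=
  haveI := isProper_plane G hinst
  CurveBC.isIntegral_of_h0 k _ (plane_curve G hd hG hinst).1

include hinst in
/-- No proper subfield of the function field of a plane curve holds a space of functions as large as the genus,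
bounded by a divisor of the canonical degree. -/
theorem plane_false (hd : 4 ≤ d) (hG : G ≠ 0) [IsIntegral (LefPen.hypIdeal G).subscheme]
    [IsProper ((LefPen.hypIdeal G).subscheme ↘ Spec (CommRingCat.of k))]
    (hdim : topologicalKrullDim (LefPen.hypIdeal G).subscheme = 1)
    (F : IntermediateField k (LefPen.hypIdeal G).subscheme.functionField) (hF : F ≠ ⊤)
    (D : Divisor k (LefPen.hypIdeal G).subscheme.functionField)
    (hD : D.deg ≤ 2 * (((d - 1).choose 2 : ℕ) : ℤ) - 2)
    {ι : Type*} [Fintype ι] (b : ι → (LefPen.hypIdeal G).subscheme.functionField) (hb : LinearIndependent k b)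
    (hι : (d - 1).choose 2 ≤ Fintype.card ι) (hbD : ∀ i, b i ∈ FunFld.L D) (hbF : ∀ i, b i ∈ F) : False := by
  obtain ⟨h0, -, h1⟩ := plane_curve G (by omega) hG hinst
  have hK := ZetaCurve.isFunctionField k _ hdim h0
  have hg : FunFld.genus k (LefPen.hypIdeal G).subscheme.functionField = (d - 1).choose 2 := by
    rw [ZetaCurve.genus_eq k _ hdim h0, Nat.choose_two_right, show d - 1 - 1 = d - 2 by omega]
    exact h1
  obtain ⟨v, c, hv, hgen, hG0, hker⟩ := exists_coordinates G hinst hG hK
  exact false_of_subfield hK G.1 (isHomogeneous_form G) (fun h => hG (Subtype.ext h)) v c hv hgen hG0 hker hd hg rfl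
    F hF D hD b hb hι hbD hbF

include hinst in
/-- No double cover of the line. -/
theorem not_double_cover_line (hd : 4 ≤ d) (hG : G ≠ 0) (φ : (LefPen.hypIdeal G).subscheme ⟶ CohB1.ProjSpace 1 k)
    (hφ : φ ≫ CohB1.ProjSpace.toSpec 1 k = (LefPen.hypIdeal G).subscheme ↘ Spec (CommRingCat.of k))
    [IsFinite φ] [Flat φ] (hrk : ∀ y : ↥(CohB1.ProjSpace 1 k), Scheme.Hom.finrank φ y = 2) : False := by
  haveI := isIntegral_plane G hinst (by omega) hG
  haveI := isProper_plane G hinst
  haveI : IsProper (CohB1.ProjSpace.toSpec 1 k) := PnCoh.Chow.isProper_toSpec 1 k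
  haveI : IsLocallyNoetherian (CohB1.ProjSpace 1 k) :=
    LocallyOfFiniteType.isLocallyNoetherian (CohB1.ProjSpace.toSpec 1 k)
  haveI hs : Surjective φ := (Scheme.Hom.one_le_finrank_iff_surjective φ).1 fun y => by
    show (1 : ℕ) ≤ φ.finrank y
    rw [hrk y]; norm_num
  have hdim := CurveBC.topologicalKrullDim_finite_cover φ (P1Split.dim_eq k)
  have e := HyperP1.map_generic k hdim φ hs.surj
  obtain ⟨t, hdeg, -⟩ := HyperP1.exists_coord k φ hφ
  rw [← HyperP1.finrank_eq_residueDegree k φ hφ e (φ (genericPoint (LefPen.hypIdeal G).subscheme)), hrk] at hdeg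
  have h0 := (plane_curve G (by omega) hG hinst).1
  have hK := ZetaCurve.isFunctionField k _ hdim h0
  have ht := HyperP1.transcendental_of_finrank hK (x := t) (by omega)
  set g := (d - 1).choose 2
  have hg1 : 1 ≤ g := Nat.choose_pos (by omega)
  refine plane_false G hinst hd hG hdim k⟮t⟯ ?_ (((g - 1 : ℕ) : ℤ) • FFLib.poles t) ?_ (fun i : Fin g => t ^ (i : ℕ))
    ((FFLib.linearIndependent_powers ht).comp _ Fin.val_injective) (Fintype.card_fin g).ge (fun i => ?_)
    (fun i => pow_mem (IntermediateField.mem_adjoin_simple_self k t) _)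
  · intro h
    rw [h, IntermediateField.finrank_top] at hdeg
    omega
  · rw [HyperP1.deg_nsmul, FFLib.deg_poles hK.1 ht, ← hdeg]
    push_cast [Nat.cast_sub hg1]
    omega
  · refine FFLib.L_mono (HyperP1.smul_mono (FFLib.poles_nonneg t) ?_) (HyperP1.pow_mem_L (HyperP1.mem_L_poles hK.1 t) _)
    have := i.isLt
    omega

include hinst in
/-- No double cover of a curve of genus zero. -/
theorem not_double_cover_conic (hd : d = 4) (hG : G ≠ 0)
    {P : Scheme.{u}} [P.Over (Spec (CommRingCat.of k))] [IsProper (P ↘ Spec (CommRingCat.of k))]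
    [Smooth (P ↘ Spec (CommRingCat.of k))] (hP : topologicalKrullDim P = 1)
    (hP0 : (Module.finrank k (Coh.HH P (Coh.structureModule P) 0) : ℤ) -
      Module.finrank k (Coh.HH P (Coh.structureModule P) 1) = 1)
    (h : (LefPen.hypIdeal G).subscheme ⟶ P)
    (hh : h ≫ (P ↘ Spec (CommRingCat.of k)) = (LefPen.hypIdeal G).subscheme ↘ Spec (CommRingCat.of k))
    [IsFinite h] [Flat h] (hrk : ∀ y : P, Scheme.Hom.finrank h y = 2) : False := by
  haveI := isIntegral_plane G hinst (by omega) hG
  haveI := isProper_plane G hinst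
  obtain ⟨h0C, hconn, -⟩ := plane_curve G (by omega) hG hinst
  haveI : IsLocallyNoetherian P := LocallyOfFiniteType.isLocallyNoetherian (P ↘ Spec (CommRingCat.of k))
  haveI hs : Surjective h := (Scheme.Hom.one_le_finrank_iff_surjective h).1 fun y => by
    show (1 : ℕ) ≤ h.finrank y
    rw [hrk y]; norm_num
  haveI : ConnectedSpace P :=
    { toPreconnectedSpace := hs.surj.denseRange.preconnectedSpace h.continuous
      toNonempty := ⟨h hconn.toNonempty.some⟩ }
  haveI := QuasiCompact.compactSpace_of_compactSpace (P ↘ Spec (CommRingCat.of k))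
  haveI := CurveCohLib.isIntegral_of_smooth_connected (P ↘ Spec (CommRingCat.of k))
  have h0P : Module.finrank k (Coh.HH P (Coh.structureModule P) 0) = 1 := by
    refine le_antisymm ?_ (by omega)
    letI := GeomField.globalAlgebra k P
    letI := GeomField.globalAlgebra k (LefPen.hypIdeal G).subscheme
    rw [GeomField.finrank_HH_zero k P]
    rw [GeomField.finrank_HH_zero k (LefPen.hypIdeal G).subscheme] at h0C
    haveI := Module.finite_of_finrank_eq_succ h0C
    let f : Γ(P, ⊤) →ₗ[k] Γ((LefPen.hypIdeal G).subscheme, ⊤) :=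
      { toFun := h.appTop.hom
        map_add' := map_add _
        map_smul' := fun r a => by
          simp only [Algebra.smul_def, map_mul, RingHom.id_apply]
          congr 1
          show h.appTop.hom ((P ↘ Spec (CommRingCat.of k)).appTop.hom _) = _
          rw [← RingHom.comp_apply, ← CommRingCat.hom_comp, ← Scheme.Hom.comp_appTop, hh]
          rfl }
    exact h0C ▸ LinearMap.finrank_le_finrank_of_injective (f := f)
      (PnCoh.Chow.app_injective_of_isDominant h ⊤)
  have hKP := ZetaCurve.isFunctionField k P hP h0P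
  have hgP : FunFld.genus k P.functionField = 0 := by
    rw [ZetaCurve.genus_eq k P hP h0P]
    unfold Curv2.genus
    omega
  have hdim := CurveBC.topologicalKrullDim_finite_cover h hP
  have hK := ZetaCurve.isFunctionField k _ hdim h0C
  let A : Over (Spec (CommRingCat.of k)) := Over.mk ((LefPen.hypIdeal G).subscheme ↘ Spec (CommRingCat.of k))
  let B : Over (Spec (CommRingCat.of k)) := Over.mk (P ↘ Spec (CommRingCat.of k))
  let φ : A ⟶ B := Over.homMk h hh
  haveI : IsIntegral A.left := ‹IsIntegral (LefPen.hypIdeal G).subscheme›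
  haveI : IsIntegral B.left := ‹IsIntegral P›
  haveI : IsFinite φ.left := ‹IsFinite h›
  haveI : Surjective φ.left := hs
  haveI : Flat φ.left := ‹Flat h›
  haveI : LocallyOfFinitePresentation φ.left := inferInstanceAs (LocallyOfFinitePresentation h)
  let ψ : P.functionField →ₐ[k] (LefPen.hypIdeal G).subscheme.functionField :=
    { AVDegLib.ffMap φ with commutes' := fun c => AVDegLib.ffMap_algebraMap φ c }
  have h2 : Module.finrank ψ.fieldRange (LefPen.hypIdeal G).subscheme.functionField = 2 := by
    have he := (AVDegLib.finrank_eq φ (genericPoint P)).symm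
    change _ = h.finrank _ at he
    rw [hrk] at he
    letI : Algebra P.functionField (LefPen.hypIdeal G).subscheme.functionField := AVDegLib.ffExt φ
    refine Eq.trans ?_ he
    exact (Algebra.finrank_eq_of_equiv_equiv (RingEquiv.ofBijective ψ.rangeRestrict
      ⟨fun a b hab => ψ.toRingHom.injective (congrArg Subtype.val hab), AlgHom.rangeRestrict_surjective ψ⟩)
      (RingEquiv.refl _) (RingHom.ext fun a => rfl)).symm
  obtain ⟨x, y, hli, hx2, hxt, hrel⟩ := exists_conic hKP hgP
  have htK : Transcendental k (ψ x) := fun ha => hxt ((isAlgebraic_algHom_iff ψ ψ.toRingHom.injective).1 ha)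
  have hfin : Module.finrank k⟮ψ x⟯ (LefPen.hypIdeal G).subscheme.functionField ≤ 4 := by
    have hle : k⟮ψ x⟯ ≤ ψ.fieldRange := IntermediateField.adjoin_simple_le_iff.2 ⟨x, rfl⟩
    rw [← IntermediateField.relfinrank_mul_finrank_top hle, h2]
    have hmap : k⟮ψ x⟯ = k⟮x⟯.map ψ := by rw [IntermediateField.adjoin_map, Set.image_singleton]
    rw [hmap, AlgHom.fieldRange_eq_map, IntermediateField.relfinrank_map_map,
      IntermediateField.relfinrank_top_right]
    omega
  subst hd
  refine plane_false G hinst (le_refl 4) hG hdim ψ.fieldRange ?_ (FFLib.poles (ψ x)) ?_ (ψ ∘ ![1, x, y])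
    (hli.map' ψ.toLinearMap (LinearMap.ker_eq_bot.2 ψ.toRingHom.injective)) (by simp) ?_ (fun i => ⟨_, rfl⟩)
  · intro htop
    rw [htop, IntermediateField.finrank_top] at h2
    omega
  · rw [FFLib.deg_poles hK.1 htK]
    norm_num [Nat.choose_two_right]
    exact_mod_cast hfin
  · intro i Q
    fin_cases i
    · show Q.1 (ψ 1) ≤ _
      rw [map_one, map_one, ← WithZero.exp_zero]
      exact WithZero.exp_le_exp.2 (FFLib.poles_nonneg _ Q)
    · exact FFLib.val_le_exp_poles hK.1 _ Q
    · refine val_le_of_conic hK Q ?_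
      have := Submodule.mem_map_of_mem (f := ψ.toLinearMap) hrel
      rw [Submodule.map_span, ← Set.range_comp] at this
      rw [show ψ.toLinearMap ∘ ![1, x, y, x * x, x * y] = ![1, ψ x, ψ y, ψ x * ψ x, ψ x * ψ y] by
        funext j; fin_cases j <;> simp] at this
      exact map_mul ψ y y ▸ this

end Groth.Agent.HypX
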