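import Groth.Agent.HypX.PlaneFF
import Groth.Agent.HypX.CurveMap
import Groth.Agent.HypX.PlaneH

/-!
The function field of a smooth plane curve: coordinates, their relations.
-/

noncomputable section

set_option autoImplicit false
set_option linter.style.haveILetI false
set_option linter.unusedSectionVars false
set_option backward.isDefEq.respectTransparency false
set_option backward.isDefEq.respectTransparency.types false
set_option maxHeartbeats 1000000

universe u

open CategoryTheory CategoryTheory.Limits AlgebraicGeometry TopologicalSpace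
open scoped IntermediateField
open Groth.Agent.ZetaLib
open HomogeneousLocalization (Away)

namespace Groth.Agent.HypX

variable {n : ℕ} {k : Type u} [Field k]

local notation "𝒜" => CohB1.polyGrading n k
local notation "T" => (MvPolynomial.X : Fin (n + 1) → MvPolynomial (Fin (n + 1)) k)

theorem dvd_of_mul_pow {R : Type*} [CommRing R] [IsDomain R] {p G H : R} (hp : Prime p) (hG : ¬ p ∣ G) :
    ∀ N : ℕ, G ∣ H * p ^ N → G ∣ H
  | 0, h => by simpa using h
  | N + 1, h => by
    obtain ⟨B, hB⟩ := h
    have h1 : p ∣ G * B := Dvd.intro (H * p ^ N) (by rw [← hB, pow_succ]; ac_rfl)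
    obtain ⟨B', rfl⟩ := (hp.dvd_mul.1 h1).resolve_left hG
    refine dvd_of_mul_pow hp hG N (Dvd.intro B' (mul_left_cancel₀ hp.ne_zero ?_))
    rw [show p * (G * B') = G * (p * B') by ac_rfl, ← hB, pow_succ]
    ac_rfl

/-- A divisibility of dehomogenizations is one of forms up to a power of the coordinate. -/
theorem exists_dvd_mul_pow (c : Fin (n + 1)) {d m : ℕ} {G H : MvPolynomial (Fin (n + 1)) k}
    (hG : G.IsHomogeneous d) (hH : H.IsHomogeneous m)
    (h : ZetaLib.dehom n k c G ∣ ZetaLib.dehom n k c H) : ∃ N, G ∣ H * T c ^ N := by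
  obtain ⟨a, ha⟩ := h
  obtain ⟨m', B, hB, rfl⟩ := exists_homogeneous_dehom c a
  let L := Localization (Submonoid.powers (T c))
  let am : MvPolynomial (Fin (n + 1)) k →+* L := algebraMap _ _
  have hG' := val_dehom_mul n k c hG
  have hH' := val_dehom_mul n k c hH
  have hB' := val_dehom_mul n k c hB
  rw [ha, HomogeneousLocalization.val_mul] at hH'
  have key : am (H * T c ^ (d + m')) = am (G * B * T c ^ m) := by
    simp only [am, L, map_mul, map_pow]
    rw [← hG', ← hH', ← hB']
    ring
  have hinj := IsLocalization.injective (M := Submonoid.powers (T c)) L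
    (powers_le_nonZeroDivisors_of_noZeroDivisors (MvPolynomial.X_ne_zero (R := k) c))
  exact ⟨d + m', ⟨B * T c ^ m, (hinj key).trans (mul_assoc _ _ _)⟩⟩

variable {X : Scheme.{u}} [X.Over (Spec (CommRingCat.of k))] [IsIntegral X]
  [IsProper (X ↘ Spec (CommRingCat.of k))] [Smooth (X ↘ Spec (CommRingCat.of k))]
  (φ : X ⟶ CohB1.ProjSpace n k) (hφ : φ ≫ CohB1.ProjSpace.toSpec n k = X ↘ Spec (CommRingCat.of k))

attribute [local instance] ZetaCurve.ffAlg

include hφ in
/-- The coordinates of the generic point. -/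
theorem exists_generic_point (c : Fin (n + 1)) (hc : φ (genericPoint X) ∈ Set.range (ZetaLib.chart n k c)) :
    ∃ (v : Fin (n + 1) → X.functionField) (hv : v c = 1),
      X.fromSpecStalk (genericPoint X) ≫ φ = pointAt (k := k) (K := X.functionField) c v hv := by
  have hsub : Set.range (X.fromSpecStalk (genericPoint X) ≫ φ) ⊆ Set.range (ZetaLib.chart n k c) := by
    haveI : Subsingleton (Spec (X.presheaf.stalk (genericPoint X))) :=
      inferInstanceAs (Subsingleton (PrimeSpectrum X.functionField))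
    rintro _ ⟨p, rfl⟩
    rw [Scheme.Hom.comp_apply,
      Subsingleton.elim p (IsLocalRing.closedPoint (X.presheaf.stalk (genericPoint X))),
      Scheme.fromSpecStalk_closedPoint]
    exact hc
  let a := Spec.preimage (IsOpenImmersion.lift (ZetaLib.chart n k c) _ hsub)
  have h : X.fromSpecStalk (genericPoint X) ≫ φ = Spec.map a ≫ ZetaLib.chart n k c := by
    rw [Spec.map_preimage, IsOpenImmersion.lift_fac]
  have hb : a.hom.comp (base n k c) = algebraMap k X.functionField := by
    have h1 : CommRingCat.ofHom (base n k c) ≫ a = CommRingCat.ofHom (algebraMap k X.functionField) :=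
      Spec.map_injective (by
        rw [Spec.map_comp, ← chart_toSpec, ← Category.assoc, ← h, Category.assoc, hφ,
          HyperP1.fromSpecStalk_over])
    exact congrArg CommRingCat.Hom.hom h1
  have hv : a.hom (coord n k c c) = 1 := by rw [H23.PnChart.coord_self, map_one]
  refine ⟨fun j => a.hom (coord n k c j), hv, ?_⟩
  have he : a.hom = evalAt (k := k) (K := X.functionField) c (fun j => a.hom (coord n k c j)) hv := by
    refine RingHom.ext fun w => ?_
    obtain ⟨p, rfl⟩ := surjective_dehom n k c w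
    rw [evalAt_dehom]
    induction p using MvPolynomial.induction_on with
    | C r => rw [MvPolynomial.aeval_C, ZetaLib.dehom, MvPolynomial.eval₂Hom_C]; exact congr($hb r)
    | add p q hp hq => rw [map_add, map_add, map_add, hp, hq]
    | mul_X p l hp =>
      rw [map_mul, map_mul, map_mul, hp, MvPolynomial.aeval_X, ZetaLib.dehom, MvPolynomial.eval₂Hom_X']
  rw [h, pointAt]
  congr 2
  exact CommRingCat.hom_ext he

section Chart

variable (c : Fin (n + 1)) (v : Fin (n + 1) → X.functionField) (hv : v c = 1)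
  (hgen : X.fromSpecStalk (genericPoint X) ≫ φ = pointAt (k := k) (K := X.functionField) c v hv)

include hgen

theorem aeval_eq_germ (hη : genericPoint X ∈ φ ⁻¹ᵁ LefPen.chart n k c) (F : MvPolynomial (Fin (n + 1)) k) :
    MvPolynomial.aeval (R := k) v F = (X.presheaf.germ (φ ⁻¹ᵁ LefPen.chart n k c) _ hη).hom
      ((φ.app (LefPen.chart n k c)).hom ((Proj.awayToSection 𝒜 (T c)).hom (ZetaLib.dehom n k c F))) :=
  ((germ_app φ c v hv hgen _ hη).trans (evalAt_dehom c v hv F)).symm

theorem adjoin_range_eq_top [IsClosedImmersion φ] : IntermediateField.adjoin k (Set.range v) = ⊤ := by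
  have hη := eta_mem_chart φ c v hv hgen
  haveI : Nonempty (φ ⁻¹ᵁ LefPen.chart n k c) := ⟨⟨_, hη⟩⟩
  haveI := functionField_isFractionRing_of_isAffineOpen X (φ ⁻¹ᵁ LefPen.chart n k c)
    ((isAffineOpen_chart c).preimage φ)
  have hmem : ∀ a : Γ(X, φ ⁻¹ᵁ LefPen.chart n k c),
      algebraMap Γ(X, φ ⁻¹ᵁ LefPen.chart n k c) X.functionField a ∈ IntermediateField.adjoin k (Set.range v) := by
    intro a
    obtain ⟨s, rfl⟩ := Scheme.Hom.app_surjective φ _ (isAffineOpen_chart c) a
    obtain ⟨w, rfl⟩ := ((Proj.basicOpenIsoAway 𝒜 (T c) (X_mem_one n k c)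
      Nat.one_pos).commRingCatIsoToRingEquiv).surjective s
    obtain ⟨F, rfl⟩ := surjective_dehom n k c w
    refine (show MvPolynomial.aeval (R := k) v F ∈ _ from ?_) |> fun h => (aeval_eq_germ φ c v hv hgen hη F) ▸ h
    exact (IntermediateField.algebra_adjoin_le_adjoin k (Set.range v))
      (Algebra.adjoin_range_eq_range_aeval k v ▸ ⟨F, rfl⟩)
  refine eq_top_iff.2 fun z _ => ?_
  obtain ⟨a, b, -, rfl⟩ := IsFractionRing.div_surjective (A := Γ(X, φ ⁻¹ᵁ LefPen.chart n k c)) z
  exact div_mem (hmem a) (hmem b)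

theorem exists_dvd_of_aeval_eq_zero {d : ℕ} (G : LefPen.Form n k d)
    (hker : RingHom.ker (φ.app (LefPen.chart n k c)).hom = Ideal.span {LefPen.dehom G c})
    {m : ℕ} {H : MvPolynomial (Fin (n + 1)) k} (hH : H.IsHomogeneous m)
    (h0 : MvPolynomial.aeval (R := k) v H = 0) : ∃ N, G.1 ∣ H * T c ^ N := by
  have hη := eta_mem_chart φ c v hv hgen
  refine exists_dvd_mul_pow c (isHomogeneous_form G) hH ?_
  rw [aeval_eq_germ φ c v hv hgen hη] at h0
  have h1 := germ_injective_of_isIntegral X _ hη (h0.trans (map_zero _).symm)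
  rw [← RingHom.mem_ker, hker, Ideal.mem_span_singleton, dehom_eq] at h1
  exact (map_dvd_iff (Proj.basicOpenIsoAway 𝒜 (T c) (X_mem_one n k c)
    Nat.one_pos).commRingCatIsoToRingEquiv).1 h1

theorem aeval_form_eq_zero {d : ℕ} (G : LefPen.Form n k d)
    (hker : RingHom.ker (φ.app (LefPen.chart n k c)).hom = Ideal.span {LefPen.dehom G c}) :
    MvPolynomial.aeval (R := k) v G.1 = 0 := by
  rw [aeval_eq_germ φ c v hv hgen (eta_mem_chart φ c v hv hgen) G.1, ← dehom_eq]
  have : (φ.app (LefPen.chart n k c)).hom (LefPen.dehom G c) = 0 :=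
    RingHom.mem_ker.1 (hker ▸ Ideal.mem_span_singleton_self _)
  rw [this, map_zero]

end Chart

section Hypersurface

variable {d : ℕ} (G : LefPen.Form n k d) [inst : ((LefPen.hypIdeal G).subscheme).Over (Spec (CommRingCat.of k))]
  (hinst : (LefPen.hypIdeal G).subscheme ↘ (Spec (CommRingCat.of k)) =
    (LefPen.hypIdeal G).subschemeι ≫ CohB1.ProjSpace.toSpec n k)
  [IsIntegral (LefPen.hypIdeal G).subscheme]
  [IsProper ((LefPen.hypIdeal G).subscheme ↘ Spec (CommRingCat.of k))]
  [Smooth ((LefPen.hypIdeal G).subscheme ↘ Spec (CommRingCat.of k))]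

include hinst in
/-- Coordinates generating the function field, related only by multiples of the equation. -/
theorem exists_coordinates (hG : G ≠ 0)
    (hK : FunFld.IsFunctionField k (LefPen.hypIdeal G).subscheme.functionField) :
    ∃ (v : Fin (n + 1) → (LefPen.hypIdeal G).subscheme.functionField) (c : Fin (n + 1)),
      v c = 1 ∧ IntermediateField.adjoin k (Set.range v) = ⊤ ∧ MvPolynomial.aeval (R := k) v G.1 = 0 ∧
      ∀ (m : ℕ) (H : MvPolynomial (Fin (n + 1)) k), H.IsHomogeneous m →
        MvPolynomial.aeval (R := k) v H = 0 → G.1 ∣ H := by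
  classical
  set φ := (LefPen.hypIdeal G).subschemeι
  have hker : ∀ c, RingHom.ker (φ.app (LefPen.chart n k c)).hom = Ideal.span {LefPen.dehom G c} := fun c =>
    ((LefPen.hypIdeal G).ker_subschemeι_app (chartAff c)).trans (hypIdeal_chart G c)
  obtain ⟨c, hc⟩ := exists_mem_chart (n := n) (k := k) (φ (genericPoint (LefPen.hypIdeal G).subscheme))
  obtain ⟨v, hv, hgen⟩ := exists_generic_point φ hinst.symm c hc
  have hadj := adjoin_range_eq_top φ c v hv hgen
  refine ⟨v, c, hv, hadj, aeval_form_eq_zero φ c v hv hgen G (hker c), fun m H hH h0 => ?_⟩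
  obtain ⟨N, hN⟩ := exists_dvd_of_aeval_eq_zero φ c v hv hgen G (hker c) hH h0
  refine dvd_of_mul_pow (MvPolynomial.X_prime (R := k) (i := c)) ?_ N hN
  rintro ⟨G', hG'⟩
  obtain ⟨c', hc', hvc'⟩ : ∃ c', c' ≠ c ∧ v c' ≠ 0 := by
    by_contra! h
    obtain ⟨x, hx, -⟩ := hK.1
    refine hx ?_
    have : (⊤ : IntermediateField k (LefPen.hypIdeal G).subscheme.functionField) ≤ ⊥ :=
      hadj ▸ IntermediateField.adjoin_le_iff.2 (by
        rintro _ ⟨j, rfl⟩
        rcases eq_or_ne j c with rfl | hj
        · rw [hv]; exact one_mem _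
        · rw [h j hj]; exact zero_mem _)
    obtain ⟨r, hr⟩ := IntermediateField.mem_bot.1 (this (IntermediateField.mem_top (x := x)))
    exact hr ▸ isAlgebraic_algebraMap r
  have hcl := congrArg (fun g => g (IsLocalRing.closedPoint
    ((LefPen.hypIdeal G).subscheme.presheaf.stalk (genericPoint (LefPen.hypIdeal G).subscheme)))) hgen
  simp only [Scheme.Hom.comp_apply, Scheme.fromSpecStalk_closedPoint] at hcl
  have hmem' : φ (genericPoint (LefPen.hypIdeal G).subscheme) ∈ Set.range (ZetaLib.chart n k c') :=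
    hcl ▸ (pointAt_mem_iff (k := k) c v hv c').2 hvc'
  obtain ⟨v', hv', hgen'⟩ := exists_generic_point φ hinst.symm c' hmem'
  have hcl' := congrArg (fun g => g (IsLocalRing.closedPoint
    ((LefPen.hypIdeal G).subscheme.presheaf.stalk (genericPoint (LefPen.hypIdeal G).subscheme)))) hgen'
  simp only [Scheme.Hom.comp_apply, Scheme.fromSpecStalk_closedPoint] at hcl'
  have hvc : v' c ≠ 0 := (pointAt_mem_iff (k := k) c' v' hv' c).1 (hcl' ▸ hc)
  have hG0 := aeval_form_eq_zero φ c' v' hv' hgen' G (hker c')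
  rw [hG', map_mul, MvPolynomial.aeval_X, mul_eq_zero] at hG0
  have hGne : G' ≠ 0 := fun h => hG (Subtype.ext (by rw [hG', h, mul_zero]; rfl))
  have hG'd : G'.IsHomogeneous (d - 1) := fun e he => by
    have h1 := (isHomogeneous_form G) (show MvPolynomial.coeff (Finsupp.single c 1 + e) G.1 ≠ 0 from
      by rwa [hG', MvPolynomial.coeff_X_mul])
    rw [map_add, Finsupp.weight_apply, Finsupp.sum_single_index (by simp)] at h1
    simp only [Pi.one_apply, smul_eq_mul, mul_one] at h1
    omega
  obtain ⟨N', hN'⟩ := exists_dvd_of_aeval_eq_zero φ c' v' hv' hgen' G (hker c') hG'd (hG0.resolve_left hvc)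
  rw [hG', mul_comm (T c) G', mul_dvd_mul_iff_left hGne] at hN'
  have := (MvPolynomial.X_prime (R := k) (i := c)).dvd_of_dvd_pow hN'
  rw [MvPolynomial.X_dvd_X] at this
  exact hc' this.symm

end Hypersurface

end Groth.Agent.HypX
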