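import Groth.Agent.HyperP1.FieldDeg2
import Groth.Agent.ComodLib.GradedAug
import Mathlib.RingTheory.MvPolynomial.Homogeneous

/-!
The function field of a smooth plane curve of degree `d ≥ 4` is not hyperelliptic: forms of degree `d - 3` give
its canonical map.
-/

noncomputable section

namespace Groth.Agent.HypX

open FunFld MvPolynomial WithZero
open scoped IntermediateField

universe u v

variable {k : Type u} {K : Type v} [Field k] [Field K] [Algebra k K]

/-- A divisor of degree at most `2g - 2` with at least `g` sections has the canonical sections, up to a factor. -/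
theorem exists_mul_L_eq (hK : IsFunctionField k K) {g : ℕ} (hg : genus k K = g) (hg1 : 1 ≤ g) {W D : Divisor k K}
    (hW : IsCanonical k K W) (hd : D.deg ≤ 2 * (g : ℤ) - 2) (hl : g ≤ ell D) :
    ∃ z : K, z ≠ 0 ∧ ell D = g ∧ (L D).map (LinearMap.mulLeft k z) = L W := by
  haveI := fun D : Divisor k K => FFLib.L_finite hK.1 D
  have hrr := FFLib.riemann_roch hK hW D
  obtain ⟨z, hz0, hz, -⟩ := FFLib.exists_le_add_div hK.1 (D := W - D) (by rw [hg] at hrr; omega)
  have hle : (L D).map (LinearMap.mulLeft k z) ≤ L W := by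
    rintro _ ⟨x, hx, rfl⟩
    have h := FFLib.mul_mem_L hz hx
    rwa [sub_add_cancel] at h
  have hinj : Function.Injective (LinearMap.mulLeft k z) := mul_right_injective₀ hz0
  have hWg : Module.finrank k (L W) = g := (FFLib.ell_canonical hK hW).trans hg
  have he : Module.finrank k ↥((L D).map (LinearMap.mulLeft k z)) = ell D :=
    ((L D).equivMapOfInjective _ hinj).finrank_eq.symm
  have hle' := Submodule.finrank_mono hle
  refine ⟨z, hz0, by omega, Submodule.eq_of_le_of_finrank_le hle (by omega)⟩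

theorem exp_finset_sum {α : Type*} (s : Finset α) (f : α → ℤ) : exp (∑ a ∈ s, f a) = ∏ a ∈ s, exp (f a) := by
  classical
  induction s using Finset.induction with
  | empty => simp
  | insert a s ha ih => rw [Finset.sum_insert ha, Finset.prod_insert ha, exp_add, ih]

theorem choose_two_add_le (a : ℕ) : ∀ d, (a + d).choose 2 ≤ a.choose 2 + d * (a + d) := by
  intro d
  induction d with
  | zero => simp
  | succ d ih =>
    rw [← add_assoc, Nat.choose_succ_succ' (a + d) 1, Nat.choose_one_right]
    nlinarith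

variable (hK : IsFunctionField k K) {d : ℕ} (G : MvPolynomial (Fin 3) k) (hGd : G.IsHomogeneous d) (hG0 : G ≠ 0)
  (v : Fin 3 → K) (c : Fin 3) (hv : v c = 1) (hgen : IntermediateField.adjoin k (Set.range v) = ⊤)
  (hG : aeval v G = 0) (hker : ∀ (m : ℕ) (H : MvPolynomial (Fin 3) k), H.IsHomogeneous m → aeval v H = 0 → G ∣ H)

/-- Values of forms of degree `m`. -/
def evForm (v : Fin 3 → K) (m : ℕ) : ↥(homogeneousSubmodule (Fin 3) k m) →ₗ[k] K :=
  (aeval (R := k) v).toLinearMap.comp (homogeneousSubmodule (Fin 3) k m).subtype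

theorem finrank_forms (m : ℕ) :
    Module.Finite k ↥(homogeneousSubmodule (Fin 3) k m) ∧
      Module.finrank k ↥(homogeneousSubmodule (Fin 3) k m) = (m + 2).choose 2 := by
  obtain ⟨h1, h2⟩ := ComodLib.GradedAug.finrank_homogeneous (k := k) 3 m
  refine ⟨h1, h2.trans ?_⟩
  rw [show 3 + m - 1 = m + 2 by omega]
  exact Nat.choose_symm_add

include hGd hG0 hG in
/-- Values of forms of degree `m + d` form a small space. -/
theorem finrank_range_evForm_le (m : ℕ) :
    Module.finrank k (LinearMap.range (evForm (k := k) v (m + d))) ≤ d * (m + d + 2) := by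
  haveI := (finrank_forms (k := k) (m + d)).1
  haveI := (finrank_forms (k := k) m).1
  let μ : ↥(homogeneousSubmodule (Fin 3) k m) →ₗ[k] ↥(LinearMap.ker (evForm (k := k) v (m + d))) :=
    ((LinearMap.mulRight k G).comp (homogeneousSubmodule (Fin 3) k m).subtype).codRestrict
        (homogeneousSubmodule (Fin 3) k (m + d)) (fun B => (mem_homogeneousSubmodule _ _).2
          (((mem_homogeneousSubmodule _ _).1 B.2).mul hGd)) |>.codRestrict _ (fun B => by
      show aeval v ((B : MvPolynomial (Fin 3) k) * G) = 0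
      rw [map_mul, hG, mul_zero])
  have hμ : Function.Injective μ := fun a b h =>
    Subtype.ext (mul_right_cancel₀ hG0 (congrArg (fun z => z.1.1) h))
  have h1 := LinearMap.finrank_le_finrank_of_injective hμ
  have h2 := (evForm (k := k) v (m + d)).finrank_range_add_finrank_ker
  rw [(finrank_forms (k := k) m).2] at h1
  rw [(finrank_forms (k := k) (m + d)).2] at h2
  have h3 := choose_two_add_le (m + 2) d
  rw [show m + 2 + d = m + d + 2 by omega] at h3
  omega

include hK hGd hG0 hv hgen hG in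
/-- The degree of `K` over a ratio of forms of degree `m`. -/
theorem finrank_adjoin_le {m : ℕ} {M : MvPolynomial (Fin 3) k} (hM : M.IsHomogeneous m)
    (hw : Transcendental k (aeval v M)) : Module.finrank k⟮aeval v M⟯ K ≤ d * m := by
  classical
  set w := aeval v M
  haveI := FFLib.IsFF.finite_adjoin hK.1 hw
  set n := Module.finrank k⟮w⟯ K
  -- `K` is spanned over `k(w)` by monomials in the coordinates
  let mono : (Fin 3 →₀ ℕ) → K := fun e => aeval v (monomial e (1 : k))
  have hspan : Submodule.span k⟮w⟯ (Set.range mono) = ⊤ := by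
    have hadj : Algebra.adjoin k⟮w⟯ (Set.range v) = ⊤ := by
      rw [← IntermediateField.adjoin_toSubalgebra]
      have : IntermediateField.adjoin k⟮w⟯ (Set.range v) = ⊤ := by
        rw [← IntermediateField.restrictScalars_eq_top_iff (K := k), IntermediateField.restrictScalars_adjoin,
          eq_top_iff, ← hgen]
        exact IntermediateField.adjoin.mono _ _ _ Set.subset_union_right
      rw [this, IntermediateField.top_toSubalgebra]
    refine top_le_iff.1 fun z _ => ?_
    have hz : z ∈ Algebra.adjoin k⟮w⟯ (Set.range v) := hadj ▸ Algebra.mem_top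
    rw [← Subalgebra.mem_toSubmodule, Algebra.adjoin_eq_span] at hz
    refine Submodule.span_mono ?_ hz
    intro x hx
    induction hx using Submonoid.closure_induction with
    | mem x hx =>
      obtain ⟨j, rfl⟩ := hx
      exact ⟨Finsupp.single j 1, aeval_X v j⟩
    | one => exact ⟨0, by simp [mono]⟩
    | mul x y _ _ hx hy =>
      obtain ⟨a, rfl⟩ := hx
      obtain ⟨b, rfl⟩ := hy
      exact ⟨a + b, by simp only [mono]; rw [← map_mul, monomial_mul, one_mul]⟩
  obtain ⟨bs, hbs, hbspan, hbli⟩ := exists_linearIndependent k⟮w⟯ (Set.range mono)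
  rw [hspan] at hbspan
  let B := Module.Basis.mk hbli (by rw [Subtype.range_coe]; exact hbspan.ge)
  haveI : Finite bs := Module.Finite.finite_basis B
  haveI := Fintype.ofFinite bs
  have hn : Fintype.card bs = n := (Module.finrank_eq_card_basis B).symm
  choose e he using fun b : bs => hbs b.2
  let N₀ : ℕ := ∑ b : bs, ((e b).sum fun _ a => a) + d
  by_contra! hgt
  set J : ℕ := d * (N₀ + 2) + 1 with hJ
  have hpow : LinearIndependent k fun j : Fin (J + 1) => (IntermediateField.AdjoinSimple.gen k w) ^ (j : ℕ) := by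
    refine LinearIndependent.of_comp k⟮w⟯.val.toLinearMap ?_
    have := (FFLib.linearIndependent_powers hw).comp (fun j : Fin (J + 1) => (j : ℕ)) Fin.val_injective
    simpa [Function.comp_def] using this
  have hind := linearIndependent_smul hpow hbli
  have hmem : ∀ p : Fin (J + 1) × bs,
      (IntermediateField.AdjoinSimple.gen k w) ^ (p.1 : ℕ) • (p.2 : K) ∈
        LinearMap.range (evForm (k := k) v (N₀ - d + m * J + d)) := by
    rintro ⟨j, b⟩
    let E : MvPolynomial (Fin 3) k := M ^ (j : ℕ) * monomial (e b) 1 *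
      X c ^ (N₀ + m * J - (m * j + (e b).sum fun _ a => a))
    have hle : m * j + ((e b).sum fun _ a => a) ≤ N₀ + m * J := by
      have h1 : ((e b).sum fun _ a => a) ≤ N₀ := (Finset.single_le_sum
        (f := fun b : bs => (e b).sum fun _ a => a) (fun _ _ => Nat.zero_le _) (Finset.mem_univ b)).trans
          (Nat.le_add_right _ _)
      have h2 : m * j ≤ m * J := Nat.mul_le_mul_left m (by omega)
      omega
    have hE : E ∈ homogeneousSubmodule (Fin 3) k (N₀ - d + m * J + d) := by
      rw [mem_homogeneousSubmodule]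
      have h := (((hM.pow (j : ℕ)).mul (isHomogeneous_monomial (1 : k) (d := e b)
        (n := (e b).sum fun _ a => a) rfl)).mul
          ((isHomogeneous_X k c).pow (N₀ + m * J - (m * j + (e b).sum fun _ a => a))))
      convert h using 1
      omega
    refine ⟨⟨E, hE⟩, ?_⟩
    show aeval v E = _
    rw [IntermediateField.smul_def, SubmonoidClass.coe_pow, IntermediateField.AdjoinSimple.coe_gen, smul_eq_mul]
    simp only [E, map_mul, map_pow, aeval_X, hv, one_pow, mul_one]
    rw [show aeval v (monomial (e b) (1 : k)) = (b : K) from he b]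
  haveI := (finrank_forms (k := k) (N₀ - d + m * J + d)).1
  have hli : LinearIndependent k (fun p => (⟨_, hmem p⟩ :
      LinearMap.range (evForm (k := k) v (N₀ - d + m * J + d)))) :=
    LinearIndependent.of_comp (Submodule.subtype _) hind
  have h1 := hli.fintype_card_le_finrank
  have h2 := finrank_range_evForm_le G hGd hG0 v hG (N₀ - d + m * J)
  simp only [Fintype.card_prod, Fintype.card_fin, hn] at h1
  have h3 : N₀ - d + m * J + d + 2 = N₀ + m * J + 2 := by omega
  rw [h3] at h2
  have h4 : (d * m + 1) * J ≤ (J + 1) * n := by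
    rw [mul_comm (d * m + 1)]
    exact Nat.mul_le_mul (Nat.le_succ J) hgt
  nlinarith

/-- The pole bound of the coordinates. -/
def lineDiv (v : Fin 3 → K) : Divisor k K := FFLib.poles (v 0) ⊔ FFLib.poles (v 1) ⊔ FFLib.poles (v 2)

theorem lineDiv_nonneg (v : Fin 3 → K) : (0 : Divisor k K) ≤ lineDiv v :=
  (FFLib.poles_nonneg (v 0)).trans (le_sup_left.trans le_sup_left)

theorem poles_le_lineDiv (v : Fin 3 → K) (j : Fin 3) : (FFLib.poles (v j) : Divisor k K) ≤ lineDiv v := by
  fin_cases j
  exacts [le_sup_left.trans le_sup_left, le_sup_right.trans le_sup_left, le_sup_right]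

include hK in
theorem val_le_lineDiv {m : ℕ} {H : MvPolynomial (Fin 3) k} (hH : H.IsHomogeneous m) (Q : Place k K) :
    Q.1 (aeval v H) ≤ exp ((m : ℤ) * (lineDiv v : Divisor k K) Q) := by
  classical
  rw [H.as_sum, map_sum]
  refine Valuation.map_sum_le Q.1 fun e he => ?_
  have hdeg : (e.sum fun _ a => a) = m := by
    have h := hH (mem_support_iff.1 he)
    rw [Finsupp.weight_apply] at h
    simpa using h
  rw [aeval_monomial, map_mul]
  refine (mul_le_of_le_one_left' (Q.2.1 _)).trans ?_
  rw [Finsupp.prod, map_prod]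
  have hle : ∀ j ∈ e.support, Q.1 (v j ^ e j) ≤ exp ((e j : ℤ) * (lineDiv v : Divisor k K) Q) := fun j _ => by
    rw [map_pow, ← nsmul_eq_mul, exp_nsmul]
    exact pow_le_pow_left' ((FFLib.val_le_exp_poles hK.1 (v j) Q).trans (exp_le_exp.2 (poles_le_lineDiv v j Q))) _
  refine (Finset.prod_le_prod' hle).trans (le_of_eq ?_)
  rw [← exp_finset_sum, ← Finset.sum_mul, ← hdeg, Finsupp.sum, Nat.cast_sum]

include hK in
theorem exists_good (S : Finset (Place k K)) (hS : ∀ Q ∈ S, 0 < (lineDiv v : Divisor k K) Q) :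
    ∃ (m : ℕ) (M : MvPolynomial (Fin 3) k), 0 < m ∧ M.IsHomogeneous m ∧
      ∀ Q ∈ S, Q.1 (aeval v M) = exp ((m : ℤ) * (lineDiv v : Divisor k K) Q) := by
  classical
  induction S using Finset.strongInduction with
  | H S ih =>
    rcases S.eq_empty_or_nonempty with rfl | ⟨P₀, hP₀⟩
    · exact ⟨1, X 0, one_pos, isHomogeneous_X k 0, by simp⟩
    by_cases h1 : S = {P₀}
    · subst h1
      have hpos := hS P₀ hP₀
      obtain ⟨j, hj⟩ : ∃ j, (FFLib.poles (v j) : Divisor k K) P₀ = (lineDiv v : Divisor k K) P₀ := by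
        simp only [lineDiv, Finsupp.sup_apply] at hpos ⊢
        rcases max_choice (max ((FFLib.poles (v 0) : Divisor k K) P₀) ((FFLib.poles (v 1) : Divisor k K) P₀))
          ((FFLib.poles (v 2) : Divisor k K) P₀) with h | h
        · rcases max_choice ((FFLib.poles (v 0) : Divisor k K) P₀) ((FFLib.poles (v 1) : Divisor k K) P₀) with h' | h'
          · exact ⟨0, (h.trans h').symm⟩
          · exact ⟨1, (h.trans h').symm⟩
        · exact ⟨2, h.symm⟩
      refine ⟨1, X j, one_pos, isHomogeneous_X k j, fun Q hQ => ?_⟩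
      rw [Finset.mem_singleton.1 hQ, aeval_X, Nat.cast_one, one_mul, ← hj]
      rw [← hj] at hpos
      have hj0 : v j ≠ 0 := fun h => by
        simp [h, FFLib.poles, FFLib.div_apply hK.1] at hpos
      rw [FFLib.val_eq_exp P₀ hj0]
      congr 1
      simp [FFLib.poles, FFLib.div_apply hK.1] at hpos ⊢
      omega
    have hrec : ∀ P ∈ S, ∃ (m : ℕ) (M : MvPolynomial (Fin 3) k), 0 < m ∧ M.IsHomogeneous m ∧
        ∀ Q ∈ S.erase P, Q.1 (aeval v M) = exp ((m : ℤ) * (lineDiv v : Divisor k K) Q) := fun P hP =>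
      ih _ (Finset.erase_ssubset hP) fun Q hQ => hS Q (Finset.mem_of_mem_erase hQ)
    choose! m M hm hM hgood using hrec
    by_cases hdone : ∃ P ∈ S, P.1 (aeval v (M P)) = exp ((m P : ℤ) * (lineDiv v : Divisor k K) P)
    · obtain ⟨P, hP, hPe⟩ := hdone
      refine ⟨m P, M P, hm P hP, hM P hP, fun Q hQ => ?_⟩
      by_cases hQP : Q = P
      · subst hQP; exact hPe
      · exact hgood P hP Q (Finset.mem_erase.2 ⟨hQP, hQ⟩)
    push Not at hdone
    have hbad : ∀ P ∈ S, P.1 (aeval v (M P)) < exp ((m P : ℤ) * (lineDiv v : Divisor k K) P) := fun P hP =>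
      lt_of_le_of_ne (val_le_lineDiv hK v (hM P hP) P) (hdone P hP)
    obtain ⟨P₁, hP₁⟩ : (S.erase P₀).Nonempty := by
      by_contra h
      rw [Finset.not_nonempty_iff_eq_empty, Finset.erase_eq_empty_iff] at h
      rcases h with h | h
      · rw [h] at hP₀; exact Finset.notMem_empty _ hP₀
      · exact h1 h
    set n := ∑ Q ∈ S.erase P₀, m Q with hn
    have hn0 : 0 < n := Finset.sum_pos (fun Q hQ => hm Q (Finset.mem_of_mem_erase hQ)) ⟨P₁, hP₁⟩
    have hNhom : (∏ Q ∈ S.erase P₀, M Q).IsHomogeneous n :=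
      IsHomogeneous.prod _ _ _ fun Q hQ => hM Q (Finset.mem_of_mem_erase hQ)
    have ha := hm P₀ hP₀
    refine ⟨m P₀ * n, M P₀ ^ n + (∏ Q ∈ S.erase P₀, M Q) ^ (m P₀), Nat.mul_pos ha hn0,
      ((hM P₀ hP₀).pow n).add (by rw [mul_comm]; exact hNhom.pow (m P₀)), fun R hR => ?_⟩
    set h := (lineDiv v : Divisor k K) R
    rw [map_add, map_pow, map_pow]
    have hexp : exp (((m P₀ * n : ℕ) : ℤ) * h) = exp ((m P₀ : ℤ) * h) ^ n := by
      rw [← exp_nsmul, nsmul_eq_mul]; congr 1; push_cast; ring
    have hexp' : exp (((m P₀ * n : ℕ) : ℤ) * h) = exp ((n : ℤ) * h) ^ (m P₀) := by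
      rw [← exp_nsmul, nsmul_eq_mul]; congr 1; push_cast; ring
    by_cases hR0 : R = P₀
    · subst hR0
      have hN : R.1 (aeval v (∏ Q ∈ S.erase R, M Q)) = exp ((n : ℤ) * h) := by
        rw [map_prod, map_prod, hn, Nat.cast_sum, Finset.sum_mul, exp_finset_sum]
        refine Finset.prod_congr rfl fun Q hQ => hgood Q (Finset.mem_of_mem_erase hQ) R ?_
        exact Finset.mem_erase.2 ⟨(Finset.ne_of_mem_erase hQ).symm, hR⟩
      have hlt : R.1 (aeval v (M R) ^ n) < R.1 (aeval v (∏ Q ∈ S.erase R, M Q) ^ (m R)) := by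
        rw [map_pow, map_pow, hN, ← hexp', hexp]
        exact pow_lt_pow_left₀ (hbad R hR) zero_le' hn0.ne'
      rw [R.1.map_add_eq_of_lt_right hlt, map_pow, hN, hexp']
    · have hRe := Finset.mem_erase.2 ⟨hR0, hR⟩
      have hN : R.1 (aeval v (∏ Q ∈ S.erase P₀, M Q)) < exp ((n : ℤ) * h) := by
        rw [map_prod, map_prod, hn, Nat.cast_sum, Finset.sum_mul, exp_finset_sum, ← Finset.mul_prod_erase _ _ hRe,
          ← Finset.mul_prod_erase _ (fun Q => exp (((m Q : ℕ) : ℤ) * h)) hRe]
        refine lt_of_le_of_lt (mul_le_mul_right (Finset.prod_le_prod' fun Q hQ =>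
          val_le_lineDiv hK v (hM Q (Finset.mem_of_mem_erase (Finset.mem_of_mem_erase hQ))) R) _) ?_
        exact mul_lt_mul_of_pos_right (hbad R hR) (zero_lt_iff.2 (Finset.prod_ne_zero_iff.2 fun Q _ => exp_ne_zero))
      have hM0 : R.1 (aeval v (M P₀)) = exp ((m P₀ : ℤ) * h) := hgood P₀ hP₀ R hRe
      have hlt : R.1 (aeval v (∏ Q ∈ S.erase P₀, M Q) ^ (m P₀)) < R.1 (aeval v (M P₀) ^ n) := by
        rw [map_pow, map_pow, hM0, ← hexp, hexp']
        exact pow_lt_pow_left₀ hN zero_le' ha.ne'
      rw [R.1.map_add_eq_of_lt_left hlt, map_pow, hM0, hexp]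

include hK hGd hG0 hv hgen hG in
/-- The line cuts a divisor of degree at most `d`. -/
theorem deg_lineDiv_le : (lineDiv v : Divisor k K).deg ≤ d := by
  set H : Divisor k K := lineDiv v with hH
  rcases eq_or_ne H 0 with h0 | h0
  · rw [h0, FFLib.Divisor.deg_zero]; exact Int.natCast_nonneg _
  have hpos : ∀ Q ∈ H.support, 0 < H Q := fun Q hQ =>
    lt_of_le_of_ne (lineDiv_nonneg v Q) (Finsupp.mem_support_iff.1 hQ).symm
  obtain ⟨m, M, hm, hM, hgood⟩ := exists_good hK v H.support hpos
  set w := aeval v M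
  have hle : (m : ℤ) • H ≤ FFLib.poles w := fun Q => by
    rw [Finsupp.smul_apply, smul_eq_mul]
    by_cases hQ : Q ∈ H.support
    · rcases eq_or_ne w 0 with hw | hw
      · have := hgood Q hQ
        rw [hw, map_zero] at this
        exact absurd this.symm exp_ne_zero
      · have h1 := hgood Q hQ
        rw [FFLib.val_eq_exp Q hw, exp_inj] at h1
        simp [FFLib.poles, FFLib.div_apply hK.1, hH]
        omega
    · rw [Finsupp.notMem_support_iff.1 hQ, mul_zero]; exact FFLib.poles_nonneg w Q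
  obtain ⟨Q₀, hQ₀⟩ : H.support.Nonempty := Finsupp.support_nonempty_iff.2 h0
  have hwt : Transcendental k w := FFLib.transcendental_of_not_range hK fun ⟨r, hr⟩ => by
    have h1 := hgood Q₀ hQ₀
    rw [show w = algebraMap k K r from hr.symm] at h1
    have h2 := Q₀.2.1 r
    rw [h1, ← exp_zero, exp_le_exp] at h2
    have := Int.mul_pos (show (0 : ℤ) < m by exact_mod_cast hm) (hpos Q₀ hQ₀)
    rw [hH] at this
    omega
  have h1 := FFLib.Divisor.deg_mono hle
  rw [HyperP1.deg_nsmul, FFLib.deg_poles hK.1 hwt] at h1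
  have h2 := finrank_adjoin_le hK G hGd hG0 v c hv hgen hG hM hwt
  have h3 : (m : ℤ) * H.deg ≤ (m : ℤ) * d := by
    refine h1.trans ?_
    rw [mul_comm (m : ℤ)]
    exact_mod_cast h2
  exact le_of_mul_le_mul_left h3 (by exact_mod_cast hm)

include hK hGd hG0 hv hgen hG hker in
/-- A plane curve of degree `d ≥ 4` has no canonical space inside a proper subfield. -/
theorem false_of_subfield (hd : 4 ≤ d) {g : ℕ} (hg : genus k K = g) (hgd : g = (d - 1).choose 2)
    (F : IntermediateField k K) (hF : F ≠ ⊤) (D : Divisor k K) (hD : D.deg ≤ 2 * (g : ℤ) - 2) {ι : Type*}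
    [Fintype ι] (b : ι → K) (hb : LinearIndependent k b) (hι : g ≤ Fintype.card ι) (hbD : ∀ i, b i ∈ L D)
    (hbF : ∀ i, b i ∈ F) : False := by
  haveI := fun D : Divisor k K => FFLib.L_finite hK.1 D
  have hg1 : 1 ≤ g := hgd ▸ Nat.choose_pos (by omega)
  obtain ⟨W, hW⟩ := FFLib.exists_canonical hK
  set E : Divisor k K := ((d - 3 : ℕ) : ℤ) • lineDiv v
  have hEd : E.deg ≤ 2 * (g : ℤ) - 2 := by
    rw [HyperP1.deg_nsmul]
    have h := deg_lineDiv_le hK G hGd hG0 v c hv hgen hG
    refine (mul_le_mul_of_nonneg_left h (Int.natCast_nonneg _)).trans (le_of_eq ?_)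
    obtain ⟨e, rfl⟩ : ∃ e, d = e + 3 := ⟨d - 3, by omega⟩
    have h2 : 2 * ((e + 3 - 1).choose 2) = (e + 2) * (e + 1) := by
      rw [show e + 3 - 1 = e + 2 by omega, Nat.choose_two_right, show e + 2 - 1 = e + 1 by omega,
        Nat.two_mul_div_two_of_even (by rw [mul_comm]; exact Nat.even_mul_succ_self (e + 1))]
    rw [show e + 3 - 3 = e by omega]
    have h3 : (2 * g : ℤ) = ((e : ℤ) + 2) * ((e : ℤ) + 1) := by
      subst hgd; exact_mod_cast h2
    push_cast
    linarith
  have hEmem : ∀ B : ↥(homogeneousSubmodule (Fin 3) k (d - 3)), aeval v B.1 ∈ L E := fun B Q => by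
    rw [Finsupp.smul_apply, smul_eq_mul]
    exact val_le_lineDiv hK v ((mem_homogeneousSubmodule _ _).1 B.2) Q
  have hEl : g ≤ ell E := by
    haveI := (finrank_forms (k := k) (d - 3)).1
    let f : ↥(homogeneousSubmodule (Fin 3) k (d - 3)) →ₗ[k] L E := (evForm (k := k) v (d - 3)).codRestrict _ hEmem
    have hf : Function.Injective f := (injective_iff_map_eq_zero f).2 fun B hB => by
      have h0 : aeval v B.1 = 0 := congrArg Subtype.val hB
      obtain ⟨C, hC⟩ := hker _ _ ((mem_homogeneousSubmodule _ _).1 B.2) h0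
      refine Subtype.ext ?_
      by_contra hne
      have hC0 : C ≠ 0 := fun h => hne (by rw [hC, h, mul_zero]; rfl)
      have htd : (G * C).totalDegree = d - 3 := by
        rw [← hC]; exact ((mem_homogeneousSubmodule _ _).1 B.2).totalDegree hne
      rw [totalDegree_mul_of_isDomain hG0 hC0, hGd.totalDegree hG0] at htd
      omega
    have := LinearMap.finrank_le_finrank_of_injective hf
    rw [(finrank_forms (k := k) (d - 3)).2, show d - 3 + 2 = d - 1 by omega, ← hgd] at this
    exact this
  obtain ⟨z₁, hz₁, -, he₁⟩ := exists_mul_L_eq hK hg hg1 hW hEd hEl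
  have hle : Submodule.span k (Set.range b) ≤ L D := Submodule.span_le.2 (Set.range_subset_iff.2 hbD)
  have hDl : g ≤ ell D := by
    have := Submodule.finrank_mono hle
    rw [finrank_span_eq_card hb] at this
    exact hι.trans this
  obtain ⟨z₂, hz₂, hDg, he₂⟩ := exists_mul_L_eq hK hg hg1 hW hD hDl
  have hspan : Submodule.span k (Set.range b) = L D := Submodule.eq_of_le_of_finrank_le hle (by
    rw [finrank_span_eq_card hb]; unfold ell at hDg; omega)
  have hDF : ∀ x ∈ L D, x ∈ F := fun x hx => by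
    rw [← hspan] at hx
    exact (Submodule.span_le (p := F.toSubalgebra.toSubmodule)).2 (Set.range_subset_iff.2 hbF) hx
  have hw : ∀ B : ↥(homogeneousSubmodule (Fin 3) k (d - 3)), z₂⁻¹ * z₁ * aeval v B.1 ∈ F := by
    intro B
    obtain ⟨y, hy, hy'⟩ : z₁ * aeval v B.1 ∈ (L D).map (LinearMap.mulLeft k z₂) :=
      he₂ ▸ he₁ ▸ Submodule.mem_map_of_mem (f := LinearMap.mulLeft k z₁) (hEmem B)
    rw [LinearMap.mulLeft_apply] at hy'
    rw [mul_assoc, ← hy', inv_mul_cancel_left₀ hz₂]
    exact hDF y hy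
  have h1 := hw ⟨X c ^ (d - 3), (mem_homogeneousSubmodule _ _).2 (isHomogeneous_X_pow c (d - 3))⟩
  rw [map_pow, aeval_X, hv, one_pow, mul_one] at h1
  refine hF (eq_top_iff.2 (hgen ▸ IntermediateField.adjoin_le_iff.2 ?_))
  rintro _ ⟨j, rfl⟩
  have h2 := hw ⟨X c ^ (d - 4) * X j, (mem_homogeneousSubmodule _ _).2 (by
    have := (isHomogeneous_X_pow (R := k) c (d - 4)).mul (isHomogeneous_X k j)
    rwa [show d - 4 + 1 = d - 3 by omega] at this)⟩
  rw [map_mul, map_pow, aeval_X, aeval_X, hv, one_pow, one_mul] at h2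
  have hne : z₂⁻¹ * z₁ ≠ 0 := mul_ne_zero (inv_ne_zero hz₂) hz₁
  have h3 := F.mul_mem (F.inv_mem h1) h2
  rwa [inv_mul_cancel_left₀ hne] at h3

end Groth.Agent.HypX
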