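import Groth.Agent.HypX.Smooth

/-!
Smoothness of `Y²Z = X³ + aXZ² − bZ³`.
-/

noncomputable section

set_option autoImplicit false
set_option backward.isDefEq.respectTransparency false
set_option backward.isDefEq.respectTransparency.types false

universe u

open AlgebraicGeometry CategoryTheory

namespace Groth.Agent.HypX

variable {k : Type u} [Field k] (h2 : (2 : k) ≠ 0) (a b : k) (W : LefPen.Form 2 k 3)
  (hW : (W : MvPolynomial (Fin (2 + 1)) k) = MvPolynomial.X 1 ^ 2 * MvPolynomial.X 2 - MvPolynomial.X 0 ^ 3 -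
    MvPolynomial.C a * MvPolynomial.X 0 * MvPolynomial.X 2 ^ 2 + MvPolynomial.C b * MvPolynomial.X 2 ^ 3)

include h2 hW

theorem smooth_short_cubic_iff :
    Smooth ((LefPen.hypIdeal W).subschemeι ≫ CohB1.ProjSpace.toSpec 2 k) ↔ 4 * a ^ 3 + 27 * b ^ 2 ≠ 0 := by
  have hW0 : W ≠ 0 := fun h => by
    have := congrArg (MvPolynomial.eval (![1, 0, 0] : Fin (2 + 1) → k)) hW
    rw [h] at this
    simp at this
  rw [smooth_iff_no_singular_point W hW0]
  set A := algebraMap k (AlgebraicClosure k) a
  set B := algebraMap k (AlgebraicClosure k) b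
  have hK2 : (2 : (AlgebraicClosure k)) ≠ 0 := by
    have := (map_ne_zero (algebraMap k (AlgebraicClosure k))).2 h2
    rwa [map_ofNat] at this
  have hdisc : 4 * A ^ 3 + 27 * B ^ 2 = 0 ↔ 4 * a ^ 3 + 27 * b ^ 2 = 0 := by
    rw [← map_eq_zero (algebraMap k (AlgebraicClosure k))]
    simp [A, B, map_ofNat]
  have hval : ∀ v : Fin (2 + 1) → (AlgebraicClosure k),
      MvPolynomial.aeval v W.1 = v 1 ^ 2 * v 2 - v 0 ^ 3 - A * v 0 * v 2 ^ 2 + B * v 2 ^ 3 ∧
      MvPolynomial.aeval v (MvPolynomial.pderiv 0 W.1) = -3 * v 0 ^ 2 - A * v 2 ^ 2 ∧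
      MvPolynomial.aeval v (MvPolynomial.pderiv 1 W.1) = 2 * v 1 * v 2 ∧
      MvPolynomial.aeval v (MvPolynomial.pderiv 2 W.1) = v 1 ^ 2 - 2 * A * v 0 * v 2 + 3 * B * v 2 ^ 2 := by
    intro v
    rw [hW]
    refine ⟨?_, ?_, ?_, ?_⟩ <;>
      (simp [MvPolynomial.pderiv_mul, MvPolynomial.pderiv_pow, MvPolynomial.pderiv_X, Pi.single_apply, map_ofNat, A, B];
       try ring)
  rw [show (4 * a ^ 3 + 27 * b ^ 2 ≠ 0) ↔ (4 * A ^ 3 + 27 * B ^ 2 ≠ 0) from not_congr hdisc.symm]
  constructor
  · intro h hd
    obtain ⟨X, hX1, hX2⟩ : ∃ X : (AlgebraicClosure k), X ^ 3 + A * X - B = 0 ∧ 3 * X ^ 2 + A = 0 := by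
      by_cases h3 : (3 : (AlgebraicClosure k)) = 0
      · obtain ⟨X, hX⟩ := IsAlgClosed.exists_pow_nat_eq B (n := 3) (by norm_num)
        have hA : A = 0 := by
          have : 4 * A ^ 3 = 0 := by linear_combination hd - 9 * B ^ 2 * h3
          simpa [show (4 : (AlgebraicClosure k)) = 2 * 2 by norm_num, hK2] using this
        exact ⟨X, by rw [hA, hX]; ring, by rw [hA, h3]; ring⟩
      · by_cases hA : A = 0
        · have hB : B = 0 := by
            have : 3 ^ 3 * B ^ 2 = 0 := by linear_combination hd - 4 * A ^ 2 * hA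
            simpa [h3] using this
          exact ⟨0, by rw [hA, hB]; ring, by rw [hA]; ring⟩
        · have h4 : 3 * (3 * B / (2 * A)) ^ 2 + A = 0 := by
            field_simp
            linear_combination hd
          refine ⟨3 * B / (2 * A), ?_, h4⟩
          refine (mul_eq_zero.1 (show (3 : (AlgebraicClosure k)) * ((3 * B / (2 * A)) ^ 3 + A * (3 * B / (2 * A)) - B) = 0 from ?_)).resolve_left h3
          have h5 : (2 * A) * (3 * B / (2 * A)) = 3 * B := mul_div_cancel₀ _ (mul_ne_zero hK2 hA)
          linear_combination (3 * B / (2 * A)) * h4 + h5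
    obtain ⟨j, hj, hne⟩ := h 2 ![X, 0, 1] rfl (by
      rw [(hval _).1]; simp; linear_combination -hX1)
    fin_cases j
    · apply hne
      simp only [Fin.zero_eta]
      rw [(hval _).2.1]
      simp
      linear_combination -hX2
    · apply hne
      simp only [Fin.mk_one]
      rw [(hval _).2.2.1]
      simp
    · exact hj rfl
  · intro hd c v hv h0
    rw [(hval v).1] at h0
    by_contra hc
    push Not at hc
    obtain ⟨-, e0, e1, e2⟩ := hval v
    have key : ∀ j, j ≠ c → MvPolynomial.aeval v (MvPolynomial.pderiv j W.1) = 0 := hc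
    fin_cases c
    · simp only [Fin.zero_eta] at hv
      have h1 := key 1 (by decide)
      have h2' := key 2 (by decide)
      rw [e1] at h1
      rw [e2] at h2'
      rw [hv] at h0 h2'
      by_cases hz : v 2 = 0
      · rw [hz] at h0; simp at h0
      · have hy : v 1 = 0 := by simpa [hK2, hz] using h1
        rw [hy] at h0 h2'
        have h3 : -2 * A + 3 * B * v 2 = 0 := (mul_eq_zero.1 (show v 2 * (-2 * A + 3 * B * v 2) = 0 by
          linear_combination h2')).resolve_left hz
        exact hd (by linear_combination (-27 * B ^ 2) * h0 +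
          (9 * B ^ 2 * v 2 ^ 2 - 3 * A * B * v 2 - 2 * A ^ 2) * h3)
    · simp only [Fin.mk_one] at hv
      have h00 := key 0 (by decide)
      have h2' := key 2 (by decide)
      rw [e0] at h00
      rw [e2, hv] at h2'
      rw [hv] at h0
      have hz : v 2 = 0 := by
        have : 2 * v 2 = 0 := by linear_combination 3 * h0 - v 0 * h00 - v 2 * h2'
        simpa [hK2] using this
      rw [hz] at h2'
      simp at h2'
    · simp only [Fin.reduceFinMk] at hv
      have h00 := key 0 (by decide)
      have h1 := key 1 (by decide)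
      rw [e0, hv] at h00
      rw [e1, hv] at h1
      rw [hv] at h0
      have hy : v 1 = 0 := by simpa [hK2] using h1
      rw [hy] at h0
      have hA : A = -3 * v 0 ^ 2 := by linear_combination -h00
      have hB : B = -2 * v 0 ^ 3 := by linear_combination h0 + v 0 * hA
      exact hd (by rw [hA, hB]; ring)

end Groth.Agent.HypX
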