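import Groth.Agent.HypX.NotHyper

/-!
A function field of genus at least two has at most one subfield of index two and genus zero.
-/

noncomputable section

set_option autoImplicit false
set_option linter.style.haveILetI false
set_option linter.unusedSectionVars false
set_option maxHeartbeats 800000

namespace Groth.Agent.HypX

open FunFld IntermediateField
open scoped IntermediateField

universe u

variable {k K : Type u} [Field k] [Field K] [Algebra k K]

/-- Functions in a subfield of index two and genus zero. -/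
structure ZeroData (F : IntermediateField k K) where
  B : Divisor k K
  nonneg : 0 ≤ B
  deg : B.deg = 4
  fam : ∀ n : ℕ, ∃ f : Fin (2 * n + 1) → K, LinearIndependent k f ∧ ∀ i, f i ∈ F ∧ f i ∈ L ((n : ℤ) • B)
  gens : Fin 3 → K
  li : LinearIndependent k gens
  mem : ∀ i, gens i ∈ F ∧ gens i ∈ L B
  adjoin_gens : F ≤ IntermediateField.adjoin k (Set.range gens)

theorem eq_of_le_of_index_two {F₁ F₂ : IntermediateField k K} (h : F₂ ≤ F₁)
    (h₁ : Module.finrank F₁ K = 2) (h₂ : Module.finrank F₂ K = 2) : F₁ = F₂ := by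
  refine le_antisymm (IntermediateField.relfinrank_eq_one_iff.1 ?_) h
  have := IntermediateField.relfinrank_mul_finrank_top h
  rw [h₁, h₂] at this
  omega

variable {K' : Type u} [Field K'] [Algebra k K']

/-- The image of a function field of genus zero. -/
theorem nonempty_zeroData (hK : IsFunctionField k K) (hK' : IsFunctionField k K') (hg : genus k K' = 0)
    (ψ : K' →ₐ[k] K) (h2 : Module.finrank ψ.fieldRange K = 2) : Nonempty (ZeroData ψ.fieldRange) := by
  obtain ⟨x, y, hli, hx2, hxt, hrel⟩ := exists_conic hK' hg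
  have htK : Transcendental k (ψ x) := fun ha => hxt ((isAlgebraic_algHom_iff ψ ψ.toRingHom.injective).1 ha)
  have hfin : Module.finrank k⟮ψ x⟯ K = Module.finrank k⟮x⟯ K' * 2 := by
    have hle : k⟮ψ x⟯ ≤ ψ.fieldRange := IntermediateField.adjoin_simple_le_iff.2 ⟨x, rfl⟩
    rw [← IntermediateField.relfinrank_mul_finrank_top hle, h2]
    have hmap : k⟮ψ x⟯ = k⟮x⟯.map ψ := by rw [IntermediateField.adjoin_map, Set.image_singleton]
    rw [hmap, AlgHom.fieldRange_eq_map, IntermediateField.relfinrank_map_map,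
      IntermediateField.relfinrank_top_right]
  have hgen : ∀ s : Set K', IntermediateField.adjoin k s = ⊤ →
      ψ.fieldRange ≤ IntermediateField.adjoin k (ψ '' s) := fun s hs => by
    rw [AlgHom.fieldRange_eq_map, ← hs, IntermediateField.adjoin_map]
  haveI := FFLib.IsFF.finite_adjoin hK'.1 hxt
  have hpos : 0 < Module.finrank k⟮x⟯ K' := Module.finrank_pos
  rcases (by omega : Module.finrank k⟮x⟯ K' = 1 ∨ Module.finrank k⟮x⟯ K' = 2) with hd | hd
  · -- a rational field
    have hmem : ∀ {n : ℕ} (i : ℕ), i ≤ 2 * n →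
        ψ x ^ i ∈ L ((n : ℤ) • ((2 : ℤ) • (FFLib.poles (ψ x) : Divisor k K))) := fun {n} i hi => by
      rw [smul_smul]
      exact FFLib.L_mono (HyperP1.smul_mono (FFLib.poles_nonneg _) (by omega))
        (HyperP1.pow_mem_L (HyperP1.mem_L_poles hK.1 (ψ x)) i)
    refine ⟨⟨(2 : ℤ) • FFLib.poles (ψ x), smul_nonneg (by norm_num) (FFLib.poles_nonneg _), ?_,
      fun n => ⟨fun i => ψ x ^ (i : ℕ), (FFLib.linearIndependent_powers htK).comp _ Fin.val_injective,
        fun i => ⟨⟨x ^ (i : ℕ), map_pow _ _ _⟩, hmem _ (by have := i.isLt; omega)⟩⟩,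
      fun i => ψ x ^ (i : ℕ), (FFLib.linearIndependent_powers htK).comp _ Fin.val_injective,
      fun i => ⟨⟨x ^ (i : ℕ), map_pow _ _ _⟩, ?_⟩, ?_⟩⟩
    · rw [show (2 : ℤ) = ((2 : ℕ) : ℤ) from rfl, HyperP1.deg_nsmul, FFLib.deg_poles hK.1 htK, hfin, hd]
      norm_num
    · have := hmem (n := 1) i (by have := i.isLt; omega)
      rwa [Nat.cast_one, one_smul] at this
    · refine (hgen {x} ?_).trans (IntermediateField.adjoin.mono _ _ _ ?_)
      · exact eq_top_iff.2 fun z _ => by
          obtain ⟨c, hc⟩ := finrank_eq_one_iff_of_nonzero' (1 : K') one_ne_zero |>.1 hd z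
          rw [IntermediateField.smul_def, smul_eq_mul, mul_one] at hc
          exact hc ▸ c.2
      · rintro _ ⟨_, rfl, rfl⟩
        exact ⟨1, pow_one _⟩
  · -- a conic
    have hyL : y ∈ L (FFLib.poles x : Divisor k K') := fun Q => val_le_of_conic hK' Q hrel
    have hyx : y ∉ k⟮x⟯ := fun hy => by
      obtain ⟨p, hp, hyp⟩ := HyperP1.exists_poly_of_mem hK'.1 hxt hy (n := 1)
        (by rwa [Nat.cast_one, one_smul])
      rw [Polynomial.aeval_eq_sum_range' (n := 2) (by omega), Finset.sum_range_succ, Finset.sum_range_one] at hyp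
      have := Fintype.linearIndependent_iff.1 hli ![p.coeff 0, p.coeff 1, -1] (by
        simp only [Fin.sum_univ_three, Matrix.cons_val, neg_smul, one_smul]
        rw [hyp, pow_zero, pow_one]
        abel) 2
      simp at this
    have hyK : ψ y ∈ L ((1 : ℕ) • (FFLib.poles (ψ x) : Divisor k K)) := by
      rw [one_smul]
      refine fun Q => val_le_of_conic hK Q ?_
      have h' := Submodule.mem_map_of_mem (f := ψ.toLinearMap) hrel
      rw [Submodule.map_span, ← Set.range_comp] at h'
      rw [show ψ.toLinearMap ∘ ![1, x, y, x * x, x * y] = ![1, ψ x, ψ y, ψ x * ψ x, ψ x * ψ y] by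
        funext j; fin_cases j <;> simp] at h'
      exact map_mul ψ y y ▸ h'
    have hfam : ∀ a b i, HyperP1.fam (ψ x) (ψ y) a b i = ψ (HyperP1.fam x y a b i) := fun a b i => by
      rcases i with i | i <;> simp [HyperP1.fam]
    refine ⟨⟨FFLib.poles (ψ x), FFLib.poles_nonneg _, ?_, fun n => ?_, fun i => ψ (![1, x, y] i),
      hli.map' ψ.toLinearMap (LinearMap.ker_eq_bot.2 ψ.toRingHom.injective), fun i => ⟨⟨_, rfl⟩, ?_⟩, ?_⟩⟩
    · rw [FFLib.deg_poles hK.1 htK, hfin, hd]; norm_num
    · let e : Fin (2 * n + 1) ≃ Fin (n + 1) ⊕ Fin n := (finCongr (by omega)).trans finSumFinEquiv.symm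
      refine ⟨fun i => ψ (HyperP1.fam x y (n + 1) n (e i)),
        ((HyperP1.linearIndependent_fam hxt hyx (n + 1) n).map' ψ.toLinearMap
          (LinearMap.ker_eq_bot.2 ψ.toRingHom.injective)).comp e e.injective, fun i => ⟨⟨_, rfl⟩, ?_⟩⟩
      show ψ (HyperP1.fam x y (n + 1) n (e i)) ∈ L ((n : ℤ) • (FFLib.poles (ψ x) : Divisor k K))
      rw [← hfam]
      exact HyperP1.fam_mem (n := 1) hK.1 (by rwa [← natCast_zsmul] at hyK) le_rfl le_rfl _
    · fin_cases i
      · intro Q
        show Q.1 (ψ 1) ≤ _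
        rw [map_one, map_one, ← WithZero.exp_zero]
        exact WithZero.exp_le_exp.2 (FFLib.poles_nonneg _ Q)
      · exact HyperP1.mem_L_poles hK.1 _
      · simpa using hyK
    · refine (hgen {x, y} (HyperP1.adjoin_pair_eq_top hK' hd hyx)).trans (IntermediateField.adjoin.mono _ _ _ ?_)
      rintro _ ⟨z, (rfl | rfl), rfl⟩
      exacts [⟨1, rfl⟩, ⟨2, rfl⟩]

/-- A bound on the genus by a function outside the subfield. -/
theorem genus_le_of_not_mem (hK : IsFunctionField k K) {F : IntermediateField k K} (S : ZeroData F)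
    {E : Divisor k K} (hE : 0 ≤ E) {v : K} (hv : v ∈ L E) (hvF : v ∉ F) : (genus k K : ℤ) ≤ E.deg - 1 := by
  haveI := fun D : Divisor k K => FFLib.L_finite hK.1 D
  set n := genus k K + 1 with hn
  obtain ⟨f, hf, hfm⟩ := S.fam n
  set D : Divisor k K := (n : ℤ) • S.B + E
  have hd : D.deg = 4 * n + E.deg := by
    rw [FFLib.Divisor.deg_add, HyperP1.deg_nsmul, S.deg]; ring
  have hli : LinearIndependent k (Sum.elim f fun i => f i * v) := by
    rw [Fintype.linearIndependent_iff]
    intro a ha
    simp only [Fintype.sum_sum_type, Sum.elim_inl, Sum.elim_inr] at ha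
    rw [show ∑ i, a (.inr i) • (f i * v) = (∑ i, a (.inr i) • f i) * v by
      rw [Finset.sum_mul]; exact Finset.sum_congr rfl fun i _ => (smul_mul_assoc _ _ _).symm] at ha
    have hmem : ∀ c : Fin (2 * n + 1) → k, ∑ i, c i • f i ∈ F := fun c =>
      sum_mem fun i _ => IntermediateField.smul_mem _ (hfm i).1
    have h0 : ∑ i, a (.inr i) • f i = 0 := by
      by_contra h0
      refine hvF ?_
      rw [show v = -(∑ i, a (.inl i) • f i) / (∑ i, a (.inr i) • f i) by
        rw [eq_div_iff h0]; linear_combination ha]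
      exact div_mem (neg_mem (hmem _)) (hmem _)
    rw [h0, zero_mul, add_zero] at ha
    rintro (i | i)
    · exact Fintype.linearIndependent_iff.1 hf _ ha i
    · exact Fintype.linearIndependent_iff.1 hf _ h0 i
  by_contra! hlt
  have hEd : 0 ≤ E.deg := by simpa using FFLib.Divisor.deg_mono hE
  have hmem : ∀ i, Sum.elim f (fun i => f i * v) i ∈ L D := by
    rintro (i | i)
    · exact FFLib.L_mono (le_add_of_nonneg_right hE) (hfm i).2
    · exact FFLib.mul_mem_L (hfm i).2 hv
  have h1 := (LinearIndependent.of_comp (Submodule.subtype _) (v := fun i => (⟨_, hmem i⟩ : L D))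
    hli).fintype_card_le_finrank
  have h2 := FFLib.ell_of_deg_gt hK (D := D) (by rw [hd]; omega)
  rw [hd] at h2
  simp only [Fintype.card_sum, Fintype.card_fin] at h1
  change _ ≤ ell D at h1
  omega

/-- Uniqueness of the subfield of index two and genus zero. -/
theorem index_two_unique (hK : IsFunctionField k K) {g : ℕ} (hg : genus k K = g) (hg2 : 2 ≤ g)
    {F₁ F₂ : IntermediateField k K} (S₁ : ZeroData F₁) (S₂ : ZeroData F₂)
    (h₁ : Module.finrank F₁ K = 2) (h₂ : Module.finrank F₂ K = 2) : F₁ = F₂ := by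
  haveI := fun D : Divisor k K => FFLib.L_finite hK.1 D
  obtain ⟨W, hW⟩ := FFLib.exists_canonical hK
  rcases (by omega : g = 2 ∨ g = 3 ∨ 4 ≤ g) with rfl | rfl | hg4
  · -- the canonical function
    have hl := FFLib.ell_canonical hK hW
    have hWd := FFLib.deg_canonical hK hW
    rw [hg] at hl hWd
    obtain ⟨z, hz0, -, hA⟩ := FFLib.exists_le_add_div hK.1 (D := W) (by omega)
    obtain ⟨-, x, hx2, hxE⟩ := HyperP1.exists_x_of_ell hK (by omega) hA
      (by rw [FFLib.Divisor.deg_add, FFLib.deg_div hK.1, hWd]; norm_num)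
      (by rw [FFLib.ell_add_div hK.1 _ hz0, hl])
    have hx : x ∈ L (W + FunFld.div k z) := hxE ▸ HyperP1.mem_L_poles hK.1 x
    have key : ∀ (F : IntermediateField k K), ZeroData F → Module.finrank F K = 2 → F = k⟮x⟯ := by
      intro F S h
      refine eq_of_le_of_index_two (IntermediateField.adjoin_simple_le_iff.2 ?_) h hx2
      by_contra hxF
      have := genus_le_of_not_mem hK S hA hx hxF
      rw [FFLib.Divisor.deg_add, FFLib.deg_div hK.1, hWd, hg] at this
      omega
    rw [key F₁ S₁ h₁, key F₂ S₂ h₂]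
  · -- two descriptions of the canonical map
    have hgl : ∀ {F : IntermediateField k K} (S : ZeroData F), 3 ≤ ell S.B := fun S => by
      have := (LinearIndependent.of_comp (Submodule.subtype _) (v := fun i => (⟨_, (S.mem i).2⟩ : L S.B))
        S.li).fintype_card_le_finrank
      simpa [ell] using this
    obtain ⟨z₁, hz₁, hl₁, he₁⟩ := exists_mul_L_eq hK hg (by omega) hW (by rw [S₁.deg]; norm_num) (hgl S₁)
    obtain ⟨z₂, hz₂, -, he₂⟩ := exists_mul_L_eq hK hg (by omega) hW (by rw [S₂.deg]; norm_num) (hgl S₂)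
    have hsub : ∀ y ∈ L S₁.B, y ∈ F₁ := by
      have hle : Submodule.span k (Set.range S₁.gens) ≤ L S₁.B :=
        Submodule.span_le.2 (Set.range_subset_iff.2 fun i => (S₁.mem i).2)
      have heq := Submodule.eq_of_le_of_finrank_le hle (by
        rw [finrank_span_eq_card S₁.li, Fintype.card_fin]; unfold ell at hl₁; omega)
      intro y hy
      rw [← heq] at hy
      exact (Submodule.span_le (p := F₁.toSubalgebra.toSubmodule)).2
        (Set.range_subset_iff.2 fun i => (S₁.mem i).1) hy
    have hone : (1 : K) ∈ L S₂.B := fun Q => by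
      rw [map_one, ← WithZero.exp_zero]; exact WithZero.exp_le_exp.2 (S₂.nonneg Q)
    have htr : ∀ y ∈ L S₂.B, z₁⁻¹ * z₂ * y ∈ F₁ := by
      intro y hy
      obtain ⟨a, ha, ha'⟩ : z₂ * y ∈ (L S₁.B).map (LinearMap.mulLeft k z₁) :=
        he₁ ▸ he₂ ▸ Submodule.mem_map_of_mem (f := LinearMap.mulLeft k z₂) hy
      rw [LinearMap.mulLeft_apply] at ha'
      rw [mul_assoc, ← ha', inv_mul_cancel_left₀ hz₁]
      exact hsub a ha
    refine eq_of_le_of_index_two (S₂.adjoin_gens.trans (IntermediateField.adjoin_le_iff.2 ?_)) h₁ h₂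
    rintro _ ⟨i, rfl⟩
    have h3 := F₁.mul_mem (F₁.inv_mem (htr 1 hone)) (htr _ (S₂.mem i).2)
    rwa [mul_one, inv_mul_cancel_left₀ (mul_ne_zero (inv_ne_zero hz₁) hz₂)] at h3
  · refine eq_of_le_of_index_two (S₂.adjoin_gens.trans (IntermediateField.adjoin_le_iff.2 ?_)) h₁ h₂
    rintro _ ⟨i, rfl⟩
    by_contra hi
    have := genus_le_of_not_mem hK S₁ S₂.nonneg (S₂.mem i).2 hi
    rw [S₂.deg, hg] at this
    omega

end Groth.Agent.HypX
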