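import Groth.Agent.FFLib.Elliptic
import Groth.Agent.HyperP1.AffineField

/-!
Weierstrass coordinates of a function field of genus one with a rational place: the equation, the functions
regular on the two charts, and the relations.
-/

noncomputable section

namespace Groth.Agent.HypX

open FunFld Polynomial WithZero
open scoped IntermediateField

universe u v

variable {k : Type u} {K : Type v} [Field k] [Field K] [Algebra k K]

theorem eq_single_of_mem_L {P : Place k K} {x : K} {n : ℤ} (hx : x ∈ L (Finsupp.single P n)) {Q : Place k K}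
    (hQ : Q ≠ P) : Q.1 x ≤ 1 := by
  have := hx Q
  rwa [Finsupp.single_eq_of_ne hQ, exp_zero] at this

theorem ne_zero_of_ord {P : Place k K} {x : K} (hx : P.ord x ≠ 0) : x ≠ 0 := fun e => hx (by simp [e])

/-- An element of `L((n+1)P) ∖ L(nP)` has a pole of order `n + 1`. -/
theorem exists_ord_eq (hK : IsFunctionField k K) (hg : genus k K = 1) {P : Place k K} (hP : P.deg = 1)
    {n : ℕ} (hn : 1 ≤ n) :
    ∃ x ∈ L (Finsupp.single P ((n : ℤ) + 1)), P.ord x = -((n : ℤ) + 1) := by
  haveI := fun D : Divisor k K => FFLib.L_finite hK.1 D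
  have h1 := FFLib.ell_single_of_genus_one hK hg hP hn
  have h2 := FFLib.ell_single_of_genus_one hK hg hP (n := n + 1) (by omega)
  push_cast at h2
  obtain ⟨x, hx, hx'⟩ := SetLike.not_le_iff_exists.1 fun h : L (Finsupp.single P ((n : ℤ) + 1)) ≤
      L (Finsupp.single P (n : ℤ)) => by
    have := Submodule.finrank_mono h
    unfold ell at h1 h2
    omega
  refine ⟨x, hx, ?_⟩
  have hx0 : x ≠ 0 := fun e => hx' (e ▸ Submodule.zero_mem _)
  have ha := (FFLib.val_le_exp_iff P hx0 _).1 (hx P)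
  rw [Finsupp.single_eq_same] at ha
  by_contra hne
  refine hx' fun Q => ?_
  by_cases hQ : Q = P
  · subst hQ
    rw [Finsupp.single_eq_same, FFLib.val_le_exp_iff Q hx0]
    omega
  · rw [Finsupp.single_eq_of_ne hQ, exp_zero]
    exact eq_single_of_mem_L hx hQ

/-- Weierstrass coordinates. -/
theorem exists_coords (hK : IsFunctionField k K) (hg : genus k K = 1) {P : Place k K} (hP : P.deg = 1) :
    ∃ (x y : K) (a₁ a₂ a₃ a₄ a₆ : k), x ∈ L (Finsupp.single P 2) ∧ P.ord x = -2 ∧
      y ∈ L (Finsupp.single P 3) ∧ P.ord y = -3 ∧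
      y ^ 2 + algebraMap k K a₁ * x * y + algebraMap k K a₃ * y =
        x ^ 3 + algebraMap k K a₂ * x ^ 2 + algebraMap k K a₄ * x + algebraMap k K a₆ := by
  obtain ⟨x, hx, hx2⟩ := exists_ord_eq hK hg hP (n := 1) le_rfl
  obtain ⟨y, hy, hy3⟩ := exists_ord_eq hK hg hP (n := 2) (by norm_num)
  norm_num at hx hx2 hy hy3
  obtain ⟨-, hspan⟩ := FFLib.basis_L hK hg hP hx hx2 hy hy3 (n := 6) (by norm_num)
  have h6 : y ^ 2 ∈ L (Finsupp.single P ((6 : ℕ) : ℤ)) := by
    rw [pow_two]
    have := FFLib.mul_mem_L hy hy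
    rwa [← Finsupp.single_add] at this
  rw [← hspan, Submodule.mem_span_range_iff_exists_fun] at h6
  obtain ⟨c, hc⟩ := h6
  have he : y ^ 2 = algebraMap k K (c (.inl 0)) + algebraMap k K (c (.inl 1)) * x +
      algebraMap k K (c (.inl 2)) * x ^ 2 + algebraMap k K (c (.inl 3)) * x ^ 3 +
      algebraMap k K (c (.inr 0)) * y + algebraMap k K (c (.inr 1)) * (x * y) := by
    refine hc.symm.trans ?_
    norm_num [Fintype.sum_sum_type, Fin.sum_univ_succ, Algebra.smul_def]
    rw [show (Fin.succ (2 : Fin 3)) = (3 : Fin 4) from rfl]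
    ring
  set c₀ := c (.inl 0)
  set c₁ := c (.inl 1)
  set c₂ := c (.inl 2)
  set c₃ := c (.inl 3)
  set d₀ := c (.inr 0)
  set d₁ := c (.inr 1)
  have hx0 : x ≠ 0 := ne_zero_of_ord (P := P) (by omega)
  have hy0 : y ≠ 0 := ne_zero_of_ord (P := P) (by omega)
  have hc3 : c₃ ≠ 0 := by
    intro h3
    have hcs : ∀ (a : k) (z : K), z ∈ L (Finsupp.single P (5 : ℤ)) →
        algebraMap k K a * z ∈ L (Finsupp.single P (5 : ℤ)) := fun a z hz => by
      rw [← Algebra.smul_def]; exact Submodule.smul_mem _ _ hz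
    have h1 : (1 : K) ∈ L (Finsupp.single P (0 : ℤ)) := fun Q => by simp
    have hm : ∀ {z : K} {m : ℤ}, z ∈ L (Finsupp.single P m) → m ≤ 5 → z ∈ L (Finsupp.single P (5 : ℤ)) :=
      fun hz hm => FFLib.L_mono (Finsupp.single_le_single.2 hm) hz
    have h5 : y ^ 2 ∈ L (Finsupp.single P (5 : ℤ)) := by
      rw [he, h3, map_zero, zero_mul, add_zero]
      refine add_mem (add_mem (add_mem (add_mem ?_ (hcs _ _ (hm hx (by norm_num)))) (hcs _ _ ?_))
        (hcs _ _ (hm hy (by norm_num)))) (hcs _ _ ?_)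
      · simpa using hcs c₀ _ (hm h1 (by norm_num))
      · refine hm (m := 2 + 2) ?_ (by norm_num)
        rw [Finsupp.single_add, pow_two]; exact FFLib.mul_mem_L hx hx
      · refine hm (m := 2 + 3) ?_ (by norm_num)
        rw [Finsupp.single_add]; exact FFLib.mul_mem_L hx hy
    have := (FFLib.val_le_exp_iff P (pow_ne_zero 2 hy0) _).1 (h5 P)
    rw [Finsupp.single_eq_same, FFLib.ord_pow, hy3] at this
    norm_num at this
  refine ⟨algebraMap k K c₃ * x, algebraMap k K c₃ * y, -d₁, c₂, -(d₀ * c₃), c₁ * c₃, c₀ * c₃ ^ 2,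
    ?_, ?_, ?_, ?_, ?_⟩
  · rw [← Algebra.smul_def]; exact Submodule.smul_mem _ _ hx
  · rw [FFLib.ord_mul P (by simpa using hc3) hx0, FFLib.ord_algebraMap, hx2]; norm_num
  · rw [← Algebra.smul_def]; exact Submodule.smul_mem _ _ hy
  · rw [FFLib.ord_mul P (by simpa using hc3) hy0, FFLib.ord_algebraMap, hy3]; norm_num
  · simp only [map_neg, map_mul, map_pow]
    linear_combination (algebraMap k K c₃) ^ 2 * he

section Coords

variable (hK : IsFunctionField k K) (hg : genus k K = 1) {P : Place k K} (hP : P.deg = 1) {x y : K}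
  (hx : x ∈ L (Finsupp.single P 2)) (hx2 : P.ord x = -2) (hy : y ∈ L (Finsupp.single P 3)) (hy3 : P.ord y = -3)

include hK hg hP hx hx2 hy hy3

theorem transcendental_x : Transcendental k x := by
  rw [transcendental_iff]
  intro p hp
  by_contra hp0
  have hind := (FFLib.basis_L hK hg hP hx hx2 hy hy3 (n := 2 * p.natDegree + 2) (by omega)).1
  rw [Fintype.linearIndependent_iff] at hind
  have hn : (2 * p.natDegree + 2) / 2 + 1 = p.natDegree + 2 := by omega
  have h := hind (Sum.elim (fun i => p.coeff i) 0) (by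
    simp only [Fintype.sum_sum_type, Sum.elim_inl, Sum.elim_inr, Pi.zero_apply, zero_smul,
      Finset.sum_const_zero, add_zero]
    rw [Fin.sum_univ_eq_sum_range (fun i => p.coeff i • x ^ i), ← hp,
      aeval_eq_sum_range' (n := (2 * p.natDegree + 2) / 2 + 1) (by omega)]) (Sum.inl ⟨p.natDegree, by omega⟩)
  exact hp0 (leadingCoeff_eq_zero.1 h)

theorem not_mem_adjoin : y ∉ k⟮x⟯ := by
  intro hyx
  obtain ⟨r, s, hrs⟩ := IntermediateField.mem_adjoin_simple_iff k _ |>.1 hyx
  have ht := transcendental_x hK hg hP hx hx2 hy hy3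
  rcases eq_or_ne s 0 with rfl | hs
  · rw [map_zero, div_zero] at hrs; simp [hrs] at hy3
  have hs' : aeval x s ≠ 0 := fun h => hs ((transcendental_iff_injective.1 ht) (by simpa using h))
  rw [eq_div_iff hs'] at hrs
  set N := r.natDegree + s.natDegree
  have hind := (FFLib.basis_L hK hg hP hx hx2 hy hy3 (n := 2 * N + 3) (by omega)).1
  rw [Fintype.linearIndependent_iff] at hind
  have h := hind (Sum.elim (fun i => -r.coeff i) (fun i => s.coeff i)) (by
    simp only [Fintype.sum_sum_type, Sum.elim_inl, Sum.elim_inr, neg_smul, Finset.sum_neg_distrib]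
    rw [Fin.sum_univ_eq_sum_range (fun i => r.coeff i • x ^ i),
      Fin.sum_univ_eq_sum_range (fun i => s.coeff i • (x ^ i * y)),
      ← aeval_eq_sum_range' (n := (2 * N + 3) / 2 + 1) (by omega)]
    simp_rw [← smul_mul_assoc]
    rw [← Finset.sum_mul, ← aeval_eq_sum_range' (n := (2 * N + 3 - 1) / 2) (by omega), mul_comm, hrs]
    ring) (Sum.inr ⟨s.natDegree, by omega⟩)
  exact hs (leadingCoeff_eq_zero.1 h)

theorem poles_x : (FFLib.poles x : Divisor k K) = Finsupp.single P 2 := by
  ext Q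
  rw [FFLib.poles, Finsupp.mapRange_apply, FFLib.div_apply hK.1]
  by_cases hQ : Q = P
  · subst hQ; rw [Finsupp.single_eq_same, hx2]; norm_num
  · rw [Finsupp.single_eq_of_ne hQ]
    have := (FFLib.val_le_one_iff Q (ne_zero_of_ord (P := P) (x := x) (by omega))).1 (eq_single_of_mem_L hx hQ)
    omega

theorem finrank_adjoin_x : Module.finrank k⟮x⟯ K = 2 := by
  have := FFLib.deg_poles hK.1 (transcendental_x hK hg hP hx hx2 hy hy3)
  rw [poles_x hK hg hP hx hx2 hy hy3, FFLib.Divisor.deg_single, hP] at this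
  omega

/-- The functions regular where `x` is regular. -/
theorem exists_aeval_of_regular {f : K} (hf : ∀ Q : Place k K, Q.1 x ≤ 1 → Q.1 f ≤ 1) :
    ∃ F, MvPolynomial.aeval (R := k) ![x, y, 1] F = f := by
  have hy' : y ∈ L (((1 + 1 : ℕ) : ℤ) • (FFLib.poles x : Divisor k K)) := by
    rw [poles_x hK hg hP hx hx2 hy hy3, Finsupp.smul_single]
    exact FFLib.L_mono (Finsupp.single_le_single.2 (by norm_num)) hy
  obtain ⟨F, hF⟩ := (HyperP1.range_evalPair hK hg (finrank_adjoin_x hK hg hP hx hx2 hy hy3)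
    (not_mem_adjoin hK hg hP hx hx2 hy hy3) hy' f).2 hf
  refine ⟨MvPolynomial.rename ![0, 1] F, ?_⟩
  rw [MvPolynomial.aeval_rename]
  refine Eq.trans ?_ hF
  show _ = MvPolynomial.aeval (R := k) ![x, y] F
  congr 2
  funext i; fin_cases i <;> rfl

theorem val_le_one_at_P {a b : ℤ} (h : 0 ≤ -2 * a - 3 * b) : P.1 (x ^ a * y ^ b) ≤ 1 := by
  have hx0 := ne_zero_of_ord (P := P) (x := x) (by omega)
  have hy0 := ne_zero_of_ord (P := P) (x := y) (by omega)
  rw [FFLib.val_le_one_iff P (mul_ne_zero (zpow_ne_zero _ hx0) (zpow_ne_zero _ hy0)),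
    FFLib.ord_mul P (zpow_ne_zero _ hx0) (zpow_ne_zero _ hy0), FFLib.ord_zpow, FFLib.ord_zpow, hx2, hy3]
  linarith

/-- The functions regular where `x/y` and `1/y` are regular. -/
theorem exists_aeval_of_regular' {f : K} (hf : ∀ Q : Place k K, Q.1 (x / y) ≤ 1 → Q.1 y⁻¹ ≤ 1 → Q.1 f ≤ 1) :
    ∃ F, MvPolynomial.aeval (R := k) ![x / y, 1, y⁻¹] F = f := by
  classical
  rcases eq_or_ne f 0 with rfl | hf0
  · exact ⟨0, map_zero _⟩
  have hx0 := ne_zero_of_ord (P := P) (x := x) (by omega)
  have hy0 := ne_zero_of_ord (P := P) (x := y) (by omega)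
  let S := (FFLib.finite_support_ord hK.1 f).toFinset
  set N : ℕ := (∑ Q ∈ S, (Q.ord f).natAbs) + 1 with hN
  have hg' : f * y ^ N ∈ L (Finsupp.single P ((3 * N : ℕ) : ℤ)) := by
    rw [FFLib.mem_L_iff_ord (mul_ne_zero hf0 (pow_ne_zero _ hy0))]
    intro Q
    rw [FFLib.ord_mul Q hf0 (pow_ne_zero _ hy0), FFLib.ord_pow]
    by_cases hQ : Q = P
    · subst hQ
      have h1 : Q.1 (x / y) ≤ 1 := by
        have := val_le_one_at_P hK hg hP hx hx2 hy hy3 (a := 1) (b := -1) (by norm_num)
        simpa [div_eq_mul_inv] using this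
      have h2 : Q.1 y⁻¹ ≤ 1 := by
        have := val_le_one_at_P hK hg hP hx hx2 hy hy3 (a := 0) (b := -1) (by norm_num)
        simpa using this
      have := (FFLib.val_le_one_iff Q hf0).1 (hf Q h1 h2)
      rw [Finsupp.single_eq_same, hy3]
      push_cast
      omega
    · rw [Finsupp.single_eq_of_ne hQ, neg_zero]
      have h1 := (FFLib.val_le_one_iff Q hy0).1 (eq_single_of_mem_L hy hQ)
      rcases eq_or_lt_of_le h1 with h | h
      · have h2 : Q.1 y⁻¹ ≤ 1 := by
          rw [FFLib.val_le_one_iff Q (inv_ne_zero hy0), FFLib.ord_inv, ← h]; norm_num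
        have h3 : Q.1 (x / y) ≤ 1 := by
          rw [div_eq_mul_inv, map_mul]; exact mul_le_one' (eq_single_of_mem_L hx hQ) h2
        have := (FFLib.val_le_one_iff Q hf0).1 (hf Q h3 h2)
        rw [← h, mul_zero, add_zero]; exact this
      · have h2 : (Q.ord f).natAbs ≤ N - 1 := by
          rcases eq_or_ne (Q.ord f) 0 with h0 | h0
          · rw [h0]; exact Nat.zero_le _
          · rw [hN, Nat.add_sub_cancel]
            exact Finset.single_le_sum (f := fun R : Place k K => (R.ord f).natAbs)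
              (fun _ _ => Nat.zero_le _) ((Set.Finite.mem_toFinset _).2 h0)
        have h4 : (N : ℤ) ≤ (N : ℤ) * Q.ord y := le_mul_of_one_le_right (Int.natCast_nonneg _) (by omega)
        omega
  -- monomials `x^a y^b`, `a ≤ 2`, of pole order `0, 2, 3, …, 3N`
  let deg : Fin (3 * N) → ℕ := fun i => if (i : ℕ) = 0 then 0 else i + 1
  let A : Fin (3 * N) → ℕ := fun i => (2 * deg i) % 3
  let B : Fin (3 * N) → ℕ := fun i => (deg i - 2 * A i) / 3
  have hdeg : ∀ i, 2 * A i + 3 * B i = deg i ∧ A i + B i ≤ N := by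
    intro i
    have := i.2
    simp only [A, B, deg]
    split_ifs <;> omega
  let v : Fin (3 * N) → K := fun i => x ^ A i * y ^ B i
  have hv0 : ∀ i, v i ≠ 0 := fun i => mul_ne_zero (pow_ne_zero _ hx0) (pow_ne_zero _ hy0)
  have hord : ∀ i, P.ord (v i) = -(deg i : ℤ) := fun i => by
    rw [FFLib.ord_mul P (pow_ne_zero _ hx0) (pow_ne_zero _ hy0), FFLib.ord_pow, FFLib.ord_pow, hx2, hy3,
      ← (hdeg i).1]
    push_cast; ring
  have hind : LinearIndependent k v := FFLib.linearIndependent_of_ord_injective P v hv0 (by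
    intro i j h
    simp only [hord, neg_inj, Nat.cast_inj, deg] at h
    apply Fin.ext
    split_ifs at h <;> omega)
  have hmem : ∀ i, v i ∈ L (Finsupp.single P ((3 * N : ℕ) : ℤ)) := fun i => by
    rw [FFLib.mem_L_iff_ord (hv0 i)]
    intro Q
    by_cases hQ : Q = P
    · subst hQ
      rw [Finsupp.single_eq_same, hord]
      have := i.2
      simp only [deg]
      split_ifs <;> push_cast <;> omega
    · rw [Finsupp.single_eq_of_ne hQ, neg_zero, ← FFLib.val_le_one_iff Q (hv0 i), map_mul, map_pow, map_pow]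
      exact mul_le_one' (pow_le_one₀ zero_le' (eq_single_of_mem_L hx hQ))
        (pow_le_one₀ zero_le' (eq_single_of_mem_L hy hQ))
  haveI := FFLib.L_finite hK.1 (Finsupp.single P ((3 * N : ℕ) : ℤ))
  have heq : Submodule.span k (Set.range v) = L (Finsupp.single P ((3 * N : ℕ) : ℤ)) :=
    Submodule.eq_of_le_of_finrank_eq (Submodule.span_le.2 (Set.range_subset_iff.2 hmem)) (by
      rw [finrank_span_eq_card hind, Fintype.card_fin]
      exact (FFLib.ell_single_of_genus_one hK hg hP (by omega)).symm)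
  rw [← heq, Submodule.mem_span_range_iff_exists_fun] at hg'
  obtain ⟨c, hc⟩ := hg'
  refine ⟨∑ i, MvPolynomial.C (c i) * MvPolynomial.X 0 ^ A i * MvPolynomial.X 2 ^ (N - A i - B i), ?_⟩
  refine mul_right_cancel₀ (pow_ne_zero N hy0) (Eq.trans ?_ hc)
  rw [map_sum, Finset.sum_mul]
  refine Finset.sum_congr rfl fun i _ => ?_
  simp only [map_mul, map_pow, MvPolynomial.aeval_C, MvPolynomial.aeval_X, Algebra.smul_def, v,
    Matrix.cons_val_zero, Matrix.cons_val, div_pow, inv_pow]
  have hN' : N = A i + B i + (N - A i - B i) := by have := (hdeg i).2; omega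
  conv_lhs => enter [2]; rw [hN', pow_add, pow_add]
  field_simp

end Coords

end Groth.Agent.HypX
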