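import Groth.Agent.HypX.CurveMap
import Groth.Agent.HypX.Weierstrass
import Groth.Agent.HyperP1.Hyper
import Groth.Agent.CurveBC.Geometry

/-!
A curve of genus one with a rational point is a plane cubic in Weierstrass form.
-/

noncomputable section

set_option autoImplicit false
set_option linter.style.haveILetI false
set_option linter.unusedSectionVars false
set_option backward.isDefEq.respectTransparency false
set_option backward.isDefEq.respectTransparency.types false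

universe u

open CategoryTheory CategoryTheory.Limits AlgebraicGeometry TopologicalSpace
open Groth.Agent.ZetaLib
open Groth.Agent.CurveCohLib.Polar (InR)
open HomogeneousLocalization (Away)
open scoped IntermediateField

namespace Groth.Agent.HypX

section

attribute [local instance] GeomField.globalAlgebra

/-- A connected proper smooth scheme with a rational point has only the constants as global functions. -/
theorem finrank_h0_of_point (k : Type u) [Field k] (X : Scheme.{u}) [X.Over (Spec (CommRingCat.of k))]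
    [IsProper (X ↘ Spec (CommRingCat.of k))] [IsIntegral X] (o : Spec (CommRingCat.of k) ⟶ X)
    (ho : o ≫ (X ↘ Spec (CommRingCat.of k)) = 𝟙 _) :
    Module.finrank k (Coh.HH X (Coh.structureModule X) 0) = 1 := by
  rw [GeomField.finrank_HH_zero k X]
  let f := X ↘ Spec (CommRingCat.of k)
  letI : Field Γ(X, ⊤) := (isField_of_universallyClosed k f).toField
  let r : Γ(X, ⊤) →+* k := (Scheme.ΓSpecIso (CommRingCat.of k)).hom.hom.comp o.appTop.hom
  have hr : ∀ c : k, r (algebraMap k Γ(X, ⊤) c) = c := by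
    intro c
    have h1 : f.appTop ≫ o.appTop = 𝟙 _ := by rw [← Scheme.Hom.comp_appTop, ho, Scheme.Hom.id_appTop]
    show (Scheme.ΓSpecIso (CommRingCat.of k)).hom.hom (o.appTop.hom (f.appTop.hom
      ((Scheme.ΓSpecIso (CommRingCat.of k)).inv.hom c))) = c
    rw [show o.appTop.hom (f.appTop.hom ((Scheme.ΓSpecIso (CommRingCat.of k)).inv.hom c)) =
      (Scheme.ΓSpecIso (CommRingCat.of k)).inv.hom c from congr($h1 ((Scheme.ΓSpecIso (CommRingCat.of k)).inv.hom c))]
    exact ConcreteCategory.congr_hom (Scheme.ΓSpecIso (CommRingCat.of k)).inv_hom_id c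
  exact (LinearEquiv.finrank_eq (AlgEquiv.ofBijective (Algebra.ofId k Γ(X, ⊤))
    ⟨(algebraMap k Γ(X, ⊤)).injective, fun y => ⟨r y, r.injective (hr _)⟩⟩).toLinearEquiv).symm.trans
      (Module.finrank_self k)

end

variable {k : Type u} [Field k]

local notation "𝒜" => CohB1.polyGrading 2 k
local notation "T" => (MvPolynomial.X : Fin (2 + 1) → MvPolynomial (Fin (2 + 1)) k)

/-- The Weierstrass cubic polynomial. -/
def wPoly (a₁ a₂ a₃ a₄ a₆ : k) : MvPolynomial (Fin (2 + 1)) k :=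
  MvPolynomial.X 1 ^ 2 * MvPolynomial.X 2 + MvPolynomial.C a₁ * MvPolynomial.X 0 * MvPolynomial.X 1 * MvPolynomial.X 2 +
    MvPolynomial.C a₃ * MvPolynomial.X 1 * MvPolynomial.X 2 ^ 2 - MvPolynomial.X 0 ^ 3 -
    MvPolynomial.C a₂ * MvPolynomial.X 0 ^ 2 * MvPolynomial.X 2 -
    MvPolynomial.C a₄ * MvPolynomial.X 0 * MvPolynomial.X 2 ^ 2 - MvPolynomial.C a₆ * MvPolynomial.X 2 ^ 3

theorem wPoly_mem (a₁ a₂ a₃ a₄ a₆ : k) : wPoly a₁ a₂ a₃ a₄ a₆ ∈ CohB1.polyGrading 2 k 3 := by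
  rw [MvPolynomial.mem_homogeneousSubmodule]
  have hX : ∀ i : Fin (2 + 1), (MvPolynomial.X i : MvPolynomial (Fin (2 + 1)) k).IsHomogeneous 1 :=
    MvPolynomial.isHomogeneous_X k
  have hC : ∀ c : k, (MvPolynomial.C c : MvPolynomial (Fin (2 + 1)) k).IsHomogeneous 0 :=
    MvPolynomial.isHomogeneous_C _
  exact (((((((hX 1).pow 2).mul (hX 2)).add ((((hC a₁).mul (hX 0)).mul (hX 1)).mul (hX 2))).add
    (((hC a₃).mul (hX 1)).mul ((hX 2).pow 2))).sub ((hX 0).pow 3)).sub
    (((hC a₂).mul ((hX 0).pow 2)).mul (hX 2))).sub (((hC a₄).mul (hX 0)).mul ((hX 2).pow 2))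
    |>.sub ((hC a₆).mul ((hX 2).pow 3))

theorem not_X_dvd_wPoly (a₁ a₂ a₃ a₄ a₆ : k) : ¬ MvPolynomial.X 2 ∣ wPoly a₁ a₂ a₃ a₄ a₆ := by
  rintro ⟨c, hc⟩
  have h := congrArg (MvPolynomial.eval (![1, 0, 0] : Fin (2 + 1) → k)) hc
  simp [wPoly] at h

theorem dvd_of_X_pow_mul {W H : MvPolynomial (Fin (2 + 1)) k} (hW : ¬ MvPolynomial.X 2 ∣ W) :
    ∀ j : ℕ, W ∣ MvPolynomial.X 2 ^ j * H → W ∣ H := by
  intro j
  induction j generalizing H with
  | zero => simp
  | succ j ih =>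
    rintro ⟨B, hB⟩
    refine ih ?_
    have h2 : MvPolynomial.X 2 ∣ W * B := ⟨MvPolynomial.X 2 ^ j * H, by rw [← hB, pow_succ]; ring⟩
    obtain ⟨B', rfl⟩ := ((MvPolynomial.X_prime (i := (2 : Fin (2 + 1)))).dvd_mul.1 h2).resolve_left hW
    refine ⟨B', mul_left_cancel₀ (MvPolynomial.X_ne_zero (2 : Fin (2 + 1))) ?_⟩
    rw [← mul_assoc, ← pow_succ', hB]
    ring

variable {X : Scheme.{u}} [X.Over (Spec (CommRingCat.of k))] [IsIntegral X]
  [IsProper (X ↘ Spec (CommRingCat.of k))] [Smooth (X ↘ Spec (CommRingCat.of k))]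

attribute [local instance] ZetaCurve.ffAlg

/-- Relations between Weierstrass coordinates are multiples of the equation. -/
theorem wPoly_dvd {K : Type u} [Field K] [Algebra k K] {x y : K} (hyx : y ∉ k⟮x⟯) (ht : Transcendental k x)
    {a₁ a₂ a₃ a₄ a₆ : k}
    (heq : y ^ 2 + algebraMap k K a₁ * x * y + algebraMap k K a₃ * y =
      x ^ 3 + algebraMap k K a₂ * x ^ 2 + algebraMap k K a₄ * x + algebraMap k K a₆)
    {m : ℕ} {H : MvPolynomial (Fin (2 + 1)) k} (hH : H.IsHomogeneous m)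
    (h0 : MvPolynomial.aeval (R := k) ![x, y, 1] H = 0) : wPoly a₁ a₂ a₃ a₄ a₆ ∣ H := by
  let p : Polynomial k := Polynomial.X ^ 3 + Polynomial.C a₂ * Polynomial.X ^ 2 + Polynomial.C a₄ * Polynomial.X +
    Polynomial.C a₆
  let q : Polynomial k := Polynomial.C a₁ * Polynomial.X + Polynomial.C a₃
  have he : y ^ 2 + Polynomial.aeval x q * y = Polynomial.aeval x p := by
    simp only [p, q, map_add, map_mul, map_pow, Polynomial.aeval_X, Polynomial.aeval_C]
    linear_combination heq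
  let σ : MvPolynomial (Fin (2 + 1)) k →ₐ[k] MvPolynomial (Fin 2) k :=
    MvPolynomial.aeval ![MvPolynomial.X 0, MvPolynomial.X 1, 1]
  have hσ : (HyperP1.evalPair (k := k) x y).comp σ = MvPolynomial.aeval (R := k) ![x, y, 1] := by
    refine MvPolynomial.algHom_ext fun i => ?_
    fin_cases i <;> simp [σ, HyperP1.evalPair]
  have hmem : σ H ∈ Ideal.span {HyperP1.rel p q} := by
    rw [← HyperP1.ker_evalPair x y p q ht hyx he]
    exact (congr($hσ H)).trans h0
  let ρ : MvPolynomial (Fin 2) k →+* Away 𝒜 (T 2) :=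
    MvPolynomial.eval₂Hom (base 2 k 2) ![coord 2 k 2 0, coord 2 k 2 1]
  have hρ : ρ.comp σ.toRingHom = ZetaLib.dehom 2 k 2 := by
    refine MvPolynomial.ringHom_ext (fun r => ?_) fun i => ?_
    · simp [σ, ρ, ZetaLib.dehom]
    · fin_cases i <;> simp [σ, ρ, ZetaLib.dehom, H23.PnChart.coord_self]
  have hrel : σ (wPoly a₁ a₂ a₃ a₄ a₆) = HyperP1.rel p q := by
    simp [σ, wPoly, HyperP1.rel, p, q, MvPolynomial.algebraMap_eq]
    ring
  have hd : ZetaLib.dehom 2 k 2 (wPoly a₁ a₂ a₃ a₄ a₆) ∣ ZetaLib.dehom 2 k 2 H := by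
    rw [← hρ, RingHom.comp_apply, RingHom.comp_apply]
    refine map_dvd ρ ?_
    show σ _ ∣ σ H
    rw [hrel]
    exact Ideal.mem_span_singleton.1 hmem
  obtain ⟨c, hc⟩ := hd
  obtain ⟨l, B, hB, rfl⟩ := exists_homogeneous_dehom (2 : Fin (2 + 1)) c
  have hW : (wPoly a₁ a₂ a₃ a₄ a₆).IsHomogeneous 3 :=
    (MvPolynomial.mem_homogeneousSubmodule 3 _).1 (wPoly_mem a₁ a₂ a₃ a₄ a₆)
  refine dvd_of_X_pow_mul (not_X_dvd_wPoly a₁ a₂ a₃ a₄ a₆) (3 + l) ⟨B * MvPolynomial.X 2 ^ m, ?_⟩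
  have hinj : Function.Injective
      (algebraMap (MvPolynomial (Fin (2 + 1)) k) (Localization (Submonoid.powers (T 2)))) :=
    IsLocalization.injective (M := Submonoid.powers (T 2)) _ (powers_le_nonZeroDivisors_of_noZeroDivisors (MvPolynomial.X_ne_zero _))
  apply hinj
  rw [map_mul, map_mul, map_mul, map_pow, map_pow, ← val_dehom_mul 2 k 2 hH, ← val_dehom_mul 2 k 2 hW,
    ← val_dehom_mul 2 k 2 hB, hc, HomogeneousLocalization.val_mul]
  ring

variable (hdim : topologicalKrullDim X = 1)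
  (h0 : Module.finrank k (Coh.HH X (Coh.structureModule X) 0) = 1) (hg : Curv2.genus k X = 1)

include hdim h0 hg in
/-- Weierstrass coordinates give an isomorphism onto the cubic. -/
theorem exists_iso_of_coords {Pl : FunFld.Place k X.functionField} (hP : Pl.deg = 1) {x y : X.functionField}
    (hx : x ∈ FunFld.L (Finsupp.single Pl 2)) (hx2 : Pl.ord x = -2)
    (hy : y ∈ FunFld.L (Finsupp.single Pl 3)) (hy3 : Pl.ord y = -3) {a₁ a₂ a₃ a₄ a₆ : k}
    (heq : y ^ 2 + algebraMap k X.functionField a₁ * x * y + algebraMap k X.functionField a₃ * y =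
      x ^ 3 + algebraMap k X.functionField a₂ * x ^ 2 + algebraMap k X.functionField a₄ * x +
        algebraMap k X.functionField a₆)
    (W : LefPen.Form 2 k 3) (hW : W.1 = wPoly a₁ a₂ a₃ a₄ a₆) :
    ∃ e : X ≅ (LefPen.hypIdeal W).subscheme,
      e.hom ≫ (LefPen.hypIdeal W).subschemeι ≫ CohB1.ProjSpace.toSpec 2 k = X ↘ Spec (CommRingCat.of k) := by
  have hK := ZetaCurve.isFunctionField k X hdim h0
  have hgK : FunFld.genus k X.functionField = 1 := (ZetaCurve.genus_eq k X hdim h0).trans hg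
  have hx0 := ne_zero_of_ord (P := Pl) (x := x) (by omega)
  have hy0 := ne_zero_of_ord (P := Pl) (x := y) (by omega)
  let v2 : Fin (2 + 1) → X.functionField := ![x, y, 1]
  let v1 : Fin (2 + 1) → X.functionField := ![x / y, 1, y⁻¹]
  haveI : IsProper (CohB1.ProjSpace.toSpec 2 k) := PnCoh.Chow.isProper_toSpec 2 k
  haveI : (CohB1.ProjSpace 2 k).IsSeparated :=
    ⟨by rw [← Limits.terminal.comp_from (CohB1.ProjSpace.toSpec 2 k)]; infer_instance⟩
  haveI := H23.PnChart.isIntegral_projSpace 2 k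
  have h₀ : pointAt (k := k) (K := X.functionField) 2 v2 rfl ≫ CohB1.ProjSpace.toSpec 2 k =
      X.fromSpecStalk (genericPoint X) ≫ (X ↘ Spec (CommRingCat.of k)) := by
    rw [pointAt, Category.assoc, chart_toSpec, HyperP1.fromSpecStalk_over, ← Spec.map_comp,
      ← CommRingCat.ofHom_comp, evalAt_base]
  obtain ⟨U, hU, φ₀, hsub, hφ₀, hφ₀'⟩ := H23.RatExtend.extend (X ↘ Spec (CommRingCat.of k))
    (CohB1.ProjSpace.toSpec 2 k) _ h₀ Set.univ
    fun p _ => H23.RatExtend.exists_lift _ _ _ h₀ p (HyperP1.valuationRing_stalk k hdim p)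
  haveI : IsIso U.ι := by
    have : Surjective U.ι := ⟨fun z => ⟨⟨z, hsub trivial⟩, rfl⟩⟩
    exact (isIso_iff_isOpenImmersion_and_surjective _).2 ⟨inferInstance, this⟩
  let φ : X ⟶ CohB1.ProjSpace 2 k := inv U.ι ≫ φ₀
  have hφ : φ ≫ CohB1.ProjSpace.toSpec 2 k = X ↘ Spec (CommRingCat.of k) := by
    rw [Category.assoc, hφ₀, IsIso.inv_hom_id_assoc]
  have hgen2 : X.fromSpecStalk (genericPoint X) ≫ φ = pointAt (k := k) 2 v2 rfl := by
    rw [← hφ₀', ← Scheme.Opens.fromSpecStalkOfMem_ι U (genericPoint X) hU, Category.assoc,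
      IsIso.hom_inv_id_assoc]
  have hgen1 : X.fromSpecStalk (genericPoint X) ≫ φ = pointAt (k := k) 1 v1 rfl := by
    refine hgen2.trans (pointAt_congr v2 rfl v1 rfl y⁻¹ fun l => ?_).symm
    fin_cases l <;> simp [v1, v2, hy0, div_eq_mul_inv, mul_comm]
  obtain ⟨z₀, hz₀⟩ := (ZetaCurve.pl k X hdim).surjective Pl
  have hz₀' : φ z₀.1 ∉ LefPen.chart 2 k 2 := fun h => by
    have h1 := (ZetaCurve.valAt_le_one_iff k X hdim z₀ x).2 ((mem_chart_iff hdim φ 2 v2 rfl hgen2 z₀.1).1 h 0)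
    have h2 := (FFLib.val_le_one_iff Pl hx0).1 (hz₀ ▸ h1)
    omega
  haveI := isFinite_of_separated hdim φ hφ (LefPen.chart 2 k 2) z₀.1 hz₀' (eta_mem_chart φ 2 v2 rfl hgen2)
  have heval : ∀ c : Fin (2 + 1), ∀ (v : Fin (2 + 1) → X.functionField) (s : X.functionField),
      (∀ l, v l = s * v2 l) → ∀ (m : ℕ) (H : MvPolynomial (Fin (2 + 1)) k), H.IsHomogeneous m →
        MvPolynomial.aeval (R := k) v H = s ^ m * MvPolynomial.aeval (R := k) v2 H := fun _ v s hv m H hH => by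
    rw [show v = s • v2 from funext hv, MvPolynomial.aeval_def, MvPolynomial.aeval_def]
    exact eval₂_smul hH s v2
  have hW2 : MvPolynomial.aeval (R := k) v2 W.1 = 0 := by
    rw [hW, wPoly]
    simp [v2]
    linear_combination heq
  have hyx := not_mem_adjoin hK hgK hP hx hx2 hy hy3
  have ht := transcendental_x hK hgK hP hx hx2 hy hy3
  have hdvd : ∀ (m : ℕ) (H : MvPolynomial (Fin (2 + 1)) k), H.IsHomogeneous m →
      MvPolynomial.aeval (R := k) v2 H = 0 → W.1 ∣ H := fun m H hH hv => by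
    rw [hW]; exact wPoly_dvd hyx ht heq hH hv
  have hv1 : ∀ l, v1 l = y⁻¹ * v2 l := fun l => by
    fin_cases l <;> simp [v1, v2, hy0, div_eq_mul_inv, mul_comm]
  refine exists_iso_hypersurface hdim φ hφ W (fun c => c = 1 ∨ c = 2) ?_ ?_ ?_
  · rintro c (rfl | rfl)
    · refine app_surjective_ker hdim φ 1 v1 rfl hgen1 W (fun f hf => ?_) ?_ fun m H hH hv => ?_
      · exact exists_aeval_of_regular' hK hgK hP hx hx2 hy hy3 fun Q hu hw => hf Q fun j => by
          fin_cases j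
          · exact hu
          · simp [v1]
          · exact hw
      · rw [heval 1 v1 y⁻¹ hv1 3 W.1 (isHomogeneous_form W), hW2, mul_zero]
      · rw [heval 1 v1 y⁻¹ hv1 m H hH] at hv
        exact hdvd m H hH ((mul_eq_zero.1 hv).resolve_left (pow_ne_zero _ (inv_ne_zero hy0)))
    · refine app_surjective_ker hdim φ 2 v2 rfl hgen2 W (fun f hf => ?_) hW2 hdvd
      exact exists_aeval_of_regular hK hgK hP hx hx2 hy hy3 fun Q hQ => hf Q fun j => by
        fin_cases j
        · exact hQ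
        · by_cases hQP : Q = Pl
          · subst hQP
            have := (FFLib.val_le_one_iff Q hx0).1 hQ
            omega
          · exact eq_single_of_mem_L hy hQP
        · simp [v2]
  · intro z
    rcases ZetaCurve.eq_or_isClosed k X hdim z with rfl | hz
    · exact ⟨2, Or.inr rfl, eta_mem_chart φ 2 v2 rfl hgen2⟩
    · have hval : ∀ f : X.functionField, (ZetaCurve.pl k X hdim ⟨z, hz⟩).1 f ≤ 1 → InR z f := fun f h =>
        (ZetaCurve.valAt_le_one_iff k X hdim ⟨z, hz⟩ f).1 h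
      by_cases hQ : ZetaCurve.pl k X hdim ⟨z, hz⟩ = Pl
      · refine ⟨1, Or.inl rfl, (mem_chart_iff hdim φ 1 v1 rfl hgen1 z).2 fun j => hval _ ?_⟩
        rw [hQ]
        fin_cases j
        · show Pl.1 (x / y) ≤ 1
          rw [FFLib.val_le_one_iff Pl (div_ne_zero hx0 hy0), div_eq_mul_inv,
            FFLib.ord_mul Pl hx0 (inv_ne_zero hy0), FFLib.ord_inv, hx2, hy3]
          norm_num
        · simp [v1]
        · show Pl.1 y⁻¹ ≤ 1
          rw [FFLib.val_le_one_iff Pl (inv_ne_zero hy0), FFLib.ord_inv, hy3]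
          norm_num
      · refine ⟨2, Or.inr rfl, (mem_chart_iff hdim φ 2 v2 rfl hgen2 z).2 fun j => hval _ ?_⟩
        fin_cases j
        · exact eq_single_of_mem_L hx hQ
        · exact eq_single_of_mem_L hy hQ
        · simp [v2]
  · intro p
    obtain ⟨c, hc⟩ := exists_mem_chart (n := 2) (k := k) p
    rw [← Scheme.Hom.coe_opensRange, opensRange_chart] at hc
    fin_cases c
    · have hh : ZetaLib.dehom 2 k 0 W.1 = -1 + coord 2 k 0 2 *
          ZetaLib.dehom 2 k 0 (MvPolynomial.X 1 ^ 2 + MvPolynomial.C a₁ * MvPolynomial.X 1 +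
            MvPolynomial.C a₃ * MvPolynomial.X 1 * MvPolynomial.X 2 - MvPolynomial.C a₂ -
            MvPolynomial.C a₄ * MvPolynomial.X 2 - MvPolynomial.C a₆ * MvPolynomial.X 2 ^ 2) := by
        rw [hW, wPoly]
        simp [ZetaLib.dehom, H23.PnChart.coord_self]
        ring
      rcases mem_chart_or_basicOpen W hh p hc with h | h
      · exact Or.inl ⟨2, Or.inr rfl, h⟩
      · exact Or.inr ⟨0, h⟩
    · exact Or.inl ⟨1, Or.inl rfl, hc⟩
    · exact Or.inl ⟨2, Or.inr rfl, hc⟩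

/-- A curve of genus one with a rational point is a Weierstrass cubic. -/
theorem exists_weierstrass (hdim : topologicalKrullDim X = 1) (hg : Curv2.genus k X = 1)
    (o : Spec (CommRingCat.of k) ⟶ X) (ho : o ≫ (X ↘ Spec (CommRingCat.of k)) = 𝟙 _) :
    ∃ (a₁ a₂ a₃ a₄ a₆ : k) (W : LefPen.Form 2 k 3), W.1 = wPoly a₁ a₂ a₃ a₄ a₆ ∧
      ∃ e : X ≅ (LefPen.hypIdeal W).subscheme,
        e.hom ≫ (LefPen.hypIdeal W).subschemeι ≫ CohB1.ProjSpace.toSpec 2 k = X ↘ Spec (CommRingCat.of k) := by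
  have h0 := finrank_h0_of_point k X o ho
  obtain ⟨Pl, hP⟩ := HyperP1.exists_place_deg_one k hdim h0 o ho
  obtain ⟨x, y, a₁, a₂, a₃, a₄, a₆, hx, hx2, hy, hy3, heq⟩ := exists_coords
    (ZetaCurve.isFunctionField k X hdim h0) ((ZetaCurve.genus_eq k X hdim h0).trans hg) hP
  exact ⟨a₁, a₂, a₃, a₄, a₆, ⟨_, wPoly_mem a₁ a₂ a₃ a₄ a₆⟩, rfl,
    exists_iso_of_coords hdim h0 hg hP hx hx2 hy hy3 heq _ rfl⟩

end Groth.Agent.HypX
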